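import Mathlib

/-!
# Odd-order automorphism groups of `C_p × C_p` : part a (stabiliser of a line)

`V` is a finite commutative group of order `p ^ 2` and exponent `p`.  A *line* is a subgroup of order `p`.
If a subgroup `X` of `MulAut V` leaves a line invariant, every element of the commutator subgroup
`⁅X, X⁆` has order dividing `p`.
-/

set_option autoImplicit false

namespace Cfsg.Agent.Lib.Helper26.OddGL2

open scoped commutatorElement

variable {V : Type*} [CommGroup V]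

/-- `X` leaves the subgroup `L` invariant. -/
def Inv (X : Subgroup (MulAut V)) (L : Subgroup V) : Prop := ∀ α ∈ X, ∀ l ∈ L, α l ∈ L

/-- an automorphism mapping a subgroup of prime order into itself is a power map on it. -/
theorem pow_on_line {p : ℕ} [Fact p.Prime] (L : Subgroup V) (hL : Nat.card L = p) (α : MulAut V)
    (hα : ∀ l ∈ L, α l ∈ L) : ∃ k : ℕ, ∀ l ∈ L, α l = l ^ k := by
  have : IsCyclic L := isCyclic_of_prime_card hL
  obtain ⟨g, hg⟩ := IsCyclic.exists_generator (α := L)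
  have h1 : α (g : V) ∈ L := hα _ g.2
  obtain ⟨k, hk⟩ := Subgroup.mem_zpowers_iff.1 (hg ⟨α (g : V), h1⟩)
  have hfin : Finite L := Nat.finite_of_card_ne_zero (by rw [hL]; exact (Fact.out : p.Prime).ne_zero)
  -- reduce to a natural exponent
  have hk' : ∃ k' : ℕ, (g : V) ^ k' = α (g : V) := by
    have ho : (g : L) ^ (k % (orderOf g : ℤ)) = g ^ k := zpow_mod_orderOf g k
    have hpos : 0 < orderOf g := orderOf_pos g
    refine ⟨(k % (orderOf g : ℤ)).toNat, ?_⟩
    have h2 : ((k % (orderOf g : ℤ)).toNat : ℤ) = k % (orderOf g : ℤ) :=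
      Int.toNat_of_nonneg (Int.emod_nonneg _ (by exact_mod_cast hpos.ne'))
    have h3 : (g : L) ^ (k % (orderOf g : ℤ)).toNat = g ^ k := by
      rw [← zpow_natCast, h2, ho]
    have := congrArg (Subtype.val) (h3.trans hk)
    simpa using this
  obtain ⟨k', hk'⟩ := hk'
  refine ⟨k', fun l hl => ?_⟩
  obtain ⟨j, hj⟩ := Subgroup.mem_zpowers_iff.1 (hg ⟨l, hl⟩)
  have hl' : l = (g : V) ^ j := by
    have := congrArg Subtype.val hj
    simpa using this.symm
  rw [hl', map_zpow, ← hk', ← zpow_natCast, ← zpow_natCast, ← zpow_mul, ← zpow_mul, mul_comm]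

theorem cancel_aux (a b c d : V) : a * b * c * (a * d)⁻¹ = b * c * d⁻¹ := by
  rw [mul_inv]
  calc a * b * c * (a⁻¹ * d⁻¹) = (a * a⁻¹) * (b * c * d⁻¹) := by
        simp only [mul_comm, mul_left_comm, mul_assoc]
    _ = b * c * d⁻¹ := by rw [mul_inv_cancel, one_mul]

/-- a line and an element outside it generate `V`. -/
theorem exists_decomp {p : ℕ} [Fact p.Prime] [Finite V] (hV : Nat.card V = p ^ 2) (L : Subgroup V)
    (hL : Nat.card L = p) (w : V) (hw : w ∉ L) : ∀ v : V, ∃ j : ℤ, ∃ l ∈ L, v = w ^ j * l := by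
  have hp := (Fact.out : p.Prime)
  have htop : Subgroup.zpowers w ⊔ L = ⊤ := by
    set S := Subgroup.zpowers w ⊔ L with hS
    have hLS : L ≤ S := le_sup_right
    have hwS : w ∈ S := (le_sup_left : Subgroup.zpowers w ≤ S) (Subgroup.mem_zpowers w)
    have hlt : L < S := lt_of_le_of_ne hLS (fun h => hw (h ▸ hwS))
    have h1 : Nat.card L < Nat.card S := by
      have hss : (L : Set V) ⊂ (S : Set V) := hlt
      have := Set.ncard_lt_ncard hss (Set.toFinite _)
      have h2 : Nat.card L = (L : Set V).ncard := Nat.card_coe_set_eq (L : Set V)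
      have h3 : Nat.card S = (S : Set V).ncard := Nat.card_coe_set_eq (S : Set V)
      omega
    have h2 : Nat.card S ∣ p ^ 2 := hV ▸ Subgroup.card_subgroup_dvd_card S
    obtain ⟨k, hk2, hk⟩ := (Nat.dvd_prime_pow hp).1 h2
    have hk' : k = 2 := by
      rw [hL, hk] at h1
      have := hp.two_le
      interval_cases k
      · simp at h1; omega
      · simp at h1
      · rfl
    rw [hk', ← hV] at hk
    exact (Subgroup.card_eq_iff_eq_top S).1 hk
  intro v
  have hv : v ∈ Subgroup.zpowers w ⊔ L := by rw [htop]; trivial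
  obtain ⟨y, hy, z, hz, rfl⟩ := Subgroup.mem_sup.1 hv
  obtain ⟨j, rfl⟩ := Subgroup.mem_zpowers_iff.1 hy
  exact ⟨j, z, hz, rfl⟩

/-- modulo a line, an automorphism stabilising the line is a power map. -/
theorem pow_mod_line {p : ℕ} [Fact p.Prime] [Finite V] (hV : Nat.card V = p ^ 2) (L : Subgroup V)
    (hL : Nat.card L = p) (α : MulAut V) (hα : ∀ l ∈ L, α l ∈ L) :
    ∃ m : ℤ, ∀ v : V, α v * (v ^ m)⁻¹ ∈ L := by
  have hp := (Fact.out : p.Prime)
  have hlt : L ≠ ⊤ := by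
    intro h
    rw [h, Subgroup.card_top, hV] at hL
    have : p ^ 2 = p ^ 1 := by rw [pow_one]; exact hL
    have := Nat.pow_right_injective hp.two_le this
    omega
  obtain ⟨w, hw⟩ : ∃ w, w ∉ L := by
    by_contra h
    exact hlt (eq_top_iff.2 fun x _ => by_contra fun hx => h ⟨x, hx⟩)
  have hdec := exists_decomp hV L hL w hw
  obtain ⟨m, l0, hl0, hαw⟩ := hdec (α w)
  refine ⟨m, fun v => ?_⟩
  obtain ⟨j, l, hl, rfl⟩ := hdec v
  have e1 : α (w ^ j * l) = w ^ (j * m) * l0 ^ j * α l := by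
    rw [map_mul, map_zpow, hαw, mul_zpow, ← zpow_mul, mul_comm m j]
  have e2 : (w ^ j * l) ^ m = w ^ (j * m) * l ^ m := by
    rw [mul_zpow, ← zpow_mul]
  have : α (w ^ j * l) * ((w ^ j * l) ^ m)⁻¹ = l0 ^ j * α l * (l ^ m)⁻¹ := by
    rw [e1, e2]
    exact cancel_aux (w ^ (j * m)) (l0 ^ j) (α l) (l ^ m)
  rw [this]
  exact L.mul_mem (L.mul_mem (L.zpow_mem hl0 j) (hα l hl)) (L.inv_mem (L.zpow_mem hl m))

/-- the stability group of the chain `1 < L < V`. -/
def stab (L : Subgroup V) : Subgroup (MulAut V) where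
  carrier := {α | (∀ l ∈ L, α l = l) ∧ ∀ v : V, α v * v⁻¹ ∈ L}
  one_mem' := ⟨fun _ _ => rfl, fun v => by simp⟩
  mul_mem' := by
    rintro α β ⟨ha1, ha2⟩ ⟨hb1, hb2⟩
    refine ⟨fun l hl => by rw [MulAut.mul_apply, hb1 l hl, ha1 l hl], fun v => ?_⟩
    have h1 : (α * β) v * v⁻¹ = (α (β v) * (β v)⁻¹) * (β v * v⁻¹) := by
      rw [MulAut.mul_apply]; group
    rw [h1]
    exact L.mul_mem (ha2 _) (hb2 _)
  inv_mem' := by
    rintro α ⟨ha1, ha2⟩
    have hinvL : ∀ l ∈ L, α⁻¹ l = l := by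
      intro l hl
      have := ha1 l hl
      calc α⁻¹ l = α⁻¹ (α l) := by rw [this]
        _ = l := by simp
    refine ⟨hinvL, fun v => ?_⟩
    -- α⁻¹ v * v⁻¹ = (α (α⁻¹ v) * (α⁻¹ v)⁻¹)⁻¹
    have h1 : α⁻¹ v * v⁻¹ = (α (α⁻¹ v) * (α⁻¹ v)⁻¹)⁻¹ := by
      have : α (α⁻¹ v) = v := by simp
      rw [this]; group
    rw [h1]
    exact L.inv_mem (ha2 _)

theorem mem_stab {L : Subgroup V} {α : MulAut V} :
    α ∈ stab L ↔ (∀ l ∈ L, α l = l) ∧ ∀ v : V, α v * v⁻¹ ∈ L := Iff.rfl

/-- elements of the stability group have order dividing `p`. -/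
theorem pow_eq_one_of_mem_stab {p : ℕ} (hexp : ∀ v : V, v ^ p = 1) (L : Subgroup V) (α : MulAut V)
    (hα : α ∈ stab L) : α ^ p = 1 := by
  obtain ⟨h1, h2⟩ := hα
  have key : ∀ (j : ℕ) (v : V), (α ^ j) v = v * (α v * v⁻¹) ^ j := by
    intro j
    induction j with
    | zero => intro v; simp
    | succ j ih =>
      intro v
      rw [pow_succ', MulAut.mul_apply, ih v, map_mul, map_pow, h1 _ (h2 v), pow_succ', ← mul_assoc]
      congr 1
      rw [mul_comm (α v), mul_inv_cancel_left]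
  ext v
  rw [key p v, hexp, mul_one]
  rfl

/-- **Theorem A**: if `X` leaves a line invariant, every element of `⁅X, X⁆` has order dividing `p`. -/
theorem commutator_pow_eq_one_of_inv {p : ℕ} [Fact p.Prime] [Finite V] (hV : Nat.card V = p ^ 2)
    (hexp : ∀ v : V, v ^ p = 1) (X : Subgroup (MulAut V)) (L : Subgroup V) (hL : Nat.card L = p)
    (hinv : Inv X L) : ∀ c ∈ ⁅X, X⁆, c ^ p = 1 := by
  have hle : ⁅X, X⁆ ≤ stab L := by
    rw [Subgroup.commutator_le]
    intro α hα β hβ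
    have hα' := X.inv_mem hα
    have hβ' := X.inv_mem hβ
    obtain ⟨ka, hka⟩ := pow_on_line (p := p) L hL α (hinv α hα)
    obtain ⟨kb, hkb⟩ := pow_on_line (p := p) L hL β (hinv β hβ)
    obtain ⟨ma, hma⟩ := pow_mod_line hV L hL α (hinv α hα)
    obtain ⟨mb, hmb⟩ := pow_mod_line hV L hL β (hinv β hβ)
    -- commutation on `L`
    have hcomL : ∀ l ∈ L, α (β l) = β (α l) := by
      intro l hl
      rw [hkb l hl, hka l hl, map_pow, map_pow, hka l hl, hkb l hl, ← pow_mul, ← pow_mul, mul_comm]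
    -- commutation modulo `L`
    have hcomV : ∀ v : V, α (β v) * (β (α v))⁻¹ ∈ L := by
      intro v
      have e1 : α (β v) * ((v ^ mb) ^ ma)⁻¹ ∈ L := by
        have h1 : α (β v) * ((v ^ mb) ^ ma)⁻¹ =
            α (β v * (v ^ mb)⁻¹) * (α (v ^ mb) * ((v ^ mb) ^ ma)⁻¹) := by
          rw [map_mul, map_inv]; group
        rw [h1]
        exact L.mul_mem (hinv α hα _ (hmb v)) (hma _)
      have e2 : β (α v) * ((v ^ ma) ^ mb)⁻¹ ∈ L := by
        have h1 : β (α v) * ((v ^ ma) ^ mb)⁻¹ =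
            β (α v * (v ^ ma)⁻¹) * (β (v ^ ma) * ((v ^ ma) ^ mb)⁻¹) := by
          rw [map_mul, map_inv]; group
        rw [h1]
        exact L.mul_mem (hinv β hβ _ (hma v)) (hmb _)
      have e3 : (v ^ mb) ^ ma = (v ^ ma) ^ mb := by
        rw [← zpow_mul, ← zpow_mul, mul_comm]
      have h2 : α (β v) * (β (α v))⁻¹ =
          (α (β v) * ((v ^ mb) ^ ma)⁻¹) * (β (α v) * ((v ^ ma) ^ mb)⁻¹)⁻¹ := by
        rw [e3]; group
      rw [h2]
      exact L.mul_mem e1 (L.inv_mem e2)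
    rw [mem_stab, commutatorElement_def]
    constructor
    · intro l hl
      have h1 : β⁻¹ l ∈ L := hinv _ hβ' l hl
      have h2 : α⁻¹ (β⁻¹ l) ∈ L := hinv _ hα' _ h1
      show α (β (α⁻¹ (β⁻¹ l))) = l
      rw [hcomL _ h2]
      simp
    · intro v
      show α (β (α⁻¹ (β⁻¹ v))) * v⁻¹ ∈ L
      have h := hcomV (α⁻¹ (β⁻¹ v))
      have e : β (α (α⁻¹ (β⁻¹ v))) = v := by simp
      rwa [e] at h
  intro c hc
  exact pow_eq_one_of_mem_stab hexp L c (hle hc)

/-- scalar automorphisms (power maps) are central. -/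
theorem commute_of_scalar (α β : MulAut V) (k : ℤ) (hα : ∀ v : V, α v = v ^ k) : α * β = β * α := by
  ext v
  simp only [MulAut.mul_apply]
  rw [hα, hα, map_zpow]

end Cfsg.Agent.Lib.Helper26.OddGL2
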