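import Mathlib
import Cfsg.Agent.Lib.Helper26.OddGL2a

/-!
# Odd-order automorphism groups of `C_p × C_p` : part b (elements of order `p`)

If an odd-order subgroup `X` of `MulAut V` (`V` of order `p ^ 2`, exponent `p`, `p` odd) contains an element
of order `p`, then `X` leaves a line invariant.
-/

set_option autoImplicit false

namespace Cfsg.Agent.Lib.Helper26.OddGL2

open Pointwise

variable {V : Type*} [CommGroup V]

/-- the subgroup of fixed points of an automorphism. -/
def fixSub (g : MulAut V) : Subgroup V where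
  carrier := {v | g v = v}
  one_mem' := map_one g
  mul_mem' := by
    intro a b (ha : g a = a) (hb : g b = b)
    show g (a * b) = a * b
    rw [map_mul, ha, hb]
  inv_mem' := by
    intro a (ha : g a = a)
    show g a⁻¹ = a⁻¹
    rw [map_inv, ha]

theorem mem_fixSub {g : MulAut V} {v : V} : v ∈ fixSub g ↔ g v = v := Iff.rfl

variable [Finite V]

/-- the fixed points of an automorphism of order `p` form a line. -/
theorem card_fixSub {p : ℕ} [Fact p.Prime] (hV : Nat.card V = p ^ 2) (g : MulAut V)
    (hg : orderOf g = p) : Nat.card (fixSub g) = p := by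
  have hp := (Fact.out : p.Prime)
  have hZ : IsPGroup p (Subgroup.zpowers g) :=
    IsPGroup.of_card (n := 1) (by rw [Nat.card_zpowers, hg, pow_one])
  have hmod := hZ.card_modEq_card_fixedPoints V
  have hset : (MulAction.fixedPoints (Subgroup.zpowers g) V) = (fixSub g : Set V) := by
    ext v
    constructor
    · intro hv
      exact hv ⟨g, Subgroup.mem_zpowers g⟩
    · intro hv
      rintro ⟨h, hh⟩
      obtain ⟨k, rfl⟩ := Subgroup.mem_zpowers_iff.1 hh
      show (g ^ k) v = v
      have hv' : v ∈ fixSub g := hv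
      have : g ∈ MulAction.stabilizer (MulAut V) v := hv'
      have h2 := (MulAction.stabilizer (MulAut V) v).zpow_mem this k
      exact h2
  have hcard : Nat.card (MulAction.fixedPoints (Subgroup.zpowers g) V) = Nat.card (fixSub g) := by
    rw [hset]; rfl
  rw [hcard, hV] at hmod
  have hdvd : p ∣ Nat.card (fixSub g) := by
    have h0 : p ^ 2 ≡ 0 [MOD p] := by
      rw [Nat.modEq_zero_iff_dvd]; exact dvd_pow_self p (by norm_num)
    exact (Nat.modEq_zero_iff_dvd).1 (hmod.symm.trans h0)
  have hdvd2 : Nat.card (fixSub g) ∣ p ^ 2 := hV ▸ Subgroup.card_subgroup_dvd_card _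
  obtain ⟨k, hk2, hk⟩ := (Nat.dvd_prime_pow hp).1 hdvd2
  have hne : fixSub g ≠ ⊤ := by
    intro h
    have : g = 1 := by
      ext v
      have : v ∈ fixSub g := by rw [h]; trivial
      exact this
    rw [this, orderOf_one] at hg
    exact hp.one_lt.ne hg
  have hk1 : k ≠ 2 := by
    intro h
    rw [h, ← hV] at hk
    exact hne ((Subgroup.card_eq_iff_eq_top _).1 hk)
  have hk0 : k ≠ 0 := by
    intro h
    rw [h, pow_zero] at hk
    rw [hk] at hdvd
    exact hp.one_lt.ne' (Nat.dvd_one.1 hdvd)
  have : k = 1 := by omega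
  rw [hk, this, pow_one]

/-- a line left invariant by an automorphism of order `p` is its fixed line. -/
theorem eq_fixSub_of_inv {p : ℕ} [Fact p.Prime] (hV : Nat.card V = p ^ 2)
    (hexp : ∀ v : V, v ^ p = 1) (g : MulAut V) (hg : orderOf g = p) (L : Subgroup V)
    (hL : Nat.card L = p) (hinv : ∀ l ∈ L, g l ∈ L) : L = fixSub g := by
  have hp := (Fact.out : p.Prime)
  obtain ⟨k, hk⟩ := pow_on_line (p := p) L hL g hinv
  have hpow : ∀ (j : ℕ), ∀ l ∈ L, (g ^ j) l = l ^ (k ^ j) := by
    intro j
    induction j with
    | zero => intro l _; simp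
    | succ j ih =>
      intro l hl
      rw [pow_succ', MulAut.mul_apply, ih l hl, map_pow, hk l hl, ← pow_mul, pow_succ']
  have hgp : g ^ p = 1 := by rw [← hg]; exact pow_orderOf_eq_one g
  have hfermat : k ^ p ≡ k [MOD p] := by
    rw [← ZMod.natCast_eq_natCast_iff]
    push_cast
    exact ZMod.pow_card _
  have hle : L ≤ fixSub g := by
    intro l hl
    rw [mem_fixSub, hk l hl]
    have h1 : l ^ (k ^ p) = l := by
      rw [← hpow p l hl, hgp]; rfl
    have hkle : k ≤ k ^ p := by
      rcases Nat.eq_zero_or_pos k with h | h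
      · simp [h]
      · exact Nat.le_self_pow hp.ne_zero k
    obtain ⟨t, ht⟩ := (Nat.modEq_iff_dvd' hkle).1 hfermat.symm
    have h2 : k ^ p = k + p * t := by omega
    rw [h2, pow_add, pow_mul, hexp, one_pow, mul_one] at h1
    exact h1
  exact Subgroup.eq_of_le_of_card_ge hle (by rw [card_fixSub hV g hg, hL])

/-- distinct lines meet trivially. -/
theorem line_inf_eq_bot {p : ℕ} [Fact p.Prime] (L L' : Subgroup V) (hL : Nat.card L = p)
    (hL' : Nat.card L' = p) (hne : L ≠ L') : L ⊓ L' = ⊥ := by
  have hp := (Fact.out : p.Prime)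
  have h1 : Nat.card (L ⊓ L' : Subgroup V) ∣ p := hL ▸ Subgroup.card_dvd_of_le inf_le_left
  rcases (Nat.dvd_prime hp).1 h1 with h | h
  · exact (Subgroup.card_eq_one).1 h
  · exfalso
    have e1 : L ⊓ L' = L := Subgroup.eq_of_le_of_card_ge inf_le_left (by rw [h, hL])
    have e2 : L ⊓ L' = L' := Subgroup.eq_of_le_of_card_ge inf_le_right (by rw [h, hL'])
    exact hne (e1.symm.trans e2)

/-- a set of lines has at most `p + 1` elements. -/
theorem card_lines_le {p : ℕ} [Fact p.Prime] (hV : Nat.card V = p ^ 2) (O : Set (Subgroup V))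
    (hO : ∀ L ∈ O, Nat.card L = p) : Nat.card O ≤ p + 1 := by
  classical
  have hp := (Fact.out : p.Prime)
  have := Fintype.ofFinite V
  have hOfin : O.Finite := Set.toFinite O
  set s : Finset (Subgroup V) := hOfin.toFinset with hs
  let t : Subgroup V → Finset V := fun L => (Finset.univ.filter (fun v => v ∈ L)).erase 1
  have hcard_t : ∀ L ∈ s, (t L).card = p - 1 := by
    intro L hL
    have hLO : L ∈ O := by simpa [hs] using hL
    have h1 : (Finset.univ.filter (fun v => v ∈ L)).card = p := by
      rw [← hO L hLO, Nat.card_eq_fintype_card, Fintype.card_subtype]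
    show ((Finset.univ.filter (fun v => v ∈ L)).erase 1).card = p - 1
    rw [Finset.card_erase_of_mem (by simp [L.one_mem]), h1]
  have hdisj : ∀ x ∈ s, ∀ y ∈ s, x ≠ y → Disjoint (t x) (t y) := by
    intro x hx y hy hxy
    have hxO : x ∈ O := by simpa [hs] using hx
    have hyO : y ∈ O := by simpa [hs] using hy
    rw [Finset.disjoint_left]
    intro v hvx hvy
    simp only [t, Finset.mem_erase, Finset.mem_filter, Finset.mem_univ, true_and] at hvx hvy
    have : v ∈ x ⊓ y := ⟨hvx.2, hvy.2⟩
    rw [line_inf_eq_bot x y (hO x hxO) (hO y hyO) hxy, Subgroup.mem_bot] at this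
    exact hvx.1 this
  have hsub : s.biUnion t ⊆ Finset.univ.erase 1 := by
    intro v hv
    rw [Finset.mem_biUnion] at hv
    obtain ⟨L, _, hvL⟩ := hv
    simp only [t, Finset.mem_erase, Finset.mem_filter, Finset.mem_univ, true_and] at hvL
    simp [hvL.1]
  have h1 := Finset.card_le_card hsub
  rw [Finset.card_biUnion hdisj, Finset.sum_congr rfl hcard_t, Finset.sum_const, smul_eq_mul,
    Finset.card_erase_of_mem (Finset.mem_univ _), Finset.card_univ, ← Nat.card_eq_fintype_card, hV]
    at h1
  have hsc : s.card = Nat.card O := by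
    rw [Nat.card_coe_set_eq, Set.ncard_eq_toFinset_card O hOfin]
  rw [← hsc]
  have h2 : p ^ 2 - 1 = (p + 1) * (p - 1) := by
    have := hp.one_lt
    obtain ⟨q, rfl⟩ : ∃ q, p = q + 1 := ⟨p - 1, by omega⟩
    simp only [Nat.add_sub_cancel]
    ring_nf
    omega
  rw [h2] at h1
  exact Nat.le_of_mul_le_mul_right h1 (by have := hp.one_lt; omega)

/-- **Theorem B**: an odd-order group of automorphisms containing an element of order `p` leaves a line
invariant (`p` odd). -/
theorem exists_inv_line_of_orderOf {p : ℕ} [Fact p.Prime] (hp2 : p ≠ 2) (hV : Nat.card V = p ^ 2)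
    (hexp : ∀ v : V, v ^ p = 1) (X : Subgroup (MulAut V)) (hodd : Odd (Nat.card X))
    (g : MulAut V) (hgX : g ∈ X) (hg : orderOf g = p) :
    ∃ L : Subgroup V, Nat.card L = p ∧ Inv X L := by
  have hp := (Fact.out : p.Prime)
  have hXfin : Finite X := Nat.finite_of_card_ne_zero (by intro h; rw [h] at hodd; exact absurd hodd (by decide))
  set C := fixSub g with hC
  have hCcard : Nat.card C = p := card_fixSub hV g hg
  -- the orbit of `C`
  set O : Set (Subgroup V) := MulAction.orbit X C with hOdef
  have hOline : ∀ L ∈ O, Nat.card L = p := by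
    rintro L ⟨x, rfl⟩
    rw [← hCcard]
    exact (Nat.card_congr (Subgroup.equivSMul (x : MulAut V) C).toEquiv).symm
  have hle : Nat.card O ≤ p + 1 := card_lines_le hV O hOline
  -- the action of `⟨g⟩` on the orbit
  let gX : X := ⟨g, hgX⟩
  have hZ : IsPGroup p (Subgroup.zpowers gX) := by
    refine IsPGroup.of_card (n := 1) ?_
    rw [Nat.card_zpowers, pow_one, ← hg]
    exact Subgroup.orderOf_mk g hgX
  have hmod := hZ.card_modEq_card_fixedPoints (MulAction.orbit X C)
  have hfix : Nat.card (MulAction.fixedPoints (Subgroup.zpowers gX) (MulAction.orbit X C)) = 1 := by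
    rw [Nat.card_eq_one_iff_unique]
    constructor
    · constructor
      rintro ⟨⟨L, hL⟩, hLfix⟩ ⟨⟨L', hL'⟩, hLfix'⟩
      have key : ∀ (M : Subgroup V) (hM : M ∈ MulAction.orbit X C),
          (⟨M, hM⟩ : MulAction.orbit X C) ∈ MulAction.fixedPoints (Subgroup.zpowers gX)
            (MulAction.orbit X C) → M = C := by
        intro M hM hMfix
        have h1 := hMfix ⟨gX, Subgroup.mem_zpowers gX⟩
        have h2 : g • M = M := congrArg Subtype.val h1
        refine eq_fixSub_of_inv hV hexp g hg M (hOline M hM) ?_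
        intro l hl
        have : g • l ∈ g • M := Subgroup.smul_mem_pointwise_smul l g M hl
        rw [h2] at this
        exact this
      have e1 := key L hL hLfix
      have e2 := key L' hL' hLfix'
      subst e1
      subst e2
      rfl
    · refine ⟨⟨⟨C, MulAction.mem_orbit_self C⟩, ?_⟩⟩
      rintro ⟨z, hz⟩
      have hgC : g • C = C := by
        ext v
        constructor
        · intro hv
          obtain ⟨c, hc, rfl⟩ := hv
          have hc' : g c = c := hc
          show g c ∈ C
          rw [hc']; exact hc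
        · intro hv
          have hv' : g v = v := hv
          exact ⟨v, hv, hv'⟩
      have hstab : gX ∈ MulAction.stabilizer X (⟨C, MulAction.mem_orbit_self C⟩ : MulAction.orbit X C) := by
        rw [MulAction.mem_stabilizer_iff]
        exact Subtype.ext hgC
      have := (Subgroup.zpowers_le.2 hstab) hz
      exact this
  rw [hfix] at hmod
  -- the orbit length divides `|X|`
  have hdvd : Nat.card O ∣ Nat.card X := by
    have h1 : (MulAction.stabilizer X C).index = Nat.card O := by
      rw [MulAction.index_stabilizer, Nat.card_coe_set_eq]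
    rw [← h1]
    exact Subgroup.index_dvd_card _
  have hOodd : Odd (Nat.card O) := by
    obtain ⟨c, hc⟩ := hdvd
    rw [hc] at hodd
    exact (Nat.odd_mul.1 hodd).1
  -- numerics
  have hpodd : Odd p := hp.odd_of_ne_two hp2
  have hO1 : Nat.card O = 1 := by
    have h3 : 3 ≤ p := by
      have := hp.two_le
      omega
    have hm : Nat.card O % p = 1 := by
      have := hmod
      unfold Nat.ModEq at this
      rw [this]
      exact Nat.mod_eq_of_lt (by omega)
    have hdm := Nat.div_add_mod (Nat.card O) p
    rw [hm] at hdm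
    generalize Nat.card O / p = q at hdm
    generalize Nat.card O = n at hdm hle hOodd
    rcases Nat.lt_or_ge q 1 with h | h
    · have : q = 0 := by omega
      rw [this] at hdm
      omega
    · rcases Nat.lt_or_ge q 2 with h' | h'
      · have : q = 1 := by omega
        rw [this] at hdm
        exfalso
        obtain ⟨a, ha⟩ := hpodd
        obtain ⟨b, hb⟩ := hOodd
        omega
      · exfalso
        have : p * 2 ≤ p * q := Nat.mul_le_mul_left p h'
        omega
  -- conclusion
  refine ⟨C, hCcard, ?_⟩
  intro α hα l hl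
  have hmem : (⟨α, hα⟩ : X) • C ∈ O := ⟨⟨α, hα⟩, rfl⟩
  have hsub : ∀ M ∈ O, M = C := by
    intro M hM
    have hfinO : Finite O := Set.toFinite O
    have hss := (Nat.card_eq_one_iff_unique.1 hO1).1
    have := @Subsingleton.elim _ hss (⟨M, hM⟩ : O) ⟨C, MulAction.mem_orbit_self C⟩
    exact congrArg Subtype.val this
  have h1 : α • C = C := hsub _ hmem
  have : α • l ∈ α • C := Subgroup.smul_mem_pointwise_smul l α C hl
  rw [h1] at this
  exact this

end Cfsg.Agent.Lib.Helper26.OddGL2
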