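import Mathlib
import Cfsg.Agent.Lib.Helper26.OddGL2b

/-!
# Odd-order automorphism groups of `C_p × C_p` : part c (irreducible abelian normal subgroups)

`N` an abelian group of automorphisms of `V` (`|V| = p ^ 2`, exponent `p`) leaving no line invariant.
An automorphism `x` of odd order with `x n x⁻¹ ∈ N` commutes with `n ∈ N`
(the normaliser of a Singer cycle is `ΓL₁(p²)`, and the field automorphism has order two).
-/

set_option autoImplicit false

namespace Cfsg.Agent.Lib.Helper26.OddGL2

variable {V : Type*} [CommGroup V] [Finite V]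

theorem commute_of_irred_aux {p : ℕ} [Fact p.Prime] [Module (ZMod p) (Additive V)]
    (hV : Nat.card V = p ^ 2) (N : Subgroup (MulAut V))
    (hNab : ∀ a ∈ N, ∀ b ∈ N, a * b = b * a)
    (hirr : ∀ L : Subgroup V, Nat.card L = p → ¬ Inv N L)
    (x : MulAut V) (k : ℕ) (hk : Odd k) (hxk : x ^ k = 1) (n : MulAut V) (hn : n ∈ N)
    (hxn : x * n * x⁻¹ ∈ N) : x * n = n * x := by
  classical
  have hp := (Fact.out : p.Prime)
  -- the linear map attached to an automorphism
  let T : MulAut V → Module.End (ZMod p) (Additive V) := fun α =>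
    AddMonoidHom.toZModLinearMap p (MonoidHom.toAdditive α.toMonoidHom)
  have hT_apply : ∀ (α : MulAut V) (w : Additive V),
      T α w = Additive.ofMul (α (Additive.toMul w)) := fun _ _ => rfl
  have hT_mul : ∀ α β : MulAut V, T (α * β) = T α * T β := by
    intro α β; ext w; rfl
  have hT_one : T 1 = 1 := by ext w; rfl
  have hT_inj : ∀ α β : MulAut V, T α = T β → α = β := by
    intro α β h
    ext v
    have := congrArg (fun f => Additive.toMul (f (Additive.ofMul v))) h
    simpa [hT_apply] using this
  have hTx : T x * T x⁻¹ = 1 := by rw [← hT_mul, mul_inv_cancel, hT_one]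
  have hTx' : T x⁻¹ * T x = 1 := by rw [← hT_mul, inv_mul_cancel, hT_one]
  -- dimension two
  have hfr : Module.finrank (ZMod p) (Additive V) = 2 := by
    have h1 := Module.natCard_eq_pow_finrank (K := ZMod p) (V := Additive V)
    have h2 : Nat.card (Additive V) = p ^ 2 := hV
    rw [h2, Nat.card_zmod] at h1
    exact (Nat.pow_right_injective hp.two_le h1).symm
  -- `0` or injective
  have hker : ∀ e : Module.End (ZMod p) (Additive V), (∀ a ∈ N, e * T a = T a * e) →
      e = 0 ∨ Function.Injective e := by
    intro e he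
    let L : Subgroup V :=
      { carrier := {v | e (Additive.ofMul v) = 0}
        one_mem' := map_zero e
        mul_mem' := by
          intro a b (ha : e (Additive.ofMul a) = 0) (hb : e (Additive.ofMul b) = 0)
          show e (Additive.ofMul (a * b)) = 0
          rw [ofMul_mul, map_add, ha, hb, add_zero]
        inv_mem' := by
          intro a (ha : e (Additive.ofMul a) = 0)
          show e (Additive.ofMul a⁻¹) = 0
          rw [ofMul_inv, map_neg, ha, neg_zero] }
    have hLmem : ∀ v, v ∈ L ↔ e (Additive.ofMul v) = 0 := fun _ => Iff.rfl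
    have hLinv : Inv N L := by
      intro a ha l hl
      rw [hLmem] at hl ⊢
      have h1 : e (T a (Additive.ofMul l)) = T a (e (Additive.ofMul l)) := by
        have := congrArg (fun f => f (Additive.ofMul l)) (he a ha)
        exact this
      rw [hl, map_zero] at h1
      exact h1
    have hdvd : Nat.card L ∣ p ^ 2 := hV ▸ Subgroup.card_subgroup_dvd_card L
    obtain ⟨j, hj2, hj⟩ := (Nat.dvd_prime_pow hp).1 hdvd
    interval_cases j
    · right
      rw [pow_zero] at hj
      have hbot : L = ⊥ := Subgroup.card_eq_one.1 hj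
      rw [injective_iff_map_eq_zero]
      intro w hw
      have : Additive.toMul w ∈ L := hw
      rw [hbot, Subgroup.mem_bot] at this
      exact this
    · exfalso
      rw [pow_one] at hj
      exact hirr L hj hLinv
    · left
      rw [← hV] at hj
      have htop : L = ⊤ := (Subgroup.card_eq_iff_eq_top L).1 hj
      ext w
      have : Additive.toMul w ∈ L := by rw [htop]; trivial
      exact this
  -- the quadratic relation
  set f := T n with hf
  set m := x * n * x⁻¹ with hm
  set g := T m with hg
  have hgf : g = T x * f * T x⁻¹ := by rw [hg, hm, hT_mul, hT_mul]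
  have hmonic := LinearMap.charpoly_monic f
  have hdeg : f.charpoly.natDegree = 2 := by rw [LinearMap.charpoly_natDegree, hfr]
  obtain ⟨c1, c0, hq⟩ : ∃ c1 c0 : ZMod p, f * f + c1 • f + c0 • (1 : Module.End (ZMod p) (Additive V)) = 0 := by
    refine ⟨f.charpoly.coeff 1, f.charpoly.coeff 0, ?_⟩
    have h1 := LinearMap.aeval_self_charpoly f
    rw [hmonic.as_sum, hdeg] at h1
    simp only [Finset.sum_range_succ, Finset.sum_range_zero, zero_add, map_add, map_mul, map_pow,
      Polynomial.aeval_X, Polynomial.aeval_C, pow_zero, pow_one, mul_one] at h1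
    rw [← h1, pow_two, Algebra.algebraMap_eq_smul_one, Algebra.algebraMap_eq_smul_one, smul_mul_assoc,
      one_mul]
    abel
  have hqg : g * g + c1 • g + c0 • (1 : Module.End (ZMod p) (Additive V)) = 0 := by
    have h1 : g * g = T x * (f * f) * T x⁻¹ := by
      rw [hgf]
      calc T x * f * T x⁻¹ * (T x * f * T x⁻¹) = T x * f * (T x⁻¹ * T x) * f * T x⁻¹ := by
            simp only [mul_assoc]
        _ = T x * (f * f) * T x⁻¹ := by rw [hTx', mul_one]; simp only [mul_assoc]
    have h2 : c1 • g = T x * (c1 • f) * T x⁻¹ := by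
      rw [hgf, mul_smul_comm, smul_mul_assoc]
    have h3 : c0 • (1 : Module.End (ZMod p) (Additive V)) = T x * (c0 • 1) * T x⁻¹ := by
      rw [mul_smul_comm, smul_mul_assoc, mul_one, hTx]
    rw [h1, h2, h3, ← add_mul, ← add_mul, ← mul_add, ← mul_add, hq, mul_zero, zero_mul]
  have hcomm : f * g = g * f := by
    rw [hf, hg, ← hT_mul, ← hT_mul, hNab n hn m hxn]
  -- the factorisation
  set s : Module.End (ZMod p) (Additive V) := c1 • 1 with hs
  have hsf : ∀ e : Module.End (ZMod p) (Additive V), e * s = c1 • e := by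
    intro e; rw [hs, mul_smul_comm, mul_one]
  have hsf' : ∀ e : Module.End (ZMod p) (Additive V), s * e = c1 • e := by
    intro e; rw [hs, smul_mul_assoc, one_mul]
  have hprod : (g - f) * (g + f + s) = 0 := by
    have e1 : (g - f) * (g + f + s) = (g * g + c1 • g) - (f * f + c1 • f) + (g * f - f * g) := by
      rw [sub_mul, mul_add, mul_add, mul_add, mul_add, hsf, hsf]
      abel
    rw [e1, hcomm, sub_self, add_zero]
    have h1 : g * g + c1 • g = -(c0 • (1 : Module.End (ZMod p) (Additive V))) :=
      eq_neg_of_add_eq_zero_left hqg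
    have h2 : f * f + c1 • f = -(c0 • (1 : Module.End (ZMod p) (Additive V))) :=
      eq_neg_of_add_eq_zero_left hq
    rw [h1, h2, sub_self]
  -- both factors commute with `N`
  have hcN : ∀ a ∈ N, ∀ b ∈ N, T b * T a = T a * T b := by
    intro a ha b hb
    rw [← hT_mul, ← hT_mul, hNab b hb a ha]
  have hc1 : ∀ a ∈ N, (g - f) * T a = T a * (g - f) := by
    intro a ha
    rw [sub_mul, mul_sub, hg, hf, hcN a ha m hxn, hcN a ha n hn]
  have hc2 : ∀ a ∈ N, (g + f + s) * T a = T a * (g + f + s) := by
    intro a ha
    rw [add_mul, add_mul, mul_add, mul_add, hg, hf, hcN a ha m hxn, hcN a ha n hn, hsf, hsf']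
  have hnontriv : ∃ w : Additive V, w ≠ 0 := by
    have : 1 < Nat.card V := by
      rw [hV]; exact Nat.one_lt_pow (by norm_num) hp.one_lt
    have : Nontrivial V := Finite.one_lt_card_iff_nontrivial.1 this
    obtain ⟨v, hv⟩ := exists_ne (1 : V)
    exact ⟨Additive.ofMul v, fun h => hv h⟩
  have hcase : g - f = 0 ∨ g + f + s = 0 := by
    rcases hker _ hc1 with h1 | h1
    · exact Or.inl h1
    rcases hker _ hc2 with h2 | h2
    · exact Or.inr h2
    exfalso
    obtain ⟨w, hw⟩ := hnontriv
    have h3 : ((g - f) * (g + f + s)) w = 0 := by rw [hprod]; rfl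
    have h4 : (g - f) ((g + f + s) w) = 0 := h3
    have h5 := h1 (h4.trans (map_zero _).symm)
    have h6 := h2 (h5.trans (map_zero _).symm)
    exact hw h6
  rcases hcase with h | h
  · -- `g = f`
    have h1 : T m = T n := sub_eq_zero.1 h
    have h2 : m = n := hT_inj _ _ h1
    calc x * n = x * n * x⁻¹ * x := by group
      _ = n * x := by rw [← hm, h2]
  · -- `g = -f - s`, so `x²` commutes with `n`
    have h1 : T (x * m * x⁻¹) = f := by
      rw [hT_mul, hT_mul]
      show T x * g * T x⁻¹ = f
      have e0 : T x * s * T x⁻¹ = s := by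
        rw [hsf, smul_mul_assoc, hTx, ← hs]
      have e2 : T x * (g + f + s) * T x⁻¹ = 0 := by rw [h, mul_zero, zero_mul]
      rw [mul_add, mul_add, add_mul, add_mul, ← hgf, e0] at e2
      have h' : g + s = -f := by
        have h0 : g + f + s = 0 := h
        rw [add_assoc, add_comm f s, ← add_assoc] at h0
        exact eq_neg_of_add_eq_zero_left h0
      rw [add_assoc, h'] at e2
      exact add_neg_eq_zero.1 e2
    have h2 : x * m * x⁻¹ = n := hT_inj _ _ h1
    have h3 : (x * x) * n = n * (x * x) := by
      calc (x * x) * n = x * (x * n * x⁻¹) * x⁻¹ * (x * x) := by group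
        _ = n * (x * x) := by rw [← hm, h2]
    obtain ⟨j, hj⟩ := hk
    have h4 : x = (x * x) ^ (j + 1) := by
      have : (x * x) ^ (j + 1) = x ^ k * x := by
        rw [← pow_two, ← pow_mul, hj, ← pow_succ]
        congr 1
      rw [this, hxk, one_mul]
    have h5 : Commute (x * x) n := h3
    have h6 : Commute ((x * x) ^ (j + 1)) n := h5.pow_left _
    rw [← h4] at h6
    exact h6

theorem commute_of_irred {p : ℕ} [Fact p.Prime] (hV : Nat.card V = p ^ 2)
    (hexp : ∀ v : V, v ^ p = 1) (N : Subgroup (MulAut V))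
    (hNab : ∀ a ∈ N, ∀ b ∈ N, a * b = b * a)
    (hirr : ∀ L : Subgroup V, Nat.card L = p → ¬ Inv N L)
    (x : MulAut V) (k : ℕ) (hk : Odd k) (hxk : x ^ k = 1) (n : MulAut V) (hn : n ∈ N)
    (hxn : x * n * x⁻¹ ∈ N) : x * n = n * x :=
  @commute_of_irred_aux V _ _ p _ (AddCommGroup.zmodModule (n := p) (fun w => by
    show Additive.ofMul ((Additive.toMul w) ^ p) = 0
    rw [hexp]; rfl)) hV N hNab hirr x k hk hxk n hn hxn

end Cfsg.Agent.Lib.Helper26.OddGL2
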