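import Mathlib
import Cfsg.Agent.Lib.Helper26.OddGL2c

/-!
# Odd-order automorphism groups of `C_p × C_p` : part d (main theorems)

* `abelian_of_odd_pprime`: an odd-order solvable `p'`-subgroup of `MulAut V` is abelian.
* `commutator_pow_eq_one`: for an odd-order solvable subgroup `X` of `MulAut V` (`|V| = p ^ 2`, exponent `p`,
  `p` odd), every element of `⁅X, X⁆` has order dividing `p`.
-/

set_option autoImplicit false

namespace Cfsg.Agent.Lib.Helper26.OddGL2

open scoped commutatorElement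
open Pointwise

variable {V : Type*} [CommGroup V] [Finite V]

theorem zpow_pow_congr {G : Type*} [Group G] (b : G) (t : ℤ) (k k' : ℕ) (h : b ^ k = b ^ k') :
    (b ^ t) ^ k = (b ^ t) ^ k' := by
  have e : ∀ m : ℕ, (b ^ t) ^ m = (b ^ m) ^ t := by
    intro m
    rw [← zpow_natCast, ← zpow_mul, mul_comm, zpow_mul, zpow_natCast]
  rw [e, e, h]

omit [Finite V] in
/-- in a line, every element is a power of any given non-identity element. -/
theorem exists_zpow_of_line {p : ℕ} [Fact p.Prime] (L : Subgroup V) (hL : Nat.card L = p) (b : V)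
    (hb : b ∈ L) (hb1 : b ≠ 1) (l : V) (hl : l ∈ L) : ∃ t : ℤ, l = b ^ t := by
  have h1 : (⟨b, hb⟩ : L) ≠ 1 := fun h => hb1 (congrArg Subtype.val h)
  have h2 : (⟨l, hl⟩ : L) ∈ Subgroup.zpowers (⟨b, hb⟩ : L) := mem_zpowers_of_prime_card hL h1
  obtain ⟨t, ht⟩ := Subgroup.mem_zpowers_iff.1 h2
  refine ⟨t, ?_⟩
  have := congrArg Subtype.val ht
  simpa using this.symm

omit [Finite V] in
theorem exists_ne_one_of_line {p : ℕ} [Fact p.Prime] (L : Subgroup V) (hL : Nat.card L = p) :
    ∃ l ∈ L, l ≠ 1 := by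
  have hp := (Fact.out : p.Prime)
  by_contra h
  have : L = ⊥ := by
    rw [Subgroup.eq_bot_iff_forall]
    intro x hx
    by_contra hx1
    exact h ⟨x, hx, hx1⟩
  rw [this, Subgroup.card_bot] at hL
  exact hp.one_lt.ne hL

/-- an automorphism stabilising three distinct lines is a power map. -/
theorem scalar_of_three_lines {p : ℕ} [Fact p.Prime] (hV : Nat.card V = p ^ 2)
    (L1 L2 L3 : Subgroup V) (h1 : Nat.card L1 = p) (h2 : Nat.card L2 = p) (h3 : Nat.card L3 = p)
    (h12 : L1 ≠ L2) (h13 : L1 ≠ L3) (h23 : L2 ≠ L3) (α : MulAut V)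
    (ha1 : ∀ l ∈ L1, α l ∈ L1) (ha2 : ∀ l ∈ L2, α l ∈ L2) (ha3 : ∀ l ∈ L3, α l ∈ L3) :
    ∃ k : ℕ, ∀ v : V, α v = v ^ k := by
  obtain ⟨k1, hk1⟩ := pow_on_line (p := p) L1 h1 α ha1
  obtain ⟨k2, hk2⟩ := pow_on_line (p := p) L2 h2 α ha2
  obtain ⟨k3, hk3⟩ := pow_on_line (p := p) L3 h3 α ha3
  have i12 := line_inf_eq_bot L1 L2 h1 h2 h12
  have i13 := line_inf_eq_bot L1 L3 h1 h3 h13
  have i23 := line_inf_eq_bot L2 L3 h2 h3 h23
  obtain ⟨l2, hl2, hl21⟩ := exists_ne_one_of_line L2 h2
  obtain ⟨l3, hl3, hl31⟩ := exists_ne_one_of_line L3 h3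
  have hl2' : l2 ∉ L1 := by
    intro h
    have : l2 ∈ L1 ⊓ L2 := ⟨h, hl2⟩
    rw [i12, Subgroup.mem_bot] at this
    exact hl21 this
  have hdec := exists_decomp hV L1 h1 l2 hl2'
  obtain ⟨j, a, ha, hl3eq⟩ := hdec l3
  set b := l2 ^ j with hb
  have hbL : b ∈ L2 := L2.zpow_mem hl2 j
  have hb1 : b ≠ 1 := by
    intro h
    rw [h, one_mul] at hl3eq
    have : l3 ∈ L1 ⊓ L3 := ⟨hl3eq ▸ ha, hl3⟩
    rw [i13, Subgroup.mem_bot] at this
    exact hl31 this
  have ha1' : a ≠ 1 := by
    intro h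
    rw [h, mul_one] at hl3eq
    have : l3 ∈ L2 ⊓ L3 := ⟨hl3eq ▸ hbL, hl3⟩
    rw [i23, Subgroup.mem_bot] at this
    exact hl31 this
  -- compare the two expressions of `α l3`
  have e1 : α l3 = b ^ k3 * a ^ k3 := by rw [hk3 l3 hl3, hl3eq, mul_pow]
  have e2 : α l3 = b ^ k2 * a ^ k1 := by rw [hl3eq, map_mul, hk2 b hbL, hk1 a ha]
  have e3 : b ^ k3 * a ^ k3 = b ^ k2 * a ^ k1 := e1.symm.trans e2
  have e4 : (b ^ k2)⁻¹ * b ^ k3 = a ^ k1 * (a ^ k3)⁻¹ := by
    rw [inv_mul_eq_iff_eq_mul, ← mul_assoc, eq_mul_inv_iff_mul_eq, e3]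
  have e5 : (b ^ k2)⁻¹ * b ^ k3 ∈ L1 ⊓ L2 := by
    refine ⟨?_, L2.mul_mem (L2.inv_mem (L2.pow_mem hbL _)) (L2.pow_mem hbL _)⟩
    rw [e4]
    exact L1.mul_mem (L1.pow_mem ha _) (L1.inv_mem (L1.pow_mem ha _))
  rw [i12, Subgroup.mem_bot] at e5
  have eb : b ^ k3 = b ^ k2 := by
    rw [inv_mul_eq_one] at e5; exact e5.symm
  have ea : a ^ k3 = a ^ k1 := by
    rw [eb] at e3
    exact mul_left_cancel e3
  refine ⟨k3, fun v => ?_⟩
  obtain ⟨i, a', ha', rfl⟩ := hdec v
  obtain ⟨t, ht⟩ := exists_zpow_of_line L2 h2 b hbL hb1 (l2 ^ i) (L2.zpow_mem hl2 i)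
  obtain ⟨t', ht'⟩ := exists_zpow_of_line L1 h1 a ha ha1' a' ha'
  rw [map_mul, hk2 _ (L2.zpow_mem hl2 i), hk1 a' ha', mul_pow, ht, ht']
  rw [zpow_pow_congr b t k2 k3 eb.symm, zpow_pow_congr a t' k1 k3 ea.symm]

theorem card_lt_of_lt {G : Type*} [Group G] {H K : Subgroup G} [Finite K] (h : H < K) :
    Nat.card H < Nat.card K := by
  have hss : (H : Set G) ⊂ (K : Set G) := h
  have hfin : (K : Set G).Finite := Set.toFinite _
  have := Set.ncard_lt_ncard hss hfin
  have h2 : Nat.card H = (H : Set G).ncard := Nat.card_coe_set_eq (H : Set G)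
  have h3 : Nat.card K = (K : Set G).ncard := Nat.card_coe_set_eq (K : Set G)
  omega

/-- **Theorem C**: an odd-order solvable `p'`-group of automorphisms of `V` is abelian. -/
theorem abelian_of_odd_pprime {p : ℕ} [Fact p.Prime] (hV : Nat.card V = p ^ 2)
    (hexp : ∀ v : V, v ^ p = 1) : ∀ (n : ℕ) (X : Subgroup (MulAut V)), Nat.card X = n → Odd n →
    ¬ p ∣ n → Group.IsSolvable X → ∀ a ∈ X, ∀ b ∈ X, a * b = b * a := by
  have hp := (Fact.out : p.Prime)
  intro n
  induction n using Nat.strong_induction_on with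
  | _ n ih =>
  intro X hXn hodd hpn hsolv
  -- if `X` leaves a line invariant
  have hlinecase : (∃ L : Subgroup V, Nat.card L = p ∧ Inv X L) → ∀ a ∈ X, ∀ b ∈ X, a * b = b * a := by
    rintro ⟨L, hL, hinv⟩ a ha b hb
    have h1 := commutator_pow_eq_one_of_inv hV hexp X L hL hinv ⁅a, b⁆
      (Subgroup.commutator_mem_commutator ha hb)
    have h2 : ⁅a, b⁆ ∈ X := X.mul_mem (X.mul_mem (X.mul_mem ha hb) (X.inv_mem ha)) (X.inv_mem hb)
    have h3 : orderOf ⁅a, b⁆ ∣ p := orderOf_dvd_of_pow_eq_one h1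
    have h4 : orderOf ⁅a, b⁆ ∣ n := by
      rw [← hXn, ← Subgroup.orderOf_mk _ h2]
      exact orderOf_dvd_natCard _
    have h5 : orderOf ⁅a, b⁆ = 1 := by
      rcases (Nat.dvd_prime hp).1 h3 with h | h
      · exact h
      · exact absurd (h ▸ h4) hpn
    have h6 : ⁅a, b⁆ = 1 := orderOf_eq_one_iff.1 h5
    exact (commutatorElement_eq_one_iff_mul_comm.1 h6)
  by_cases hline : ∃ L : Subgroup V, Nat.card L = p ∧ Inv X L
  · exact hlinecase hline
  by_cases hab : ∀ a ∈ X, ∀ b ∈ X, a * b = b * a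
  · exact hab
  exfalso
  have hXfin : Finite X := inferInstance
  -- `⁅X, X⁆ < X`
  have hcomm_lt : ⁅X, X⁆ < X := by
    have : Nontrivial X := by
      by_contra hnt
      rw [not_nontrivial_iff_subsingleton] at hnt
      apply hab
      intro a ha b hb
      have e1 : (⟨a, ha⟩ : X) = 1 := Subsingleton.elim _ _
      have e2 : (⟨b, hb⟩ : X) = 1 := Subsingleton.elim _ _
      have e1' : a = 1 := congrArg Subtype.val e1
      have e2' : b = 1 := congrArg Subtype.val e2
      rw [e1', e2']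
    have h1 := Group.IsSolvable.commutator_lt_top_of_nontrivial X
    have h2 : ⁅X, X⁆ ≤ X := by
      rw [Subgroup.commutator_le]
      intro a ha b hb
      exact X.mul_mem (X.mul_mem (X.mul_mem ha hb) (X.inv_mem ha)) (X.inv_mem hb)
    refine lt_of_le_of_ne h2 ?_
    intro h
    rw [← Subgroup.map_subtype_commutator] at h
    have h3 : commutator X = ⊤ := by
      rw [eq_top_iff]
      intro x _
      have hx : (x : MulAut V) ∈ Subgroup.map X.subtype (commutator X) := by rw [h]; exact x.2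
      obtain ⟨y, hy, hyx⟩ := hx
      have : y = x := Subtype.ext hyx
      rwa [this] at hy
    exact h1.ne h3
  -- a maximal subgroup between `⁅X, X⁆` and `X`
  obtain ⟨N, hNmax⟩ := Set.Finite.exists_maximal (Set.toFinite {N : Subgroup (MulAut V) | ⁅X, X⁆ ≤ N ∧ N < X})
    ⟨⁅X, X⁆, le_refl _, hcomm_lt⟩
  obtain ⟨⟨hcN, hNX⟩, hNmax'⟩ := hNmax
  have hNle : N ≤ X := hNX.le
  -- `N` is normal in `X`
  have hNnorm : ∀ x ∈ X, ∀ a ∈ N, x * a * x⁻¹ ∈ N := by
    intro x hx a ha
    have h1 : ⁅x, a⁆ ∈ N := hcN (Subgroup.commutator_mem_commutator hx (hNle ha))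
    have h2 : x * a * x⁻¹ = ⁅x, a⁆ * a := by rw [commutatorElement_def]; group
    rw [h2]
    exact N.mul_mem h1 ha
  -- `N` is abelian by induction
  have hNcard : Nat.card N < n := hXn ▸ card_lt_of_lt hNX
  have hNdvd : Nat.card N ∣ n := hXn ▸ Subgroup.card_dvd_of_le hNle
  have hNodd : Odd (Nat.card N) := by
    obtain ⟨c, hc⟩ := hNdvd
    rw [hc] at hodd
    exact (Nat.odd_mul.1 hodd).1
  have hNp : ¬ p ∣ Nat.card N := fun h => hpn (h.trans hNdvd)
  have hNsolv : Group.IsSolvable N :=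
    Group.isSolvable_of_isSolvable_injective (Subgroup.inclusion_injective hNle)
  have hNab := ih (Nat.card N) hNcard N rfl hNodd hNp hNsolv
  -- every element of `X` has odd order
  have hXpow : ∀ x ∈ X, x ^ n = 1 := by
    intro x hx
    have h1 : (⟨x, hx⟩ : X) ^ Nat.card X = 1 := pow_card_eq_one'
    rw [hXn] at h1
    exact congrArg Subtype.val h1
  -- `N` is central in `X`
  have hNcentral : ∀ x ∈ X, ∀ a ∈ N, x * a = a * x := by
    by_cases hNline : ∃ L : Subgroup V, Nat.card L = p ∧ Inv N L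
    · by_cases hsc : ∀ a ∈ N, ∃ k : ℕ, ∀ v : V, a v = v ^ k
      · intro x _ a ha
        obtain ⟨k, hk⟩ := hsc a ha
        exact (commute_of_scalar a x k (fun v => by rw [hk v, zpow_natCast])).symm
      · exfalso
        push Not at hsc
        obtain ⟨a0, ha0, hnsc⟩ := hsc
        obtain ⟨L, hL, hLinv⟩ := hNline
        -- the orbit of `L` under `X` consists of `N`-invariant lines
        have horb : ∀ x ∈ X, Nat.card (x • L : Subgroup V) = p ∧ Inv N (x • L) := by
          intro x hx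
          refine ⟨?_, ?_⟩
          · rw [← hL]
            exact (Nat.card_congr (Subgroup.equivSMul x L).toEquiv).symm
          · intro a ha l hl
            obtain ⟨l0, hl0, rfl⟩ := hl
            have h1 : x⁻¹ * a * x ∈ N := by
              have := hNnorm x⁻¹ (X.inv_mem hx) a ha
              rwa [inv_inv] at this
            have h2 : (x⁻¹ * a * x) l0 ∈ L := hLinv _ h1 l0 hl0
            have h3 : a (x l0) = x ((x⁻¹ * a * x) l0) := by
              simp [MulAut.mul_apply]
            show a (x l0) ∈ x • L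
            rw [h3]
            exact Subgroup.smul_mem_pointwise_smul _ x L h2
        -- `X` does not fix `L`
        have hnotfix : ∃ x ∈ X, x • L ≠ L := by
          by_contra h
          push Not at h
          apply hline
          refine ⟨L, hL, ?_⟩
          intro x hx l hl
          have : x • l ∈ x • L := Subgroup.smul_mem_pointwise_smul l x L hl
          rw [h x hx] at this
          exact this
        obtain ⟨x, hx, hxL⟩ := hnotfix
        -- `x² • L` is a third line
        have hx2 : (x * x) • L ≠ L := by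
          intro h
          -- then `x` acts on `{L, x • L}` with `x² = 1`; odd order forces `x • L = L`
          have hk : ∀ j : ℕ, (x ^ (2 * j)) • L = L := by
            intro j
            induction j with
            | zero => simp
            | succ j ihj =>
              rw [Nat.mul_succ, pow_add, pow_two, mul_smul, h, ihj]
          obtain ⟨j, hj⟩ := hodd
          have h1 : x ^ (2 * j + 1) = 1 := hj ▸ hXpow x hx
          have h2 : x • L = (x ^ (2 * j + 1)) • L := by
            rw [pow_succ', mul_smul, hk j]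
          rw [h1, one_smul] at h2
          exact hxL h2
        have hx2' : (x * x) • L ≠ x • L := by
          intro h
          rw [mul_smul] at h
          exact hxL (smul_left_cancel x h)
        obtain ⟨c1, i1⟩ := horb x hx
        obtain ⟨c2, i2⟩ := horb (x * x) (X.mul_mem hx hx)
        obtain ⟨k, hk⟩ := scalar_of_three_lines hV L (x • L) ((x * x) • L) hL c1 c2 (Ne.symm hxL)
          (Ne.symm hx2) (Ne.symm hx2') a0 (hLinv a0 ha0) (i1 a0 ha0) (i2 a0 ha0)
        obtain ⟨v, hv⟩ := hnsc k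
        exact hv (hk v)
    · -- irreducible case
      intro x hx a ha
      have hirr : ∀ L : Subgroup V, Nat.card L = p → ¬ Inv N L := fun L hL h => hNline ⟨L, hL, h⟩
      exact commute_of_irred hV hexp N hNab hirr x n hodd (hXpow x hx) a ha (hNnorm x hx a ha)
  -- pick `x0 ∈ X \\ N`
  obtain ⟨x0, hx0X, hx0N⟩ : ∃ x0 ∈ X, x0 ∉ N := by
    by_contra h
    push Not at h
    exact hNX.ne (le_antisymm hNle h)
  have hsup : N ⊔ Subgroup.zpowers x0 = X := by
    by_contra hne
    have hle : N ⊔ Subgroup.zpowers x0 ≤ X := sup_le hNle (Subgroup.zpowers_le.2 hx0X)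
    have hmem : N ⊔ Subgroup.zpowers x0 ∈ {N : Subgroup (MulAut V) | ⁅X, X⁆ ≤ N ∧ N < X} :=
      ⟨hcN.trans le_sup_left, lt_of_le_of_ne hle hne⟩
    have := hNmax' hmem le_sup_left
    exact hx0N (this ((le_sup_right : Subgroup.zpowers x0 ≤ _) (Subgroup.mem_zpowers x0)))
  apply hab
  have hcl : X = Subgroup.closure ((N : Set (MulAut V)) ∪ {x0}) := by
    rw [Subgroup.closure_union, Subgroup.closure_eq, ← Subgroup.zpowers_eq_closure, hsup]
  have hgen : ∀ a ∈ ((N : Set (MulAut V)) ∪ {x0}), ∀ b ∈ ((N : Set (MulAut V)) ∪ {x0}), a * b = b * a := by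
    rintro a (ha | ha) b (hb | hb)
    · exact hNab a ha b hb
    · rw [Set.mem_singleton_iff] at hb
      rw [hb]
      exact (hNcentral x0 hx0X a ha).symm
    · rw [Set.mem_singleton_iff] at ha
      rw [ha]
      exact hNcentral x0 hx0X b hb
    · rw [Set.mem_singleton_iff] at ha hb
      rw [ha, hb]
  have hcomm := Subgroup.isMulCommutative_closure hgen
  intro a ha b hb
  rw [hcl] at ha hb
  have := hcomm.is_comm.comm (⟨a, ha⟩ : Subgroup.closure ((N : Set (MulAut V)) ∪ {x0})) ⟨b, hb⟩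
  exact congrArg Subtype.val this

end Cfsg.Agent.Lib.Helper26.OddGL2
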