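import Mathlib
import Cfsg.Agent.Lib.Helper26.OddGL2d

/-!
# Odd-order automorphism groups of `C_p × C_p` : part e (final statements)

`V` a finite group of order dividing `p ^ 2`, commutative of exponent `p`, `p` odd, and `X` an odd-order
solvable subgroup of `MulAut V`:
* `commutator_pow_eq_one'`: every element of `⁅X, X⁆` has order dividing `p`;
* `prime_le_of_dvd_card`: every prime divisor of `|X|` is at most `p`.
-/

set_option autoImplicit false

namespace Cfsg.Agent.Lib.Helper26.OddGL2

open scoped commutatorElement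

section comm
variable {V : Type*} [CommGroup V] [Finite V]

theorem commutator_pow_eq_one {p : ℕ} [Fact p.Prime] (hp2 : p ≠ 2) (hV : Nat.card V = p ^ 2)
    (hexp : ∀ v : V, v ^ p = 1) (X : Subgroup (MulAut V)) (hodd : Odd (Nat.card X))
    (hsolv : Group.IsSolvable X) : ∀ c ∈ ⁅X, X⁆, c ^ p = 1 := by
  by_cases hpX : p ∣ Nat.card X
  · obtain ⟨g, hg⟩ := exists_prime_orderOf_dvd_card' p hpX
    have hg' : orderOf (g : MulAut V) = p := by rw [Subgroup.orderOf_coe, hg]
    obtain ⟨L, hL, hinv⟩ := exists_inv_line_of_orderOf hp2 hV hexp X hodd (g : MulAut V) g.2 hg'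
    exact commutator_pow_eq_one_of_inv hV hexp X L hL hinv
  · have hab := abelian_of_odd_pprime hV hexp (Nat.card X) X rfl hodd hpX hsolv
    have hle : ⁅X, X⁆ ≤ ⊥ := by
      rw [Subgroup.commutator_le]
      intro a ha b hb
      rw [Subgroup.mem_bot, commutatorElement_eq_one_iff_mul_comm]
      exact hab a ha b hb
    intro c hc
    have := hle hc
    rw [Subgroup.mem_bot] at this
    rw [this, one_pow]

end comm

/-- the automorphism group of a cyclic group is commutative. -/
theorem mulAut_comm_of_isCyclic {V : Type*} [Group V] [IsCyclic V] (a b : MulAut V) : a * b = b * a := by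
  apply (IsCyclic.mulAutMulEquiv V).injective
  rw [map_mul, map_mul, mul_comm]

variable {V : Type*} [Group V] [Finite V]

omit [Group V] [Finite V] in
theorem card_cases {p : ℕ} [Fact p.Prime] (hV : Nat.card V ∣ p ^ 2) :
    Nat.card V = 1 ∨ Nat.card V = p ∨ Nat.card V = p ^ 2 := by
  have hp := (Fact.out : p.Prime)
  obtain ⟨k, hk2, hk⟩ := (Nat.dvd_prime_pow hp).1 hV
  interval_cases k
  · left; simpa using hk
  · right; left; simpa using hk
  · right; right; exact hk

theorem commutator_pow_eq_one' {p : ℕ} [Fact p.Prime] (hp2 : p ≠ 2) (hV : Nat.card V ∣ p ^ 2)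
    (hcomm : ∀ a b : V, a * b = b * a) (hexp : ∀ v : V, v ^ p = 1) (X : Subgroup (MulAut V))
    (hodd : Odd (Nat.card X)) (hsolv : Group.IsSolvable X) : ∀ c ∈ ⁅X, X⁆, c ^ p = 1 := by
  have hcyc : IsCyclic V → ∀ c ∈ ⁅X, X⁆, c ^ p = 1 := by
    intro hc
    have hle : ⁅X, X⁆ ≤ ⊥ := by
      rw [Subgroup.commutator_le]
      intro a _ b _
      rw [Subgroup.mem_bot, commutatorElement_eq_one_iff_mul_comm]
      exact mulAut_comm_of_isCyclic a b
    intro c hc
    have := hle hc
    rw [Subgroup.mem_bot] at this
    rw [this, one_pow]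
  rcases card_cases hV with h | h | h
  · apply hcyc
    have : Subsingleton V := (Nat.card_eq_one_iff_unique.1 h).1
    exact isCyclic_of_subsingleton
  · exact hcyc (isCyclic_of_prime_card h)
  · let _ : CommGroup V := { (inferInstance : Group V) with mul_comm := hcomm }
    exact commutator_pow_eq_one hp2 h hexp X hodd hsolv

/-- prime divisors of the order of an odd-order group of automorphisms of `V` are at most `p`. -/
theorem prime_le_of_dvd_card {p : ℕ} [Fact p.Prime] (hp2 : p ≠ 2) (hV : Nat.card V ∣ p ^ 2)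
    (X : Subgroup (MulAut V)) (hodd : Odd (Nat.card X)) (q : ℕ) (hq : q.Prime)
    (hqX : q ∣ Nat.card X) : q ≤ p := by
  have hp := (Fact.out : p.Prime)
  by_cases hqp : q = p
  · exact hqp.le
  have : Fact q.Prime := ⟨hq⟩
  obtain ⟨g, hg⟩ := exists_prime_orderOf_dvd_card' q hqX
  have hg' : orderOf (g : MulAut V) = q := by rw [Subgroup.orderOf_coe, hg]
  set α : MulAut V := (g : MulAut V) with hα
  have hZ : IsPGroup q (Subgroup.zpowers α) :=
    IsPGroup.of_card (n := 1) (by rw [Nat.card_zpowers, hg', pow_one])
  have hmod := hZ.card_modEq_card_fixedPoints V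
  -- the fixed points form a proper subgroup
  let F : Subgroup V :=
    { carrier := {v | α v = v}
      one_mem' := map_one α
      mul_mem' := by
        intro a b (ha : α a = a) (hb : α b = b)
        show α (a * b) = a * b
        rw [map_mul, ha, hb]
      inv_mem' := by
        intro a (ha : α a = a)
        show α a⁻¹ = a⁻¹
        rw [map_inv, ha] }
  have hset : (MulAction.fixedPoints (Subgroup.zpowers α) V) = (F : Set V) := by
    ext v
    constructor
    · intro hv
      exact hv ⟨α, Subgroup.mem_zpowers α⟩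
    · intro hv
      rintro ⟨h, hh⟩
      obtain ⟨k, rfl⟩ := Subgroup.mem_zpowers_iff.1 hh
      have hv' : α v = v := hv
      have : α ∈ MulAction.stabilizer (MulAut V) v := hv'
      exact (MulAction.stabilizer (MulAut V) v).zpow_mem this k
  have hcard : Nat.card (MulAction.fixedPoints (Subgroup.zpowers α) V) = Nat.card F := by
    rw [hset]; rfl
  rw [hcard] at hmod
  have hFne : F ≠ ⊤ := by
    intro h
    have : α = 1 := by
      ext v
      have : v ∈ F := by rw [h]; trivial
      exact this
    rw [this, orderOf_one] at hg'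
    exact hq.one_lt.ne hg'
  have hFdvd : Nat.card F ∣ Nat.card V := Subgroup.card_subgroup_dvd_card F
  have hFlt : Nat.card F < Nat.card V := by
    rcases Nat.lt_or_ge (Nat.card F) (Nat.card V) with h | h
    · exact h
    · exfalso
      have : Nat.card F = Nat.card V := le_antisymm (Nat.le_of_dvd Nat.card_pos hFdvd) h
      exact hFne ((Subgroup.card_eq_iff_eq_top F).1 this)
  have hqdvd : q ∣ Nat.card V - Nat.card F := (Nat.modEq_iff_dvd' hFlt.le).1 hmod.symm
  have hqodd : Odd q := by
    obtain ⟨c, hc⟩ := hqX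
    rw [hc] at hodd
    exact (Nat.odd_mul.1 hodd).1
  -- numerics
  have hcase : q ∣ p - 1 ∨ q ∣ p + 1 := by
    have hFd : Nat.card F ∣ p ^ 2 := hFdvd.trans hV
    obtain ⟨i, hi2, hi⟩ := (Nat.dvd_prime_pow hp).1 hFd
    obtain ⟨j, hj2, hj⟩ := (Nat.dvd_prime_pow hp).1 hV
    rw [hi, hj] at hqdvd hFlt
    have hij : i < j := (Nat.pow_lt_pow_iff_right hp.one_lt).1 hFlt
    have h1 := hp.one_lt
    obtain ⟨r, rfl⟩ : ∃ r, p = r + 1 := ⟨p - 1, by omega⟩
    interval_cases j
    · omega
    · have : i = 0 := by omega
      subst this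
      left
      simpa using hqdvd
    · interval_cases i
      · -- `q ∣ p² - 1`
        have e : (r + 1) ^ 2 - (r + 1) ^ 0 = r * (r + 2) := by
          rw [pow_zero]
          have : (r + 1) ^ 2 = r * (r + 2) + 1 := by ring
          omega
        rw [e] at hqdvd
        rcases (Nat.Prime.dvd_mul hq).1 hqdvd with h | h
        · left; simpa using h
        · right; simpa using h
      · -- `q ∣ p² - p`
        have e : (r + 1) ^ 2 - (r + 1) ^ 1 = (r + 1) * r := by
          rw [pow_one]
          have : (r + 1) ^ 2 = (r + 1) * r + (r + 1) := by ring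
          omega
        rw [e] at hqdvd
        rcases (Nat.Prime.dvd_mul hq).1 hqdvd with h | h
        · exfalso
          exact hqp ((Nat.prime_dvd_prime_iff_eq hq hp).1 h)
        · left; simpa using h
  rcases hcase with h | h
  · have h1 := hp.one_lt
    have := Nat.le_of_dvd (by omega) h
    omega
  · obtain ⟨m, hm⟩ := h
    obtain ⟨a, ha⟩ := hqodd
    have hpodd : p = 2 ∨ Odd p := hp.eq_two_or_odd'
    rcases hpodd with h2 | ⟨b, hb⟩
    · exact absurd h2 hp2
    · rcases Nat.even_or_odd' m with ⟨c, hc | hc⟩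
      · rw [hc] at hm
        rcases Nat.eq_zero_or_pos c with h0 | h0
        · rw [h0] at hm; omega
        · have : q * 2 ≤ q * (2 * c) := Nat.mul_le_mul_left q (by omega)
          omega
      · exfalso
        rw [hc, ha, hb] at hm
        have : (2 * a + 1) * (2 * c + 1) = 2 * (2 * a * c + a + c) + 1 := by ring
        omega

end Cfsg.Agent.Lib.Helper26.OddGL2
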