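import Mathlib
import Cfsg.Prelude.Def_CaseTheorems
import Cfsg.Agent.Lib.Helper26.OddGL2e
import Cfsg.Agent.Lib.Helper03.PGroupFrattini
import Cfsg.Agent.S0093
import Cfsg.Agent.S0096
import Cfsg.Agent.S0120
import Cfsg.Agent.S0121
import Cfsg.Agent.S3771
import Cfsg.Agent.S4207

/-!
# Odd-order automorphism groups of `p`-groups of rank at most two (`p` odd)

For a finite `p`-group `R` (`p` odd) with no elementary abelian subgroup of order `p ^ 3` there is a finite
commutative group `V` of exponent `p` and order dividing `p ^ 2` together with a homomorphism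
`ρ : MulAut R →* MulAut V` whose kernel consists of `p`-elements (`exists_section`).  Consequently
(`derived_and_primes`) for every solvable subgroup `X` of `MulAut R` of odd order, the elements of `⁅X, X⁆`
are `p`-elements and every prime divisor of `|X|` is at most `p`.
-/

set_option autoImplicit false

universe u

namespace Cfsg.Agent.Lib.Helper26.Rank2Aut

open scoped commutatorElement
open Cfsg

/-- restriction of automorphisms to an invariant subgroup. -/
def resInv {R : Type*} [Group R] (D : Subgroup R) (hD : ∀ α : MulAut R, ∀ d ∈ D, α d ∈ D) :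
    MulAut R →* MulAut D where
  toFun α :=
    { toFun := fun d => ⟨α d, hD α d d.2⟩
      invFun := fun d => ⟨α⁻¹ d, hD α⁻¹ d d.2⟩
      left_inv := fun d => Subtype.ext (by simp)
      right_inv := fun d => Subtype.ext (by simp)
      map_mul' := fun a b => Subtype.ext (by simp) }
  map_one' := by ext d; rfl
  map_mul' := fun α β => by ext d; rfl

@[simp] theorem resInv_apply {R : Type*} [Group R] (D : Subgroup R)
    (hD : ∀ α : MulAut R, ∀ d ∈ D, α d ∈ D) (α : MulAut R) (d : D) :
    ((resInv D hD α d : D) : R) = α d := rfl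

/-- the action of automorphisms on the Frattini quotient. -/
noncomputable def frattQ (P : Type*) [Group P] : MulAut P →* MulAut (P ⧸ frattini P) where
  toFun α := QuotientGroup.congr (frattini P) (frattini P) α
    (Subgroup.characteristic_iff_map_eq.1 inferInstance α)
  map_one' := by
    ext x
    induction x using QuotientGroup.induction_on with
    | H x => rfl
  map_mul' := fun α β => by
    ext x
    induction x using QuotientGroup.induction_on with
    | H x => rfl

theorem frattQ_mk (P : Type*) [Group P] (α : MulAut P) (x : P) :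
    frattQ P α (QuotientGroup.mk x) = QuotientGroup.mk (α x) := rfl

/-- the kernel of the action on the Frattini quotient of a `p`-group is a `p`-group (Burnside). -/
theorem isPGroup_ker_frattQ {P : Type*} [Group P] [Finite P] {p : ℕ} [Fact p.Prime]
    (hP : IsPGroup p P) : IsPGroup p (frattQ P).ker := by
  have hp : p.Prime := Fact.out
  obtain ⟨n, hn⟩ := hP.exists_card_eq
  obtain ⟨r, hr⟩ := hP.index (frattini P)
  have hdvd : Nat.card (frattQ P).ker ∣ p ^ (r * (n - r)) := by
    apply Cfsg.Agent.S4207.result hn hr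
    intro α hα x
    rw [MonoidHom.mem_ker] at hα
    have h1 : frattQ P α (QuotientGroup.mk x) = QuotientGroup.mk x := by
      rw [hα]; rfl
    rw [frattQ_mk, QuotientGroup.eq_iff_div_mem, div_eq_mul_inv] at h1
    exact h1
  obtain ⟨k, -, hk⟩ := (Nat.dvd_prime_pow hp).1 hdvd
  exact IsPGroup.of_card hk

theorem pRankLE_subgroup {R : Type*} [Group R] {p k : ℕ} (S : Subgroup R) (h : PRankLE p k R) :
    PRankLE p k S := by
  intro A hA hAp
  have h1 : Nat.card (A.map S.subtype) = Nat.card A :=
    Subgroup.card_map_of_injective S.subtype_injective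
  rw [← h1]
  apply h (A.map S.subtype) inferInstance
  rintro _ ⟨a, ha, rfl⟩
  have := hAp a ha
  have h2 := congrArg Subtype.val this
  simpa using h2

/-- **the detecting section** of a `p`-group of rank at most two. -/
theorem exists_section {R : Type u} [Group R] [Finite R] {p : ℕ} [Fact p.Prime] (hp2 : p ≠ 2)
    (hR : IsPGroup p R) (hrk : PRankLE p 2 R) :
    ∃ (V : Type u) (_ : Group V) (_ : Finite V) (ρ : MulAut R →* MulAut V),
      Nat.card V ∣ p ^ 2 ∧ (∀ a b : V, a * b = b * a) ∧ (∀ v : V, v ^ p = 1) ∧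
      ∀ α ∈ ρ.ker, ∃ k : ℕ, α ^ (p ^ k) = 1 := by
  have hp : p.Prime := Fact.out
  obtain ⟨H, hHchar, h1, h2, h3⟩ := Cfsg.Agent.S0093.result hR
  have hHp : IsPGroup p H := hR.to_subgroup H
  -- `H` has class at most two
  have hcl : ⁅commutator H, (⊤ : Subgroup H)⁆ = ⊥ := by
    rw [Subgroup.commutator_eq_bot_iff_le_centralizer, commutator_def, Subgroup.commutator_le]
    intro x _ y _
    rw [Subgroup.mem_centralizer_iff]
    intro z _
    apply Subtype.ext
    have hc : ⁅(x : R), (y : R)⁆ ∈ Subgroup.centralizer (H : Set R) :=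
      (h2 (Subgroup.commutator_mem_commutator x.2 (Subgroup.mem_top _))).2
    have := (Subgroup.mem_centralizer_iff.1 hc) (z : R) z.2
    have hcoe : ((⁅x, y⁆ : H) : R) = ⁅(x : R), (y : R)⁆ := by
      simp [commutatorElement_def]
    rw [Subgroup.coe_mul, Subgroup.coe_mul, hcoe]
    exact this
  -- `Ω₁(H)`
  let D : Subgroup R :=
    { carrier := {x | x ∈ H ∧ x ^ p = 1}
      one_mem' := ⟨H.one_mem, one_pow _⟩
      mul_mem' := by
        rintro a b ⟨ha, hap⟩ ⟨hb, hbp⟩
        refine ⟨H.mul_mem ha hb, ?_⟩
        have hg : (⟨a, ha⟩ * ⟨b, hb⟩ : H) ∈ Subgroup.closure {x : H | x ^ p = 1} := by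
          apply Subgroup.mul_mem
          · exact Subgroup.subset_closure (Subtype.ext (by simpa using hap))
          · exact Subgroup.subset_closure (Subtype.ext (by simpa using hbp))
        have := Cfsg.Agent.S0096.result hp2 hHp hcl _ hg
        have h4 := congrArg Subtype.val this
        simpa using h4
      inv_mem' := by
        rintro a ⟨ha, hap⟩
        exact ⟨H.inv_mem ha, by rw [inv_pow, hap, inv_one]⟩ }
  have hDmem : ∀ x, x ∈ D ↔ x ∈ H ∧ x ^ p = 1 := fun _ => Iff.rfl
  have hHinv : ∀ α : MulAut R, ∀ d ∈ H, α d ∈ H := by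
    intro α d hd
    have := hHchar.fixed α
    have h4 : d ∈ Subgroup.comap α.toMonoidHom H := by rw [this]; exact hd
    exact h4
  have hDinv : ∀ α : MulAut R, ∀ d ∈ D, α d ∈ D := by
    intro α d hd
    rw [hDmem] at hd ⊢
    exact ⟨hHinv α d hd.1, by rw [← map_pow, hd.2, map_one]⟩
  have hDp : IsPGroup p D := hR.to_subgroup D
  have hDexp : ∀ x : D, x ^ p = 1 := fun x => Subtype.ext (by simpa using x.2.2)
  have hDrk : PRankLE p 2 D := pRankLE_subgroup D hrk
  have hDcard : Nat.card D ≤ p ^ 3 := Cfsg.Agent.S3771.result hDp hDrk hDexp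
  -- the Frattini quotient
  have hVcomm : ∀ a b : D ⧸ frattini D, a * b = b * a := by
    intro a b
    induction a using QuotientGroup.induction_on with
    | H a =>
    induction b using QuotientGroup.induction_on with
    | H b =>
    rw [← commutatorElement_eq_one_iff_mul_comm]
    have : ⁅(QuotientGroup.mk a : D ⧸ frattini D), (QuotientGroup.mk b : D ⧸ frattini D)⁆ =
        (QuotientGroup.mk ⁅a, b⁆ : D ⧸ frattini D) := by
      rw [commutatorElement_def, commutatorElement_def]; rfl
    rw [this, QuotientGroup.eq_one_iff]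
    exact Cfsg.Agent.Lib.Helper03.commutator_le_frattini_of_isPGroup hDp
      (Subgroup.commutator_mem_commutator (Subgroup.mem_top a) (Subgroup.mem_top b))
  have hVexp : ∀ v : D ⧸ frattini D, v ^ p = 1 := by
    intro v
    induction v using QuotientGroup.induction_on with
    | H a =>
    rw [← QuotientGroup.mk_pow, hDexp a]; rfl
  have hVcard : Nat.card (D ⧸ frattini D) ∣ p ^ 2 := by
    obtain ⟨k, hk⟩ := hDp.exists_card_eq
    have hk3 : k ≤ 3 := by
      rw [hk] at hDcard
      exact (Nat.pow_le_pow_iff_right hp.one_lt).1 hDcard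
    have hidx : Nat.card (D ⧸ frattini D) = (frattini D).index := rfl
    have hmul := Subgroup.index_mul_card (frattini (D : Type u))
    have hdvd : (frattini D).index ∣ p ^ k := hk ▸ Subgroup.index_dvd_card _
    obtain ⟨j, hjk, hj⟩ := (Nat.dvd_prime_pow hp).1 hdvd
    rw [hidx, hj]
    by_cases hj2 : j ≤ 2
    · exact pow_dvd_pow p hj2
    exfalso
    have hj3 : j = 3 := by omega
    have hk3' : k = 3 := by omega
    rw [hj, hk, hj3, hk3'] at hmul
    have hfc : Nat.card (frattini D) = 1 := by
      have hpos : 0 < p ^ 3 := pow_pos hp.pos 3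
      exact Nat.eq_of_mul_eq_mul_left hpos (by rw [hmul, mul_one])
    have hfb : frattini D = ⊥ := Subgroup.card_eq_one.1 hfc
    have hcomm : ∀ a b : D, a * b = b * a := by
      intro a b
      rw [← commutatorElement_eq_one_iff_mul_comm]
      have := Cfsg.Agent.Lib.Helper03.commutator_le_frattini_of_isPGroup hDp
        (Subgroup.commutator_mem_commutator (Subgroup.mem_top a) (Subgroup.mem_top b))
      rw [hfb, Subgroup.mem_bot] at this
      exact this
    have htop : IsMulCommutative (⊤ : Subgroup D) := ⟨⟨fun a b => Subtype.ext (hcomm a b)⟩⟩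
    have := hDrk ⊤ htop (fun a _ => hDexp a)
    rw [Subgroup.card_top, hk, hk3'] at this
    have := (Nat.pow_le_pow_iff_right hp.one_lt).1 this
    omega
  -- the homomorphism
  let ρ : MulAut R →* MulAut (D ⧸ frattini D) := (frattQ D).comp (resInv D hDinv)
  refine ⟨D ⧸ frattini D, inferInstance, inferInstance, ρ, hVcard, hVcomm, hVexp, ?_⟩
  -- the pointwise stabiliser of `D` is a `p`-group
  let S : Subgroup (MulAut R) := (resInv D hDinv).ker
  have hSmem : ∀ γ : MulAut R, γ ∈ S ↔ ∀ d ∈ D, γ d = d := by
    intro γ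
    constructor
    · intro h d hd
      have h4 : resInv D hDinv γ = 1 := h
      have := congrArg (fun f : MulAut D => ((f ⟨d, hd⟩ : D) : R)) h4
      simpa using this
    · intro h
      show resInv D hDinv γ = 1
      ext d
      exact h d d.2
  have hSp : IsPGroup p S := by
    have hcardS : ∀ {q : ℕ}, q.Prime → q ∣ Nat.card S → q = p := by
      intro q hq hqS
      by_contra hqp
      have : Fact q.Prime := ⟨hq⟩
      obtain ⟨δ', hδ'⟩ := exists_prime_orderOf_dvd_card' q hqS
      set δ : MulAut R := (δ' : MulAut R) with hδdef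
      have hδ : orderOf δ = q := by rw [hδdef, Subgroup.orderOf_coe, hδ']
      have hδS : δ ∈ S := δ'.2
      have hcop : Nat.Coprime (orderOf δ) p := by
        rw [hδ]
        exact (Nat.coprime_primes hq hp).2 hqp
      -- `δ` is trivial on `H`
      have hδH : resInv H hHinv δ = 1 := by
        apply Cfsg.Agent.S0120.result hp2 hHp
        · exact Nat.Coprime.coprime_dvd_left (orderOf_map_dvd _ δ) hcop
        · intro x hx
          apply Subtype.ext
          have hxD : (x : R) ∈ D := ⟨x.2, by
            have := congrArg Subtype.val hx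
            simpa using this⟩
          exact (hSmem δ).1 hδS _ hxD
      have hδ1 : δ = 1 := by
        apply Cfsg.Agent.S0121.result hR H hHchar h1 h2 h3 δ hcop
        intro x hx
        have := congrArg (fun f : MulAut H => ((f ⟨x, hx⟩ : H) : R)) hδH
        simpa using this
      rw [hδ1, orderOf_one] at hδ
      exact hq.one_lt.ne hδ
    have hne : Nat.card S ≠ 0 := Nat.card_pos.ne'
    exact IsPGroup.of_card (Nat.eq_prime_pow_of_unique_prime_dvd hne hcardS)
  intro α hα
  have hβ : resInv D hDinv α ∈ (frattQ D).ker := hα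
  obtain ⟨k, hk⟩ := (isPGroup_ker_frattQ hDp) ⟨_, hβ⟩
  have hk' : (resInv D hDinv α) ^ (p ^ k) = 1 := by
    have := congrArg Subtype.val hk
    simpa using this
  have hγS : α ^ (p ^ k) ∈ S := by
    show resInv D hDinv (α ^ (p ^ k)) = 1
    rw [map_pow, hk']
  obtain ⟨e, he⟩ := hSp ⟨_, hγS⟩
  have he' : (α ^ (p ^ k)) ^ (p ^ e) = 1 := by
    have := congrArg Subtype.val he
    simpa using this
  refine ⟨k + e, ?_⟩
  rw [pow_add, pow_mul, he']

/-- **odd-order solvable automorphism groups of a `p`-group of rank at most two**: the derived group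
consists of `p`-elements and the prime divisors of the order are at most `p`. -/
theorem derived_and_primes {R : Type u} [Group R] [Finite R] {p : ℕ} [Fact p.Prime] (hp2 : p ≠ 2)
    (hR : IsPGroup p R) (hrk : PRankLE p 2 R) (X : Subgroup (MulAut R)) (hodd : Odd (Nat.card X))
    (hsolv : Group.IsSolvable X) :
    (∀ c ∈ ⁅X, X⁆, ∃ k : ℕ, c ^ (p ^ k) = 1) ∧
      ∀ q : ℕ, q.Prime → q ∣ Nat.card X → q ≤ p := by
  have hp : p.Prime := Fact.out
  obtain ⟨V, _, _, ρ, hVcard, hVcomm, hVexp, hker⟩ := exists_section hp2 hR hrk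
  have hXbar_dvd : Nat.card (X.map ρ) ∣ Nat.card X := Subgroup.card_map_dvd X ρ
  have hXbar_odd : Odd (Nat.card (X.map ρ)) := by
    obtain ⟨c, hc⟩ := hXbar_dvd
    rw [hc] at hodd
    exact (Nat.odd_mul.1 hodd).1
  have hXbar_solv : Group.IsSolvable (X.map ρ) :=
    Group.isSolvable_of_surjective (MonoidHom.subgroupMap_surjective ρ X)
  constructor
  · intro c hc
    have h1 : ρ c ∈ ⁅X.map ρ, X.map ρ⁆ := by
      rw [← Subgroup.map_commutator]
      exact Subgroup.mem_map_of_mem ρ hc
    have h2 := OddGL2.commutator_pow_eq_one' hp2 hVcard hVcomm hVexp (X.map ρ) hXbar_odd hXbar_solv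
      (ρ c) h1
    have h3 : c ^ p ∈ ρ.ker := by
      rw [MonoidHom.mem_ker, map_pow, h2]
    obtain ⟨k, hk⟩ := hker _ h3
    refine ⟨k + 1, ?_⟩
    rw [pow_succ', pow_mul, hk]
  · intro q hq hqX
    by_cases hqp : q = p
    · exact hqp.le
    have : Fact q.Prime := ⟨hq⟩
    obtain ⟨δ', hδ'⟩ := exists_prime_orderOf_dvd_card' q hqX
    set δ : MulAut R := (δ' : MulAut R) with hδdef
    have hδ : orderOf δ = q := by rw [hδdef, Subgroup.orderOf_coe, hδ']
    have hne : ρ δ ≠ 1 := by
      intro h
      obtain ⟨k, hk⟩ := hker δ h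
      have h1 : q ∣ p ^ k := hδ ▸ orderOf_dvd_of_pow_eq_one hk
      exact hqp ((Nat.prime_dvd_prime_iff_eq hq hp).1 (hq.dvd_of_dvd_pow h1))
    have hord : orderOf (ρ δ) = q := by
      have h1 : orderOf (ρ δ) ∣ q := hδ ▸ orderOf_map_dvd ρ δ
      rcases (Nat.dvd_prime hq).1 h1 with h | h
      · exact absurd (orderOf_eq_one_iff.1 h) hne
      · exact h
    have hmem : ρ δ ∈ X.map ρ := Subgroup.mem_map_of_mem ρ δ'.2
    have hq' : q ∣ Nat.card (X.map ρ) := by
      rw [← hord, ← Subgroup.orderOf_mk _ hmem]
      exact orderOf_dvd_natCard _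
    exact OddGL2.prime_le_of_dvd_card hp2 hVcard (X.map ρ) hXbar_odd q hq hq'

end Cfsg.Agent.Lib.Helper26.Rank2Aut
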