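import Mathlib
import Cfsg.Agent.Lib.Helper26.Rank2Aut

/-!
# Odd-order solvable groups acting on `p`-groups of rank at most two: ambient form

`R` a `p`-subgroup (`p` odd) of a finite group `G` with no elementary abelian subgroup of order `p ^ 3`,
`A ≤ N_G(R)` solvable of odd order.  Then every element of `⁅A, A⁆` has a `p`-power lying in `C_G(R)`, and
every element of `A` all of whose prime divisors of the order exceed `p` centralises `R`.
-/

set_option autoImplicit false

universe u

namespace Cfsg.Agent.Lib.Helper26.Rank2Amb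

open scoped commutatorElement
open Cfsg

variable {G : Type u} [Group G]

/-- the conjugation action of a subgroup of the normaliser. -/
def conjHom (R A : Subgroup G) (hA : A ≤ Subgroup.normalizer (R : Set G)) : A →* MulAut R where
  toFun a :=
    { toFun := fun r => ⟨(a : G) * r * (a : G)⁻¹, ((Subgroup.mem_normalizer_iff.1 (hA a.2)) r).1 r.2⟩
      invFun := fun r => ⟨(a : G)⁻¹ * r * (a : G), by
        have := ((Subgroup.mem_normalizer_iff.1 (hA (A.inv_mem a.2))) r).1 r.2
        simpa using this⟩
      left_inv := fun r => Subtype.ext (by simp [mul_assoc])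
      right_inv := fun r => Subtype.ext (by simp [mul_assoc])
      map_mul' := fun r s => Subtype.ext (by simp [mul_assoc]) }
  map_one' := by ext r; simp
  map_mul' := fun a b => by ext r; simp [mul_assoc]

@[simp] theorem conjHom_apply (R A : Subgroup G) (hA : A ≤ Subgroup.normalizer (R : Set G)) (a : A)
    (r : R) : ((conjHom R A hA a r : R) : G) = (a : G) * r * (a : G)⁻¹ := rfl

theorem mem_ker_conjHom (R A : Subgroup G) (hA : A ≤ Subgroup.normalizer (R : Set G)) (a : A) :
    a ∈ (conjHom R A hA).ker ↔ (a : G) ∈ Subgroup.centralizer (R : Set G) := by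
  rw [MonoidHom.mem_ker, Subgroup.mem_centralizer_iff]
  constructor
  · intro h r hr
    have := congrArg (fun f : MulAut R => ((f ⟨r, hr⟩ : R) : G)) h
    simp only [conjHom_apply, MulAut.one_apply] at this
    exact (mul_inv_eq_iff_eq_mul.1 this).symm
  · intro h
    ext r
    simp only [conjHom_apply, MulAut.one_apply]
    exact mul_inv_eq_iff_eq_mul.2 (h r r.2).symm

theorem ambient [Finite G] {p : ℕ} [Fact p.Prime] (hp2 : p ≠ 2) (R A : Subgroup G)
    (hR : IsPGroup p R) (hr : PRankLE p 2 R) (hA : A ≤ Subgroup.normalizer (R : Set G))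
    (hAs : Group.IsSolvable A) (hAodd : Odd (Nat.card A)) :
    (∀ c ∈ ⁅A, A⁆, ∃ k : ℕ, c ^ (p ^ k) ∈ Subgroup.centralizer (R : Set G)) ∧
      ∀ x ∈ A, (∀ q : ℕ, q.Prime → q ∣ orderOf x → p < q) → x ∈ Subgroup.centralizer (R : Set G) := by
  set φ := conjHom R A hA with hφ
  set X : Subgroup (MulAut R) := φ.range with hX
  have hXdvd : Nat.card X ∣ Nat.card A := by
    rw [hX, MonoidHom.range_eq_map]
    have := Subgroup.card_map_dvd (⊤ : Subgroup A) φ
    rwa [Subgroup.card_top] at this
  have hXodd : Odd (Nat.card X) := by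
    obtain ⟨c, hc⟩ := hXdvd
    rw [hc] at hAodd
    exact (Nat.odd_mul.1 hAodd).1
  have hXsolv : Group.IsSolvable X :=
    Group.isSolvable_of_surjective (MonoidHom.rangeRestrict_surjective φ)
  obtain ⟨h1, h2⟩ := Rank2Aut.derived_and_primes hp2 hR hr X hXodd hXsolv
  constructor
  · intro c hc
    -- `c` comes from the commutator subgroup of `↥A`
    have hcA : c ∈ A := by
      have : ⁅A, A⁆ ≤ A := by
        rw [Subgroup.commutator_le]
        intro a ha b hb
        exact A.mul_mem (A.mul_mem (A.mul_mem ha hb) (A.inv_mem ha)) (A.inv_mem hb)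
      exact this hc
    have hc' : (⟨c, hcA⟩ : A) ∈ commutator A := by
      have := Subgroup.map_subtype_commutator A
      rw [← this] at hc
      obtain ⟨y, hy, hyc⟩ := hc
      have : y = ⟨c, hcA⟩ := Subtype.ext hyc
      rwa [this] at hy
    have hφc : φ ⟨c, hcA⟩ ∈ ⁅X, X⁆ := by
      rw [commutator_def] at hc'
      have := Subgroup.mem_map_of_mem φ hc'
      rw [Subgroup.map_commutator, ← MonoidHom.range_eq_map] at this
      exact this
    obtain ⟨k, hk⟩ := h1 _ hφc
    refine ⟨k, ?_⟩
    have : (⟨c, hcA⟩ : A) ^ (p ^ k) ∈ φ.ker := by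
      rw [MonoidHom.mem_ker, map_pow, hk]
    rw [mem_ker_conjHom] at this
    simpa using this
  · intro x hxA hx
    by_contra hxc
    have hne : φ ⟨x, hxA⟩ ≠ 1 := by
      intro h
      apply hxc
      have : (⟨x, hxA⟩ : A) ∈ φ.ker := h
      rw [mem_ker_conjHom] at this
      exact this
    have hord : orderOf (φ ⟨x, hxA⟩) ≠ 1 := fun h => hne (orderOf_eq_one_iff.1 h)
    obtain ⟨q, hq, hqd⟩ := Nat.exists_prime_and_dvd hord
    have hq1 : q ∣ orderOf x := by
      have h3 : orderOf (φ ⟨x, hxA⟩) ∣ orderOf (⟨x, hxA⟩ : A) := orderOf_map_dvd φ _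
      rw [Subgroup.orderOf_mk] at h3
      exact hqd.trans h3
    have hq2 : q ∣ Nat.card X := by
      have hmem : φ ⟨x, hxA⟩ ∈ X := ⟨_, rfl⟩
      have : orderOf (φ ⟨x, hxA⟩) ∣ Nat.card X := by
        rw [← Subgroup.orderOf_mk _ hmem]
        exact orderOf_dvd_natCard _
      exact hqd.trans this
    have := h2 q hq hq2
    have := hx q hq hq1
    omega

end Cfsg.Agent.Lib.Helper26.Rank2Amb
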