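import Mathlib
import Cfsg.Prelude.Def_CaseTheorems
import Cfsg.Prelude.Def_Local
import Cfsg.Prelude.Def_Transfer
import Cfsg.Agent.Lib.Helper26.Rank2Amb
import Cfsg.Agent.Lib.Helper01.PCore
import Cfsg.Agent.Lib.Helper01.PPrimeCore
import Cfsg.Agent.Lib.Helper01.HallHigman

/-!
# Solvable groups of odd order and `p`-rank at most two

* `pRankLE_quotient`: the `p`-rank does not grow in a quotient by a normal `p'`-subgroup.
* `core_facts`: a solvable group `H` of odd order with `O_{p'}(H) = 1` and `p`-rank at most `2` has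
  `H' ≤ O_p(H)`, all prime divisors of `|H|` at most `p`, and `O_p(H)` of index prime to `p`.
* `hasNormalPComplement_of`: a normal `p'`-subgroup of `p`-power index is a normal `p`-complement, contains
  every `p'`-subgroup and lies in `O_{p'}`.
-/

set_option autoImplicit false

universe u

namespace Cfsg.Agent.Lib.Helper26.Rank2Solv

open scoped commutatorElement
open Cfsg

theorem pRankLE_quotient {G : Type*} [Group G] [Finite G] {p k : ℕ} [Fact p.Prime] (N : Subgroup G)
    [N.Normal] (hN : (Nat.card N).Coprime p) (h : PRankLE p k G) : PRankLE p k (G ⧸ N) := by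
  intro E hEc hEe
  have hEp : IsPGroup p E := fun g => ⟨1, by
    have := hEe g.1 g.2
    exact Subtype.ext (by simpa using this)⟩
  obtain ⟨m, hm⟩ := hEp.exists_card_eq
  set E₁ : Subgroup G := E.comap (QuotientGroup.mk' N) with hE₁
  have hmap : E₁.map (QuotientGroup.mk' N) = E :=
    Subgroup.map_comap_eq_self_of_surjective (QuotientGroup.mk'_surjective N) E
  have hdvd : Nat.card E ∣ Nat.card E₁ := by
    rw [← hmap]; exact Subgroup.card_map_dvd _ _
  obtain P : Sylow p E₁ := default
  have hPdvd : p ^ m ∣ Nat.card P := P.pow_dvd_card_of_pow_dvd_card (hm ▸ hdvd)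
  set A : Subgroup G := (P : Subgroup E₁).map E₁.subtype with hA
  have hAcard : Nat.card A = Nat.card P :=
    Subgroup.card_map_of_injective (Subgroup.subtype_injective _)
  have hAp : IsPGroup p A := P.2.map _
  have hAE : ∀ a ∈ A, (QuotientGroup.mk' N a) ∈ E := by
    rintro _ ⟨x, -, rfl⟩; exact x.2
  have hAN : ∀ a ∈ A, a ∈ N → a = 1 := by
    intro a ha haN
    obtain ⟨j, hj⟩ := hAp ⟨a, ha⟩
    have h1 : orderOf a ∣ p ^ j :=
      orderOf_dvd_of_pow_eq_one (by simpa using congrArg Subtype.val hj)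
    have h2 : orderOf a ∣ Nat.card N := by
      have := orderOf_dvd_natCard (⟨a, haN⟩ : N)
      rwa [Subgroup.orderOf_mk] at this
    have h3 : orderOf a = 1 := Nat.eq_one_of_dvd_coprimes (hN.pow_right j) h2 h1
    exact orderOf_eq_one_iff.1 h3
  have hcomm : ∀ a ∈ A, ∀ b ∈ A, a * b = b * a := by
    intro a ha b hb
    have hmem : a * b * a⁻¹ * b⁻¹ ∈ A :=
      A.mul_mem (A.mul_mem (A.mul_mem ha hb) (A.inv_mem ha)) (A.inv_mem hb)
    have hN' : a * b * a⁻¹ * b⁻¹ ∈ N := by
      rw [← QuotientGroup.eq_one_iff]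
      have hc := hEc.is_comm.comm (⟨_, hAE a ha⟩ : E) ⟨_, hAE b hb⟩
      have hc' : (QuotientGroup.mk' N a) * (QuotientGroup.mk' N b)
          = (QuotientGroup.mk' N b) * (QuotientGroup.mk' N a) := congrArg Subtype.val hc
      have : (QuotientGroup.mk' N) (a * b * a⁻¹ * b⁻¹) = 1 := by
        rw [map_mul, map_mul, map_mul, map_inv, map_inv, hc']
        group
      exact this
    have := hAN _ hmem hN'
    calc a * b = (a * b * a⁻¹ * b⁻¹) * (b * a) := by group
      _ = b * a := by rw [this, one_mul]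
  have hexp : ∀ a ∈ A, a ^ p = 1 := by
    intro a ha
    apply hAN _ (A.pow_mem ha p)
    rw [← QuotientGroup.eq_one_iff]
    have := hEe _ (hAE a ha)
    have h2 : (QuotientGroup.mk' N) (a ^ p) = 1 := by rw [map_pow]; exact this
    exact h2
  have hle := h A ⟨⟨fun a b => Subtype.ext (hcomm a a.2 b b.2)⟩⟩ hexp
  calc Nat.card E = p ^ m := hm
    _ ≤ Nat.card P := Nat.le_of_dvd Nat.card_pos hPdvd
    _ = Nat.card A := hAcard.symm
    _ ≤ p ^ k := hle

/-- In a solvable group `H` of odd order with `O_{p'}(H) = 1` and `p`-rank at most two (`p` odd), the derived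
subgroup lies in `O_p(H)`, every prime divisor of `|H|` is at most `p`, and `O_p(H)` has index prime to `p`. -/
theorem core_facts {H : Type u} [Group H] [Finite H] [Group.IsSolvable H] (hodd : Odd (Nat.card H))
    {p : ℕ} [Fact p.Prime] (hp2 : p ≠ 2) (hO : pPrimeCore p H = ⊥) (hr : PRankLE p 2 H) :
    commutator H ≤ pCore p H ∧ (∀ q : ℕ, q.Prime → q ∣ Nat.card H → q ≤ p) ∧
      ((pCore p H).index).Coprime p := by
  have hRn : (pCore p H).Normal := Cfsg.Agent.Lib.Helper01.pCore_normal p
  have hRp : IsPGroup p (pCore p H) := Cfsg.Agent.Lib.Helper01.pCore_isPGroup p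
  have hrR : PRankLE p 2 (pCore p H) := Rank2Aut.pRankLE_subgroup _ hr
  have hA : (⊤ : Subgroup H) ≤ Subgroup.normalizer ((pCore p H : Subgroup H) : Set H) := by
    rw [Subgroup.normalizer_eq_top]
  have hAs : Group.IsSolvable (⊤ : Subgroup H) :=
    Group.isSolvable_of_isSolvable_injective (f := (⊤ : Subgroup H).subtype) (Subgroup.subtype_injective _)
  have hAodd : Odd (Nat.card (⊤ : Subgroup H)) := by rw [Subgroup.card_top]; exact hodd
  obtain ⟨h1, h2⟩ := Rank2Amb.ambient hp2 (pCore p H) ⊤ hRp hrR hA hAs hAodd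
  have hC := Cfsg.Agent.Lib.Helper01.centralizer_pCore_le p hO
  -- elements of `O_p(H)` are `p`-elements
  have hpel : ∀ x ∈ pCore p H, ∃ j : ℕ, x ^ (p ^ j) = 1 := by
    intro x hx
    obtain ⟨j, hj⟩ := hRp ⟨x, hx⟩
    exact ⟨j, by simpa using congrArg Subtype.val hj⟩
  have hcomm : commutator H ≤ pCore p H := by
    have hDp : IsPGroup p (commutator H) := by
      intro c
      have hc : (c : H) ∈ ⁅(⊤ : Subgroup H), (⊤ : Subgroup H)⁆ := c.2
      obtain ⟨k, hk⟩ := h1 _ hc
      obtain ⟨j, hj⟩ := hpel _ (hC hk)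
      refine ⟨k + j, Subtype.ext ?_⟩
      rw [pow_add, pow_mul] 
      simpa using hj
    exact Cfsg.Agent.Lib.Helper01.le_pCore inferInstance hDp
  refine ⟨hcomm, ?_, ?_⟩
  · intro q hq hqd
    by_contra hlt
    push Not at hlt
    have : Fact q.Prime := ⟨hq⟩
    obtain ⟨x, hx⟩ := exists_prime_orderOf_dvd_card' q hqd
    have hxc : x ∈ Subgroup.centralizer ((pCore p H : Subgroup H) : Set H) := by
      apply h2 x (Subgroup.mem_top x)
      intro r hr hrd
      rw [hx] at hrd
      rw [(Nat.prime_dvd_prime_iff_eq hr hq).1 hrd]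
      exact hlt
    obtain ⟨j, hj⟩ := hpel _ (hC hxc)
    have hd : q ∣ p ^ j := hx ▸ orderOf_dvd_of_pow_eq_one hj
    have := (Nat.prime_dvd_prime_iff_eq hq (Fact.out : p.Prime)).1 (hq.dvd_of_dvd_pow hd)
    omega
  · obtain P : Sylow p H := default
    have hRP : pCore p H ≤ (P : Subgroup H) := by
      have hsup : IsPGroup p ((P : Subgroup H) ⊔ pCore p H : Subgroup H) :=
        IsPGroup.to_sup_of_normal_right P.2 hRp
      have := P.3 hsup le_sup_left
      rw [← this]
      exact le_sup_right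
    have hPn : (P : Subgroup H).Normal := by
      constructor
      intro x hx g
      have h3 : g * x * g⁻¹ * x⁻¹ ∈ commutator H := by
        rw [commutator_def]
        exact Subgroup.commutator_mem_commutator (Subgroup.mem_top g) (Subgroup.mem_top x)
      have h4 : g * x * g⁻¹ * x⁻¹ ∈ (P : Subgroup H) := hRP (hcomm h3)
      have := (P : Subgroup H).mul_mem h4 hx
      simpa using this
    have hPR : (P : Subgroup H) ≤ pCore p H := Cfsg.Agent.Lib.Helper01.le_pCore hPn P.2
    have heq : pCore p H = (P : Subgroup H) := le_antisymm hRP hPR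
    rw [heq]
    have := P.not_dvd_index
    exact (Nat.Coprime.symm ((Nat.Prime.coprime_iff_not_dvd (Fact.out : p.Prime)).2 this))

/-- A normal `p'`-subgroup of `p`-power index is a normal `p`-complement. -/
theorem hasNormalPComplement_of {H : Type u} [Group H] [Finite H] {p : ℕ} [Fact p.Prime]
    (N : Subgroup H) [N.Normal] (hN : (Nat.card N).Coprime p) (n : ℕ) (hidx : N.index = p ^ n) :
    HasNormalPComplement p H := by
  obtain P : Sylow p H := default
  refine ⟨P, N, inferInstance, ?_⟩
  have hcard : Nat.card N * p ^ n = Nat.card H := by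
    rw [← hidx]; exact Subgroup.card_mul_index N
  have hP : Nat.card P = p ^ n := by
    obtain ⟨m, hm⟩ := P.2.exists_card_eq
    have h1 : p ^ n ∣ Nat.card P := P.pow_dvd_card_of_pow_dvd_card (Dvd.intro_left _ hcard)
    have h2 : Nat.card P ∣ Nat.card N * p ^ n := by
      rw [hcard]; exact Subgroup.card_subgroup_dvd_card _
    rw [hm] at h2 h1 ⊢
    have h3 : p ^ m ∣ p ^ n := (Nat.Coprime.pow_left m hN.symm).dvd_of_dvd_mul_left h2
    exact Nat.dvd_antisymm h3 h1
  apply Subgroup.isComplement'_of_coprime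
  · rw [hP]; exact hcard
  · rw [hP]; exact hN.pow_right n

/-- `p'`-subgroups lie in a normal subgroup of `p`-power index. -/
theorem le_of_coprime_of_index {H : Type u} [Group H] [Finite H] {p : ℕ} [Fact p.Prime]
    (N : Subgroup H) [N.Normal] (n : ℕ) (hidx : N.index = p ^ n) (L : Subgroup H)
    (hL : (Nat.card L).Coprime p) : L ≤ N := by
  intro x hx
  rw [← QuotientGroup.eq_one_iff]
  have h1 : orderOf (x : H ⧸ N) ∣ p ^ n := by
    rw [← hidx, Subgroup.index_eq_card]
    exact orderOf_dvd_natCard _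
  have h2 : orderOf (x : H ⧸ N) ∣ Nat.card L := by
    have h3 : orderOf (x : H ⧸ N) ∣ orderOf x := orderOf_map_dvd (QuotientGroup.mk' N) x
    have h4 : orderOf x ∣ Nat.card L := by
      have := orderOf_dvd_natCard (⟨x, hx⟩ : L)
      rwa [Subgroup.orderOf_mk] at this
    exact h3.trans h4
  exact orderOf_eq_one_iff.1 (Nat.eq_one_of_dvd_coprimes (hL.pow_right n) h2 h1)

end Cfsg.Agent.Lib.Helper26.Rank2Solv
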