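import Mathlib
import Cfsg.Agent.Lib.Helper69.Nilpotent

set_option autoImplicit false

namespace Cfsg.Agent.Lib.Helper26

section formula
variable {G : Type*} [Group G]

theorem pow_mul_comm_central (x y c : G) (h : y * x = x * y * c) (hcy : Commute c y) (n : ℕ) :
    y ^ n * x = x * y ^ n * c ^ n := by
  induction n with
  | zero => simp
  | succ n ih =>
    calc y ^ (n + 1) * x = y ^ n * (y * x) := by rw [pow_succ]; simp only [mul_assoc]
      _ = y ^ n * (x * y * c) := by rw [h]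
      _ = (y ^ n * x) * y * c := by simp only [mul_assoc]
      _ = x * y ^ n * c ^ n * y * c := by rw [ih]
      _ = x * y ^ n * (c ^ n * y) * c := by simp only [mul_assoc]
      _ = x * y ^ n * (y * c ^ n) * c := by rw [(hcy.pow_left n).eq]
      _ = x * y ^ (n + 1) * c ^ (n + 1) := by rw [pow_succ, pow_succ]; simp only [mul_assoc]

theorem mul_pow_comm_central (x y c : G) (h : y * x = x * y * c) (hcx : Commute c x)
    (hcy : Commute c y) (n : ℕ) :
    (x * y) ^ n = x ^ n * y ^ n * c ^ (n * (n - 1) / 2) := by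
  induction n with
  | zero => simp
  | succ n ih =>
    have hT : (n + 1) * (n + 1 - 1) / 2 = n * (n - 1) / 2 + n := Nat.triangle_succ n
    have h1 : ∀ k : ℕ, c ^ k * x = x * c ^ k := fun k => (hcx.pow_left k).eq
    have h2 : ∀ k : ℕ, c ^ k * y = y * c ^ k := fun k => (hcy.pow_left k).eq
    calc (x * y) ^ (n + 1) = (x * y) ^ n * (x * y) := pow_succ _ _
      _ = x ^ n * y ^ n * c ^ (n * (n - 1) / 2) * (x * y) := by rw [ih]
      _ = x ^ n * y ^ n * (c ^ (n * (n - 1) / 2) * x) * y := by simp only [mul_assoc]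
      _ = x ^ n * y ^ n * (x * c ^ (n * (n - 1) / 2)) * y := by rw [h1]
      _ = x ^ n * (y ^ n * x) * (c ^ (n * (n - 1) / 2) * y) := by simp only [mul_assoc]
      _ = x ^ n * (x * y ^ n * c ^ n) * (y * c ^ (n * (n - 1) / 2)) := by
          rw [pow_mul_comm_central x y c h hcy n, h2]
      _ = x ^ n * x * y ^ n * (c ^ n * y) * c ^ (n * (n - 1) / 2) := by simp only [mul_assoc]
      _ = x ^ n * x * y ^ n * (y * c ^ n) * c ^ (n * (n - 1) / 2) := by rw [h2]
      _ = x ^ (n + 1) * y ^ (n + 1) * c ^ ((n + 1) * (n + 1 - 1) / 2) := by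
          rw [hT, pow_succ, pow_succ, pow_add, (Commute.pow_pow (Commute.refl c) _ _).eq]
          simp only [mul_assoc]

theorem mul_pow_prime_comm_central {p : ℕ} [hp : Fact p.Prime] (hp2 : p ≠ 2) (x y c : G)
    (h : y * x = x * y * c) (hcx : Commute c x) (hcy : Commute c y) (hc : c ^ p = 1) :
    (x * y) ^ p = x ^ p * y ^ p := by
  rw [mul_pow_comm_central x y c h hcx hcy p]
  have hodd : Odd p := hp.out.odd_of_ne_two hp2
  have h2 : 2 ∣ p - 1 := by
    obtain ⟨k, hk⟩ := hodd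
    exact ⟨k, by omega⟩
  rw [Nat.mul_div_assoc p h2, pow_mul, hc, one_pow, mul_one]

end formula

section omega
variable {R : Type*} [Group R]

/-- The elements of `S` with `x ^ p = 1`, when they are closed under multiplication. -/
def omegaSub (S : Subgroup R) (p : ℕ)
    (hmul : ∀ x ∈ S, ∀ y ∈ S, x ^ p = 1 → y ^ p = 1 → (x * y) ^ p = 1) : Subgroup R where
  carrier := {x | x ∈ S ∧ x ^ p = 1}
  mul_mem' := fun {a b} ha hb => ⟨mul_mem ha.1 hb.1, hmul a ha.1 b hb.1 ha.2 hb.2⟩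
  one_mem' := ⟨one_mem S, one_pow p⟩
  inv_mem' := fun {a} ha => ⟨inv_mem ha.1, by rw [inv_pow, ha.2, inv_one]⟩

theorem mem_omegaSub {S : Subgroup R} {p : ℕ}
    {hmul : ∀ x ∈ S, ∀ y ∈ S, x ^ p = 1 → y ^ p = 1 → (x * y) ^ p = 1} {x : R} :
    x ∈ omegaSub S p hmul ↔ x ∈ S ∧ x ^ p = 1 := Iff.rfl

theorem omegaSub_normal (S : Subgroup R) [hS : S.Normal] (p : ℕ)
    (hmul : ∀ x ∈ S, ∀ y ∈ S, x ^ p = 1 → y ^ p = 1 → (x * y) ^ p = 1) :
    (omegaSub S p hmul).Normal := by
  constructor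
  intro n hn g
  refine ⟨hS.conj_mem n hn.1 g, ?_⟩
  rw [conj_pow, hn.2]; group

/-- Final step: a normal subgroup of exponent `p` strictly above a central subgroup of order `p`
contains a normal subgroup of order `p ^ 2`. -/
theorem exists_normal_sq [Finite R] {p : ℕ} [hp : Fact p.Prime] (hR : IsPGroup p R)
    (S : Subgroup R) [hS : S.Normal]
    (hmul : ∀ x ∈ S, ∀ y ∈ S, x ^ p = 1 → y ^ p = 1 → (x * y) ^ p = 1)
    (z : R) (hzS : z ∈ S) (hz : orderOf z = p) (u : R) (huS : u ∈ S) (hu : u ^ p = 1)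
    (huZ : u ∉ Subgroup.zpowers z) :
    ∃ B : Subgroup R, B ≤ S ∧ B.Normal ∧ (∀ b ∈ B, b ^ p = 1) ∧ Nat.card B = p ^ 2 := by
  have : Group.IsNilpotent R := hR.isNilpotent
  have hWn := omegaSub_normal S p hmul
  have hWp : IsPGroup p (omegaSub S p hmul) := hR.to_subgroup _
  obtain ⟨i, hi⟩ := (IsPGroup.iff_card.mp hWp)
  have hZW : Subgroup.zpowers z ≤ omegaSub S p hmul := by
    rw [Subgroup.zpowers_le]
    exact ⟨hzS, by rw [← hz, pow_orderOf_eq_one]⟩
  have hcardZ : Nat.card (Subgroup.zpowers z) = p := by rw [Nat.card_zpowers, hz]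
  have hi2 : 2 ≤ i := by
    by_contra hlt
    have hle : Nat.card (omegaSub S p hmul) ≤ Nat.card (Subgroup.zpowers z) := by
      rw [hi, hcardZ]
      have : i ≤ 1 := by omega
      calc p ^ i ≤ p ^ 1 := Nat.pow_le_pow_right hp.out.pos this
        _ = p := pow_one p
    have := Subgroup.eq_of_le_of_card_ge hZW hle
    apply huZ
    rw [this]
    exact ⟨huS, hu⟩
  obtain ⟨B, hBn, hBW, hBcard⟩ :=
    Cfsg.Agent.Lib.Helper69.exists_normal_le_card (omegaSub S p hmul) i hi 2 hi2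
  exact ⟨B, fun b hb => (hBW hb).1, hBn, fun b hb => (hBW hb).2, hBcard⟩

end omega

section main

theorem order_p_of_pow {R : Type*} [Group R] {p : ℕ} [hp : Fact p.Prime] (x : R) (k : ℕ)
    (hx1 : x ≠ 1) (hk : orderOf x = p ^ k) : orderOf (x ^ (p ^ (k - 1))) = p := by
  have hk0 : k ≠ 0 := by
    rintro rfl
    rw [pow_zero, orderOf_eq_one_iff] at hk
    exact hx1 hk
  have hppos : 0 < p := hp.out.pos
  rw [orderOf_pow' x (pow_ne_zero _ hppos.ne'), hk]
  have hd : p ^ (k - 1) ∣ p ^ k := pow_dvd_pow p (Nat.sub_le _ _)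
  rw [Nat.gcd_eq_right hd, Nat.pow_div (Nat.sub_le _ _) hppos]
  have : k - (k - 1) = 1 := by omega
  rw [this, pow_one]

theorem exists_central_order_p {R : Type*} [Group R] [Finite R] {p : ℕ} [hp : Fact p.Prime]
    (hR : IsPGroup p R) (S : Subgroup R) [S.Normal] (hS0 : S ≠ ⊥) :
    ∃ z ∈ S, z ∈ Subgroup.center R ∧ orderOf z = p := by
  have : Group.IsNilpotent R := hR.isNilpotent
  obtain ⟨x, hxS, hxZ, hx1⟩ := Cfsg.Agent.Lib.Helper69.exists_mem_center_of_normal S hS0
  obtain ⟨k, hk⟩ := (IsPGroup.iff_orderOf.mp hR) x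
  exact ⟨x ^ (p ^ (k - 1)), Subgroup.pow_mem _ hxS _, Subgroup.pow_mem _ hxZ _,
    order_p_of_pow x k hx1 hk⟩

/-- A non-cyclic normal subgroup of a finite `p`-group, `p` odd, contains a normal subgroup
of the whole group of exponent `p` and order `p ^ 2`. Stated with the order of the group
as an explicit parameter for the induction. -/
theorem exists_normal_exp_p_sq_aux.{u} (n : ℕ) : ∀ (R : Type u) [Group R] [Finite R] (p : ℕ)
    [Fact p.Prime] (_hp2 : p ≠ 2) (_hR : IsPGroup p R) (S : Subgroup R) [S.Normal]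
    (_hS : ¬ IsCyclic S), Nat.card R = n →
    ∃ B : Subgroup R, B ≤ S ∧ B.Normal ∧ (∀ b ∈ B, b ^ p = 1) ∧ Nat.card B = p ^ 2 := by
  induction n using Nat.strong_induction_on with
  | _ n ih =>
  intro R _ _ p hp hp2 hR S hSn hS hcard
  have hS0 : S ≠ ⊥ := by
    rintro rfl
    exact hS inferInstance
  obtain ⟨z, hzS, hzC, hz⟩ := exists_central_order_p hR S hS0
  set Z := Subgroup.zpowers z with hZ
  have hZle : Z ≤ Subgroup.center R := Subgroup.zpowers_le.mpr hzC
  have hZn : Z.Normal := Cfsg.Agent.Lib.Helper69.normal_of_le_center Z hZle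
  have hZS : Z ≤ S := Subgroup.zpowers_le.mpr hzS
  have hZcard : Nat.card Z = p := by rw [Nat.card_zpowers, hz]
  have hZp : ∀ c ∈ Z, c ^ p = 1 := by
    intro c hc
    obtain ⟨k, rfl⟩ := hc
    rw [← zpow_natCast, ← zpow_mul, mul_comm, zpow_mul, zpow_natCast, ← hz, pow_orderOf_eq_one,
      one_zpow]
  have hcen : ∀ c ∈ Z, ∀ w : R, c * w = w * c := fun c hc w =>
    ((Subgroup.mem_center_iff.mp (hZle hc)) w).symm
  set π := QuotientGroup.mk' Z with hπ
  have hπs : Function.Surjective π := QuotientGroup.mk'_surjective Z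
  have hker : ∀ x, π x = 1 ↔ x ∈ Z := fun x => QuotientGroup.eq_one_iff x
  have hSbar_n : (S.map π).Normal := hSn.map π hπs
  have hcardlt : Nat.card (R ⧸ Z) < Nat.card R := by
    have := Subgroup.card_eq_card_quotient_mul_card_subgroup Z
    rw [hZcard] at this
    have h2 := hp.out.two_le
    have hpos : 0 < Nat.card (R ⧸ Z) := Nat.card_pos
    nlinarith
  have hRbar : IsPGroup p (R ⧸ Z) := hR.to_quotient Z
  by_cases hcyc : IsCyclic (S.map π)
  · -- `S / Z` cyclic
    obtain ⟨g, hg⟩ := hcyc.exists_generator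
    obtain ⟨s₀, hs₀S, hs₀g⟩ := g.2
    have hdecomp : ∀ s ∈ S, ∃ k : ℤ, ∃ c ∈ Z, s = s₀ ^ k * c := by
      intro s hs
      have hmem : (⟨π s, Subgroup.mem_map_of_mem π hs⟩ : S.map π) ∈ Subgroup.zpowers g := hg _
      obtain ⟨k, hk⟩ := hmem
      have hk' : π (s₀ ^ k) = π s := by
        rw [map_zpow, hs₀g]
        have := congrArg Subtype.val hk
        simpa using this
      refine ⟨k, (s₀ ^ k)⁻¹ * s, ?_, by group⟩
      rw [← hker, map_mul, map_inv, hk', inv_mul_cancel]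
    have hcomm : ∀ x ∈ S, ∀ y ∈ S, x * y = y * x := by
      intro x hx y hy
      obtain ⟨k, c, hc, rfl⟩ := hdecomp x hx
      obtain ⟨l, c', hc', rfl⟩ := hdecomp y hy
      have h1 := hcen c hc
      have h2 := hcen c' hc'
      have h3 : s₀ ^ k * s₀ ^ l = s₀ ^ l * s₀ ^ k := by rw [← zpow_add, ← zpow_add, add_comm]
      calc s₀ ^ k * c * (s₀ ^ l * c') = s₀ ^ k * (c * (s₀ ^ l * c')) := by rw [mul_assoc]
        _ = s₀ ^ k * ((s₀ ^ l * c') * c) := by rw [h1]
        _ = (s₀ ^ k * s₀ ^ l) * c' * c := by simp only [mul_assoc]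
        _ = (s₀ ^ l * s₀ ^ k) * c' * c := by rw [h3]
        _ = s₀ ^ l * (s₀ ^ k * c') * c := by simp only [mul_assoc]
        _ = s₀ ^ l * (c' * s₀ ^ k) * c := by rw [← h2]
        _ = s₀ ^ l * c' * (s₀ ^ k * c) := by simp only [mul_assoc]
    have hmulS : ∀ x ∈ S, ∀ y ∈ S, x ^ p = 1 → y ^ p = 1 → (x * y) ^ p = 1 := by
      intro x hx y hy h1 h2
      have hc : Commute x y := hcomm x hx y hy
      rw [hc.mul_pow, h1, h2, one_mul]
    have hs₀1 : s₀ ≠ 1 := by
      intro h1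
      apply hS
      have hSZ : S = Z := by
        refine le_antisymm (fun s hs => ?_) hZS
        obtain ⟨k, c, hc, rfl⟩ := hdecomp s hs
        rw [h1, one_zpow, one_mul]
        exact hc
      rw [hSZ]
      exact ⟨⟨⟨z, Subgroup.mem_zpowers z⟩, fun x => by
        obtain ⟨k, hk⟩ := x.2
        exact ⟨k, Subtype.ext (by rw [Subgroup.coe_zpow]; exact hk)⟩⟩⟩
    obtain ⟨j, hj⟩ := (IsPGroup.iff_orderOf.mp hR) s₀
    have hou : orderOf (s₀ ^ (p ^ (j - 1))) = p := order_p_of_pow s₀ j hs₀1 hj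
    have huS : s₀ ^ (p ^ (j - 1)) ∈ S := Subgroup.pow_mem _ hs₀S _
    have hup : (s₀ ^ (p ^ (j - 1))) ^ p = 1 := by
      have := pow_orderOf_eq_one (s₀ ^ (p ^ (j - 1)))
      rwa [hou] at this
    have huZ : s₀ ^ (p ^ (j - 1)) ∉ Z := by
      intro huZ
      have hZu : Subgroup.zpowers (s₀ ^ (p ^ (j - 1))) = Z := by
        apply Subgroup.eq_of_le_of_card_ge (Subgroup.zpowers_le.mpr huZ)
        rw [hZcard, Nat.card_zpowers, hou]
      have hZs₀ : Z ≤ Subgroup.zpowers s₀ := by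
        rw [← hZu, Subgroup.zpowers_le]
        exact Subgroup.pow_mem _ (Subgroup.mem_zpowers s₀) _
      apply hS
      refine ⟨⟨⟨s₀, hs₀S⟩, fun x => ?_⟩⟩
      obtain ⟨k, c, hc, hx⟩ := hdecomp x x.2
      obtain ⟨m, hm⟩ := hZs₀ hc
      refine ⟨k + m, Subtype.ext ?_⟩
      rw [Subgroup.coe_zpow]
      show s₀ ^ (k + m) = (x : R)
      rw [hx, zpow_add, ← hm]
    exact exists_normal_sq hR S hmulS z hzS hz _ huS hup huZ
  · -- `S / Z` not cyclic: induction
    obtain ⟨Abar, hAle, hAn, hAexp, hAcard⟩ :=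
      ih (Nat.card (R ⧸ Z)) (hcard ▸ hcardlt) (R ⧸ Z) p hp2 hRbar (S.map π) hcyc rfl
    set A := Abar.comap π with hA
    have hAnorm : A.Normal := hAn.comap π
    have hZA : Z ≤ A := by
      intro c hc
      rw [hA, Subgroup.mem_comap, (hker c).mpr hc]
      exact one_mem _
    have hAS : A ≤ S := by
      intro a ha
      have h1 : π a ∈ S.map π := hAle ha
      obtain ⟨s, hs, hsa⟩ := h1
      have h2 : s⁻¹ * a ∈ Z := by rw [← hker, map_mul, map_inv, hsa, inv_mul_cancel]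
      have : a = s * (s⁻¹ * a) := by group
      rw [this]; exact S.mul_mem hs (hZS h2)
    have hAcard' : Nat.card A = p * p ^ 2 := by
      rw [hA, Cfsg.Agent.Lib.Helper69.card_comap_mk', hZcard, hAcard]
    have hAbar_comm : ∀ x ∈ Abar, ∀ y ∈ Abar, x * y = y * x := by
      intro x hx y hy
      have := (IsPGroup.isMulCommutative_of_card_eq_prime_sq hAcard).is_comm.comm
        (⟨x, hx⟩ : Abar) ⟨y, hy⟩
      exact congrArg Subtype.val this
    have hcZ : ∀ x ∈ A, ∀ y ∈ A, (x * y)⁻¹ * (y * x) ∈ Z := by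
      intro x hx y hy
      rw [← hker, map_mul, map_inv, map_mul, map_mul, hAbar_comm (π x) hx (π y) hy,
        inv_mul_cancel]
    have hpowA : ∀ x ∈ A, ∀ y ∈ A, (x * y) ^ p = x ^ p * y ^ p := by
      intro x hx y hy
      have hcz := hcZ x hx y hy
      have hcc : ∀ w, Commute ((x * y)⁻¹ * (y * x)) w := fun w => hcen _ hcz w
      exact mul_pow_prime_comm_central hp2 x y ((x * y)⁻¹ * (y * x)) (by group) (hcc x) (hcc y)
        (hZp _ hcz)
    have hxpZ : ∀ x ∈ A, x ^ p ∈ Z := by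
      intro x hx
      rw [← hker, map_pow]
      exact hAexp (π x) hx
    have hmulA : ∀ x ∈ A, ∀ y ∈ A, x ^ p = 1 → y ^ p = 1 → (x * y) ^ p = 1 := by
      intro x hx y hy h1 h2
      rw [hpowA x hx y hy, h1, h2, one_mul]
    let φ : ↥A →* R := MonoidHom.mk' (fun x => (x : R) ^ p) (fun x y => by
      simp only [Subgroup.coe_mul]; exact hpowA x x.2 y y.2)
    have hφ : ∀ x : ↥A, φ x = (x : R) ^ p := fun x => rfl
    have hrange : φ.range ≤ Z := by
      rintro _ ⟨x, rfl⟩
      exact hxpZ x x.2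
    have hu : ∃ u ∈ A, u ^ p = 1 ∧ u ∉ Z := by
      by_contra hcon
      push Not at hcon
      have h1 : Nat.card φ.ker ≤ Nat.card Z := by
        apply Nat.card_le_card_of_injective
          (fun x : φ.ker => (⟨x.1.1, hcon x.1.1 x.1.2 (by
            have := φ.mem_ker.mp x.2
            rwa [hφ] at this)⟩ : Z))
        intro x y hxy
        apply Subtype.ext; apply Subtype.ext
        have h := congrArg (fun w : Z => (w : R)) hxy
        exact h
      have h2 : Nat.card φ.range ≤ Nat.card Z := Subgroup.card_le_of_le hrange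
      have h3 : Nat.card φ.ker * Nat.card φ.range = Nat.card A := by
        rw [← Subgroup.index_ker]; exact Subgroup.card_mul_index _
      rw [hZcard] at h1 h2
      have h4 : Nat.card A ≤ p * p := by rw [← h3]; exact Nat.mul_le_mul h1 h2
      rw [hAcard'] at h4
      have h2le := hp.out.two_le
      nlinarith
    obtain ⟨u, huA, hup, huZ⟩ := hu
    obtain ⟨B, hBA, hBn, hBexp, hBcard⟩ :=
      exists_normal_sq hR A hmulA z (hZA (Subgroup.mem_zpowers z)) hz u huA hup huZ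
    exact ⟨B, hBA.trans hAS, hBn, hBexp, hBcard⟩

/-- A non-cyclic normal subgroup `S` of a finite `p`-group `R`, `p` odd, contains a subgroup
normal in `R`, of exponent `p` and order `p ^ 2` (hence `C_p × C_p`). -/
theorem exists_normal_exp_p_sq {R : Type*} [Group R] [Finite R] {p : ℕ} [Fact p.Prime]
    (hp2 : p ≠ 2) (hR : IsPGroup p R) (S : Subgroup R) [S.Normal] (hS : ¬ IsCyclic S) :
    ∃ B : Subgroup R, B ≤ S ∧ B.Normal ∧ (∀ b ∈ B, b ^ p = 1) ∧ Nat.card B = p ^ 2 :=
  exists_normal_exp_p_sq_aux (Nat.card R) R p hp2 hR S hS rfl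

end main

end Cfsg.Agent.Lib.Helper26
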