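import Mathlib
import Cfsg.Agent.Lib.Helper26.NormalPP

set_option autoImplicit false
set_option linter.unusedSectionVars false

namespace Cfsg.Agent.Lib.Helper26

open Cfsg.Agent.Lib.Helper69

section step
variable {G : Type*} [Group G]

/-- Like `Helper69.exists_normal_step`, with the extra information that the new subgroup is
central modulo the old one. -/
theorem exists_normal_step_central [Finite G] [Group.IsNilpotent G] {p : ℕ} [hp : Fact p.Prime]
    (N N' : Subgroup G) [hNn : N.Normal] [hN'n : N'.Normal] (hNp : IsPGroup p N) (hle : N' ≤ N)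
    (hne : N' ≠ N) :
    ∃ N'' : Subgroup G, N''.Normal ∧ N' ≤ N'' ∧ N'' ≤ N ∧ Nat.card N'' = p * Nat.card N' ∧
      ∀ n ∈ N'', ∀ g : G, g * n * g⁻¹ * n⁻¹ ∈ N' := by
  set π := QuotientGroup.mk' N' with hπ
  have hsurj : Function.Surjective π := QuotientGroup.mk'_surjective N'
  have hNbar_n : (N.map π).Normal := hNn.map π hsurj
  have hNbar0 : N.map π ≠ ⊥ := by
    intro h
    rw [(Subgroup.map_eq_bot_iff N)] at h
    rw [QuotientGroup.ker_mk'] at h
    exact hne (le_antisymm hle h)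
  obtain ⟨x, hxN, hxZ, hx1⟩ := exists_mem_center_of_normal (N.map π) hNbar0
  have hNbar_p : IsPGroup p (N.map π) := hNp.map π
  obtain ⟨k, hk⟩ := (IsPGroup.iff_orderOf.mp hNbar_p) ⟨x, hxN⟩
  rw [← Subgroup.orderOf_coe] at hk
  simp only at hk
  have hoy : orderOf (x ^ (p ^ (k - 1))) = p := order_p_of_pow x k hx1 hk
  have hyN : x ^ (p ^ (k - 1)) ∈ N.map π := Subgroup.pow_mem _ hxN _
  have hyZ : x ^ (p ^ (k - 1)) ∈ Subgroup.center (G ⧸ N') := Subgroup.pow_mem _ hxZ _
  have hZn : (Subgroup.zpowers (x ^ (p ^ (k - 1)))).Normal :=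
    normal_of_le_center _ (Subgroup.zpowers_le.mpr hyZ)
  refine ⟨(Subgroup.zpowers (x ^ (p ^ (k - 1)))).comap π, hZn.comap π, ?_, ?_, ?_, ?_⟩
  · intro a ha
    rw [Subgroup.mem_comap]
    have : π a = 1 := (QuotientGroup.eq_one_iff a).mpr ha
    rw [this]; exact Subgroup.one_mem _
  · have h1 : (Subgroup.zpowers (x ^ (p ^ (k - 1)))).comap π ≤ (N.map π).comap π :=
      Subgroup.comap_mono (Subgroup.zpowers_le.mpr hyN)
    rw [Subgroup.comap_map_eq, QuotientGroup.ker_mk', sup_of_le_left hle] at h1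
    exact h1
  · rw [card_comap_mk', Nat.card_zpowers, hoy, mul_comm]
  · intro n hn g
    have hc : π n ∈ Subgroup.center (G ⧸ N') :=
      (Subgroup.zpowers_le.mpr hyZ) (Subgroup.mem_comap.mp hn)
    have h1 : π (g * n * g⁻¹ * n⁻¹) = 1 := by
      rw [map_mul, map_mul, map_mul, map_inv, map_inv,
        (Subgroup.mem_center_iff.mp hc) (π g)]
      group
    exact (QuotientGroup.eq_one_iff _).mp h1

/-- If `A ≤ N` has index `p` and `y₀ ∈ N ∖ A`, then `N = A ⟨y₀⟩`. -/
theorem sup_zpowers_eq_of_card [Finite G] {p : ℕ} [hp : Fact p.Prime] (A N : Subgroup G)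
    (hAN : A ≤ N) (hcard : Nat.card N = p * Nat.card A) (y₀ : G) (hy₀N : y₀ ∈ N) (hy₀A : y₀ ∉ A) :
    A ⊔ Subgroup.zpowers y₀ = N := by
  have hApos : 0 < Nat.card A := Nat.card_pos
  have hle : A ⊔ Subgroup.zpowers y₀ ≤ N := sup_le hAN (Subgroup.zpowers_le.mpr hy₀N)
  apply Subgroup.eq_of_le_of_card_ge hle
  obtain ⟨k, hk⟩ := Subgroup.card_dvd_of_le (le_sup_left : A ≤ A ⊔ Subgroup.zpowers y₀)
  have hdvd := Subgroup.card_dvd_of_le hle
  rw [hcard, hk, mul_comm p] at hdvd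
  have hkp : k ∣ p := Nat.dvd_of_mul_dvd_mul_left hApos hdvd
  rcases (Nat.dvd_prime hp.out).mp hkp with h1 | h1
  · exfalso
    rw [h1, mul_one] at hk
    have heq := Subgroup.eq_of_le_of_card_ge
      (le_sup_left : A ≤ A ⊔ Subgroup.zpowers y₀) hk.le
    apply hy₀A
    rw [heq]
    exact (le_sup_right : Subgroup.zpowers y₀ ≤ A ⊔ Subgroup.zpowers y₀)
      (Subgroup.mem_zpowers y₀)
  · rw [hcard, hk, h1, mul_comm]

/-- A subgroup squeezed between a subgroup `A` and its centralizer, of index `p` over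
`A`, is abelian. -/
theorem comm_of_card_eq_prime_mul [Finite G] {p : ℕ} [hp : Fact p.Prime] (A N : Subgroup G)
    (hAN : A ≤ N)
    (hNC : ∀ n ∈ N, ∀ a ∈ A, n * a = a * n) (hcard : Nat.card N = p * Nat.card A) :
    ∀ x ∈ N, ∀ y ∈ N, x * y = y * x := by
  have hApos : 0 < Nat.card A := Nat.card_pos
  obtain ⟨y₀, hy₀N, hy₀A⟩ : ∃ y₀ ∈ N, y₀ ∉ A := by
    by_contra hcon
    push Not at hcon
    have hle : N ≤ A := hcon
    have := Subgroup.card_le_of_le hle
    rw [hcard] at this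
    have h2 := hp.out.two_le
    nlinarith
  have hsup : A ⊔ Subgroup.zpowers y₀ = N := sup_zpowers_eq_of_card A N hAN hcard y₀ hy₀N hy₀A
  -- every element of `N` commutes with `A` and `y₀`
  have h1 : ∀ x ∈ N, x * y₀ = y₀ * x := by
    intro x hx
    have hle : A ⊔ Subgroup.zpowers y₀ ≤ Subgroup.centralizer {y₀} := by
      refine sup_le ?_ ?_
      · intro a ha
        rw [Subgroup.mem_centralizer_singleton_iff]
        exact (hNC y₀ hy₀N a ha).symm
      · rw [Subgroup.zpowers_le, Subgroup.mem_centralizer_singleton_iff]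
    rw [hsup] at hle
    have := hle hx
    rw [Subgroup.mem_centralizer_singleton_iff] at this
    exact this
  intro x hx y hy
  have hle : A ⊔ Subgroup.zpowers y₀ ≤ Subgroup.centralizer {x} := by
    refine sup_le ?_ ?_
    · intro a ha
      rw [Subgroup.mem_centralizer_singleton_iff]
      exact (hNC x hx a ha).symm
    · rw [Subgroup.zpowers_le, Subgroup.mem_centralizer_singleton_iff]
      exact (h1 x hx).symm
  rw [hsup] at hle
  have := hle hy
  rw [Subgroup.mem_centralizer_singleton_iff] at this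
  exact this.symm

end step

section wsub
variable {P : Type*} [Group P]

/-- The elements of `M` centralizing `E` and central in `M` modulo `E`. -/
def wSub (M E : Subgroup P) [hE : E.Normal] : Subgroup P where
  carrier := {y | y ∈ M ∧ (∀ e ∈ E, y * e = e * y) ∧ ∀ m ∈ M, m * y * m⁻¹ * y⁻¹ ∈ E}
  one_mem' := ⟨one_mem M, fun e _ => by rw [one_mul, mul_one], fun m _ => by
    have : m * 1 * m⁻¹ * (1 : P)⁻¹ = 1 := by group
    rw [this]; exact one_mem E⟩
  mul_mem' := by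
    rintro a b ⟨haM, haE, hac⟩ ⟨hbM, hbE, hbc⟩
    refine ⟨mul_mem haM hbM, fun e he => ?_, fun m hm => ?_⟩
    · rw [mul_assoc, hbE e he, ← mul_assoc, haE e he, mul_assoc]
    · have h1 : m * (a * b) * m⁻¹ * (a * b)⁻¹
          = (m * a * m⁻¹ * a⁻¹) * (a * (m * b * m⁻¹ * b⁻¹) * a⁻¹) := by group
      rw [h1]
      exact mul_mem (hac m hm) (hE.conj_mem _ (hbc m hm) a)
  inv_mem' := by
    rintro a ⟨haM, haE, hac⟩
    refine ⟨inv_mem haM, fun e he => ?_, fun m hm => ?_⟩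
    · have := haE e he
      calc a⁻¹ * e = a⁻¹ * (e * a) * a⁻¹ := by group
        _ = a⁻¹ * (a * e) * a⁻¹ := by rw [this]
        _ = e * a⁻¹ := by group
    · have h1 : m * a⁻¹ * m⁻¹ * a⁻¹⁻¹ = a⁻¹ * (m * a * m⁻¹ * a⁻¹)⁻¹ * a⁻¹⁻¹ := by group
      rw [h1]
      exact hE.conj_mem _ (inv_mem (hac m hm)) a⁻¹

theorem mem_wSub {M E : Subgroup P} [E.Normal] {y : P} :
    y ∈ wSub M E ↔ y ∈ M ∧ (∀ e ∈ E, y * e = e * y) ∧ ∀ m ∈ M, m * y * m⁻¹ * y⁻¹ ∈ E := Iff.rfl

/-- On `wSub M E` the `p`-th power map is multiplicative (`p` odd, `E` of exponent `p`). -/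
theorem wSub_mul_pow {p : ℕ} [hp : Fact p.Prime] (hp2 : p ≠ 2) (M E : Subgroup P) [hE : E.Normal]
    (hEexp : ∀ e ∈ E, e ^ p = 1) (a b : P) (ha : a ∈ wSub M E) (hb : b ∈ wSub M E) :
    (a * b) ^ p = a ^ p * b ^ p := by
  obtain ⟨haM, haE, hac⟩ := ha
  obtain ⟨hbM, hbE, hbc⟩ := hb
  have hc : (a * b)⁻¹ * (b * a) ∈ E := by
    have h1 : (a * b)⁻¹ * (b * a) = b⁻¹ * (a⁻¹ * (b * a * b⁻¹ * a⁻¹) * a⁻¹⁻¹) * b⁻¹⁻¹ := by group
    rw [h1]
    exact hE.conj_mem _ (hE.conj_mem _ (hac b hbM) a⁻¹) b⁻¹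
  exact mul_pow_prime_comm_central hp2 a b _ (by group) (haE _ hc).symm (hbE _ hc).symm
    (hEexp _ hc)

theorem wSub_hmul {p : ℕ} [hp : Fact p.Prime] (hp2 : p ≠ 2) (M E : Subgroup P) [hE : E.Normal]
    (hEexp : ∀ e ∈ E, e ^ p = 1) :
    ∀ x ∈ wSub M E, ∀ y ∈ wSub M E, x ^ p = 1 → y ^ p = 1 → (x * y) ^ p = 1 := by
  intro x hx y hy h1 h2
  rw [wSub_mul_pow hp2 M E hEexp x y hx hy, h1, h2, one_mul]

/-- `Ω₁(wSub M E)` is normal in `P` when `M` and `E` are. -/
theorem omega_wSub_normal {p : ℕ} [hp : Fact p.Prime] (hp2 : p ≠ 2) (M E : Subgroup P)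
    [hM : M.Normal] [hE : E.Normal] (hEexp : ∀ e ∈ E, e ^ p = 1) :
    (omegaSub (wSub M E) p (wSub_hmul hp2 M E hEexp)).Normal := by
  constructor
  rintro y ⟨⟨hyM, hyE, hyc⟩, hyp⟩ g
  refine ⟨⟨hM.conj_mem y hyM g, fun e he => ?_, fun m hm => ?_⟩, ?_⟩
  · have h1 := hyE (g⁻¹ * e * g) (by
      have := hE.conj_mem e he g⁻¹
      rwa [inv_inv] at this)
    calc g * y * g⁻¹ * e = g * (y * (g⁻¹ * e * g)) * g⁻¹ := by group
      _ = g * ((g⁻¹ * e * g) * y) * g⁻¹ := by rw [h1]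
      _ = e * (g * y * g⁻¹) := by group
  · have h1 := hyc (g⁻¹ * m * g) (by
      have := hM.conj_mem m hm g⁻¹
      rwa [inv_inv] at this)
    have h2 : m * (g * y * g⁻¹) * m⁻¹ * (g * y * g⁻¹)⁻¹
        = g * ((g⁻¹ * m * g) * y * (g⁻¹ * m * g)⁻¹ * y⁻¹) * g⁻¹ := by group
    rw [h2]
    exact hE.conj_mem _ h1 g
  · rw [conj_pow, hyp]; group

end wsub

section main

/-- Key induction: if some element of order `p` outside the normal abelian exponent-`p` subgroup
`E` centralizes `E`, then there is such an element which is moreover central modulo `E`. -/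
theorem exists_central_mod_aux.{u} (n : ℕ) : ∀ (P : Type u) [Group P] [Finite P] (p : ℕ)
    [Fact p.Prime] (_hp2 : p ≠ 2) (_hP : IsPGroup p P) (E : Subgroup P) [E.Normal]
    (_hEcomm : ∀ a ∈ E, ∀ b ∈ E, a * b = b * a) (_hEexp : ∀ e ∈ E, e ^ p = 1)
    (x : P) (_hxE : x ∉ E) (_hxc : ∀ e ∈ E, x * e = e * x) (_hxp : x ^ p = 1),
    Nat.card P = n →
    ∃ y : P, y ∉ E ∧ (∀ e ∈ E, y * e = e * y) ∧ y ^ p = 1 ∧ ∀ g : P, g * y * g⁻¹ * y⁻¹ ∈ E := by
  induction n using Nat.strong_induction_on with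
  | _ n ih =>
  intro P _ _ p hp hp2 hP E hE hEcomm hEexp x hxE hxc hxp hcard
  by_cases hW : ∀ g : P, g * x * g⁻¹ * x⁻¹ ∈ E
  · exact ⟨x, hxE, hxc, hxp, hW⟩
  have hnil : Group.IsNilpotent P := hP.isNilpotent
  have hFtop : E ⊔ Subgroup.zpowers x ≠ ⊤ := by
    intro htop
    apply hW
    intro g
    have hle : E ⊔ Subgroup.zpowers x ≤ Subgroup.centralizer {x} := by
      refine sup_le ?_ ?_
      · intro e he
        rw [Subgroup.mem_centralizer_singleton_iff]
        exact (hxc e he).symm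
      · rw [Subgroup.zpowers_le, Subgroup.mem_centralizer_singleton_iff]
    rw [htop] at hle
    have hg := hle (Subgroup.mem_top g)
    rw [Subgroup.mem_centralizer_singleton_iff] at hg
    have : g * x * g⁻¹ * x⁻¹ = 1 := by rw [hg]; group
    rw [this]; exact one_mem E
  obtain ⟨M, hMco, hFM⟩ :=
    (eq_top_or_exists_le_coatom (E ⊔ Subgroup.zpowers x)).resolve_left hFtop
  have hMn : M.Normal :=
    Subgroup.NormalizerCondition.normal_of_coatom M Group.normalizerCondition_of_isNilpotent hMco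
  have hEM : E ≤ M := le_sup_left.trans hFM
  have hxM : x ∈ M :=
    hFM ((le_sup_right : Subgroup.zpowers x ≤ E ⊔ Subgroup.zpowers x) (Subgroup.mem_zpowers x))
  have hMcard : Nat.card M < n := by
    rw [← hcard]
    have hle := Subgroup.card_le_card_group M
    rcases hle.lt_or_eq with h | h
    · exact h
    · exact absurd (Subgroup.eq_top_of_card_eq M h) hMco.1
  have : (E.subgroupOf M).Normal := hE.subgroupOf M
  obtain ⟨y', hy'E, hy'c, hy'p, hy'z⟩ := ih (Nat.card M) hMcard (↥M) p hp2 (hP.to_subgroup M)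
    (E.subgroupOf M)
    (fun a ha b hb => Subtype.ext (hEcomm a ha b hb))
    (fun e he => Subtype.ext (by
      have := hEexp e he
      simpa using this))
    ⟨x, hxM⟩ (fun h => hxE (Subgroup.mem_subgroupOf.mp h))
    (fun e he => Subtype.ext (hxc e he))
    (Subtype.ext (by simpa using hxp)) rfl
  have hyM : (y' : P) ∈ M := y'.2
  have hyE : (y' : P) ∉ E := fun h => hy'E (Subgroup.mem_subgroupOf.mpr h)
  have hyc : ∀ e ∈ E, (y' : P) * e = e * y' := fun e he => by
    have := hy'c ⟨e, hEM he⟩ (Subgroup.mem_subgroupOf.mpr he)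
    exact congrArg Subtype.val this
  have hyp : (y' : P) ^ p = 1 := by
    have := congrArg Subtype.val hy'p
    simpa using this
  have hyz : ∀ m ∈ M, m * (y' : P) * m⁻¹ * (y' : P)⁻¹ ∈ E := fun m hm => by
    have := hy'z ⟨m, hm⟩
    rw [Subgroup.mem_subgroupOf] at this
    simpa using this
  have hΩn := omega_wSub_normal hp2 M E hEexp
  have hEΩ : E ≤ omegaSub (wSub M E) p (wSub_hmul hp2 M E hEexp) := by
    intro e he
    refine ⟨⟨hEM he, fun e' he' => hEcomm e he e' he', fun m hm => ?_⟩, hEexp e he⟩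
    exact mul_mem (hE.conj_mem e he m) (inv_mem he)
  have hyΩ : (y' : P) ∈ omegaSub (wSub M E) p (wSub_hmul hp2 M E hEexp) :=
    ⟨⟨hyM, hyc, hyz⟩, hyp⟩
  have hne : E ≠ omegaSub (wSub M E) p (wSub_hmul hp2 M E hEexp) := fun h => hyE (h ▸ hyΩ)
  obtain ⟨N'', hN''n, hEN'', hN''Ω, hN''card, hN''c⟩ :=
    exists_normal_step_central (omegaSub (wSub M E) p (wSub_hmul hp2 M E hEexp)) E
      (hP.to_subgroup _) hEΩ hne
  obtain ⟨y'', hy''N, hy''E⟩ : ∃ y'' ∈ N'', y'' ∉ E := by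
    by_contra hcon
    push Not at hcon
    have hle : N'' ≤ E := hcon
    have h1 := Subgroup.card_le_of_le hle
    rw [hN''card] at h1
    have h2 : 0 < Nat.card E := Nat.card_pos
    have h3 := hp.out.two_le
    nlinarith
  have hy''Ω := hN''Ω hy''N
  exact ⟨y'', hy''E, hy''Ω.1.2.1, hy''Ω.2, fun g => hN''c y'' hy''N g⟩

/-- `p` odd: a normal abelian subgroup `E` of exponent `p` of the `p`-group `P`, centralized by an
element of order `p` outside it, lies in a normal abelian subgroup of exponent `p` in which it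
has index `p`. -/
theorem exists_normal_elemAb_step {P : Type*} [Group P] [Finite P] {p : ℕ} [hp : Fact p.Prime]
    (hp2 : p ≠ 2) (hP : IsPGroup p P) (E : Subgroup P) [hE : E.Normal]
    (hEcomm : ∀ a ∈ E, ∀ b ∈ E, a * b = b * a) (hEexp : ∀ e ∈ E, e ^ p = 1)
    (x : P) (hxE : x ∉ E) (hxc : ∀ e ∈ E, x * e = e * x) (hxp : x ^ p = 1) :
    ∃ E₃ : Subgroup P, E₃.Normal ∧ E ≤ E₃ ∧ Nat.card E₃ = p * Nat.card E ∧
      (∀ a ∈ E₃, ∀ b ∈ E₃, a * b = b * a) ∧ ∀ a ∈ E₃, a ^ p = 1 := by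
  obtain ⟨y, hyE, hyc, hyp, hyz⟩ :=
    exists_central_mod_aux (Nat.card P) P p hp2 hP E hEcomm hEexp x hxE hxc hxp rfl
  have hnil := hP.isNilpotent
  have hΩn := omega_wSub_normal hp2 ⊤ E hEexp
  have hEΩ : E ≤ omegaSub (wSub ⊤ E) p (wSub_hmul hp2 ⊤ E hEexp) := by
    intro e he
    refine ⟨⟨Subgroup.mem_top e, fun e' he' => hEcomm e he e' he', fun m _ => ?_⟩, hEexp e he⟩
    exact mul_mem (hE.conj_mem e he m) (inv_mem he)
  have hyΩ : y ∈ omegaSub (wSub ⊤ E) p (wSub_hmul hp2 ⊤ E hEexp) :=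
    ⟨⟨Subgroup.mem_top y, hyc, fun m _ => hyz m⟩, hyp⟩
  have hne : E ≠ omegaSub (wSub ⊤ E) p (wSub_hmul hp2 ⊤ E hEexp) := fun h => hyE (h ▸ hyΩ)
  obtain ⟨N'', hN''n, hEN'', hN''Ω, hN''card, -⟩ :=
    exists_normal_step_central (omegaSub (wSub ⊤ E) p (wSub_hmul hp2 ⊤ E hEexp)) E
      (hP.to_subgroup _) hEΩ hne
  refine ⟨N'', hN''n, hEN'', hN''card, ?_, fun a ha => (hN''Ω ha).2⟩
  exact comm_of_card_eq_prime_mul E N'' hEN'' (fun n hn a ha => (hN''Ω hn).1.2.1 a ha) hN''card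

/-- A normal abelian subgroup of a finite `p`-group lies in a self-centralizing normal
(abelian) subgroup. -/
theorem exists_self_centralizing {P : Type*} [Group P] [Finite P] {p : ℕ} [hp : Fact p.Prime]
    (hP : IsPGroup p P) (B : Subgroup P) [hB : B.Normal]
    (hBcomm : ∀ a ∈ B, ∀ b ∈ B, a * b = b * a) :
    ∃ A : Subgroup P, A.Normal ∧ B ≤ A ∧ (∀ a ∈ A, ∀ b ∈ A, a * b = b * a) ∧
      Subgroup.centralizer (A : Set P) = A := by
  have hnil := hP.isNilpotent
  obtain ⟨A, hBA, hAmax⟩ := Finite.exists_le_maximal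
    (p := fun A : Subgroup P => A.Normal ∧ B ≤ A ∧ ∀ a ∈ A, ∀ b ∈ A, a * b = b * a) (a := B)
    ⟨hB, le_rfl, hBcomm⟩
  obtain ⟨⟨hAn, -, hAcomm⟩, hmax⟩ := hAmax
  refine ⟨A, hAn, hBA, hAcomm, ?_⟩
  have hAC : A ≤ Subgroup.centralizer (A : Set P) := fun a ha => by
    rw [Subgroup.mem_centralizer_iff]
    intro b hb
    exact hAcomm b hb a ha
  by_contra hne
  have hCn : (Subgroup.centralizer (A : Set P)).Normal := inferInstance
  obtain ⟨N'', hN''n, hAN'', hN''C, hN''card, -⟩ :=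
    exists_normal_step_central (Subgroup.centralizer (A : Set P)) A (hP.to_subgroup _) hAC
      (fun h => hne h.symm)
  have hN''comm := comm_of_card_eq_prime_mul A N'' hAN''
    (fun n hn a ha => ((Subgroup.mem_centralizer_iff.mp (hN''C hn)) a ha).symm) hN''card
  have hle : N'' ≤ A := hmax ⟨hN''n, hBA.trans hAN'', hN''comm⟩ hAN''
  have h1 := Subgroup.card_le_of_le hle
  rw [hN''card] at h1
  have h2 : 0 < Nat.card A := Nat.card_pos
  have h3 := hp.out.two_le
  nlinarith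

end main

section rank

/-- If the `p`-group `R` has an elementary abelian subgroup of order more than `p ^ 2`, then every
normal elementary abelian subgroup `E` of order `p ^ 2` is centralized by an element of order `p`
outside `E`. -/
theorem exists_centralizing_of_rank {R : Type*} [Group R] [Finite R] {p : ℕ} [hp : Fact p.Prime]
    (hR : IsPGroup p R) (E : Subgroup R) [hE : E.Normal]
    (hEexp : ∀ e ∈ E, e ^ p = 1) (hE2 : Nat.card E = p ^ 2)
    (B : Subgroup R) (hBcomm : ∀ a ∈ B, ∀ b ∈ B, a * b = b * a) (hBexp : ∀ b ∈ B, b ^ p = 1)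
    (hBcard : p ^ 2 < Nat.card B) :
    ∃ x : R, x ∉ E ∧ (∀ e ∈ E, x * e = e * x) ∧ x ^ p = 1 := by
  have h2le := hp.out.two_le
  have hnil := hR.isNilpotent
  have hE0 : E ≠ ⊥ := by
    rintro rfl
    rw [Subgroup.card_bot] at hE2
    nlinarith
  obtain ⟨z, hzE, hzC, hz⟩ := exists_central_order_p hR E hE0
  have hZle : Subgroup.zpowers z ≤ Subgroup.center R := Subgroup.zpowers_le.mpr hzC
  have hZn : (Subgroup.zpowers z).Normal := normal_of_le_center _ hZle
  have hZE : Subgroup.zpowers z ≤ E := Subgroup.zpowers_le.mpr hzE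
  have hZcard : Nat.card (Subgroup.zpowers z) = p := by rw [Nat.card_zpowers, hz]
  have hZne : Subgroup.zpowers z ≠ E := by
    intro h
    rw [h, hE2] at hZcard
    nlinarith
  have hcen : ∀ c ∈ Subgroup.zpowers z, ∀ w : R, c * w = w * c := fun c hc w =>
    ((Subgroup.mem_center_iff.mp (hZle hc)) w).symm
  obtain ⟨N'', -, -, hNE, hNcard, hNc⟩ :=
    exists_normal_step_central E (Subgroup.zpowers z) (hR.to_subgroup E) hZE hZne
  have hN''E : N'' = E := by
    apply Subgroup.eq_of_le_of_card_ge hNE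
    rw [hNcard, hZcard, hE2, sq]
  rw [hN''E] at hNc
  obtain ⟨e, heE, heZ⟩ : ∃ e ∈ E, e ∉ Subgroup.zpowers z := by
    by_contra hcon
    push Not at hcon
    have hle : E ≤ Subgroup.zpowers z := hcon
    exact hZne (le_antisymm hZE hle)
  have hsup : Subgroup.zpowers z ⊔ Subgroup.zpowers e = E :=
    sup_zpowers_eq_of_card (Subgroup.zpowers z) E hZE (by rw [hE2, hZcard, sq]) e heE heZ
  have hcentE : ∀ g : R, g * e = e * g → ∀ e' ∈ E, g * e' = e' * g := by
    intro g hg e' he'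
    have hle : Subgroup.zpowers z ⊔ Subgroup.zpowers e ≤ Subgroup.centralizer {g} := by
      refine sup_le ?_ ?_
      · intro c hc
        rw [Subgroup.mem_centralizer_singleton_iff]
        exact hcen c hc g
      · rw [Subgroup.zpowers_le, Subgroup.mem_centralizer_singleton_iff]
        exact hg.symm
    rw [hsup] at hle
    have := hle he'
    rw [Subgroup.mem_centralizer_singleton_iff] at this
    exact this.symm
  by_contra hcon
  push Not at hcon
  let φ : ↥B →* R := MonoidHom.mk' (fun b => (b : R) * e * (b : R)⁻¹ * e⁻¹) (fun b b' => by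
    simp only [Subgroup.coe_mul]
    have hc := hNc e heE (b' : R)
    have h1 := hcen _ hc (b : R)
    have h2 := hcen _ hc ((b : R) * e * (b : R)⁻¹ * e⁻¹)
    calc (b : R) * b' * e * ((b : R) * b')⁻¹ * e⁻¹
        = (b : R) * ((b' : R) * e * (b' : R)⁻¹ * e⁻¹) * ((b : R)⁻¹ * ((b : R) * e * (b : R)⁻¹ * e⁻¹))
          := by group
      _ = ((b' : R) * e * (b' : R)⁻¹ * e⁻¹) * (b : R) * ((b : R)⁻¹ * ((b : R) * e * (b : R)⁻¹ * e⁻¹))
          := by rw [h1]
      _ = ((b' : R) * e * (b' : R)⁻¹ * e⁻¹) * ((b : R) * e * (b : R)⁻¹ * e⁻¹) := by group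
      _ = (b : R) * e * (b : R)⁻¹ * e⁻¹ * ((b' : R) * e * (b' : R)⁻¹ * e⁻¹) := h2)
  have hφ : ∀ b : ↥B, φ b = (b : R) * e * (b : R)⁻¹ * e⁻¹ := fun b => rfl
  have hrange : φ.range ≤ Subgroup.zpowers z := by
    rintro _ ⟨b, rfl⟩
    exact hNc e heE (b : R)
  have hkerE : ∀ b : ↥B, b ∈ φ.ker → (b : R) ∈ E := by
    intro b hb
    by_contra hbE
    have h1 : (b : R) * e * (b : R)⁻¹ * e⁻¹ = 1 := by
      have := φ.mem_ker.mp hb
      rwa [hφ] at this
    have h2 : (b : R) * e = e * (b : R) := by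
      calc (b : R) * e = ((b : R) * e * (b : R)⁻¹ * e⁻¹) * (e * (b : R)) := by group
        _ = e * (b : R) := by rw [h1, one_mul]
    exact hcon (b : R) hbE (hcentE _ h2) (hBexp _ b.2)
  have h3 : Nat.card φ.ker * Nat.card φ.range = Nat.card B := by
    rw [← Subgroup.index_ker]; exact Subgroup.card_mul_index _
  have hr : Nat.card φ.range ≤ p := by
    rw [← hZcard]; exact Subgroup.card_le_of_le hrange
  have hk : Nat.card φ.ker ≤ Nat.card ↥(E ⊓ B) := by
    apply Nat.card_le_card_of_injective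
      (fun b : φ.ker => (⟨(b : ↥B), hkerE b.1 b.2, b.1.2⟩ : ↥(E ⊓ B)))
    intro b b' hbb'
    apply Subtype.ext; apply Subtype.ext
    have h := congrArg (fun w : ↥(E ⊓ B) => (w : R)) hbb'
    exact h
  by_cases hEB : E ⊓ B = E
  · have hEleB : E ≤ B := by rw [← hEB]; exact inf_le_right
    have hBE : B ≤ E := by
      intro b hb
      by_contra hbE
      exact hcon b hbE (fun e' he' => hBcomm b hb e' (hEleB he')) (hBexp b hb)
    have := Subgroup.card_le_of_le hBE
    rw [hE2] at this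
    omega
  · have hdvd := Subgroup.card_dvd_of_le (inf_le_left : E ⊓ B ≤ E)
    rw [hE2] at hdvd
    obtain ⟨i, hi2, hi⟩ := (Nat.dvd_prime_pow hp.out).mp hdvd
    have hi1 : i ≤ 1 := by
      by_contra h
      have h2 : i = 2 := by omega
      apply hEB
      apply Subgroup.eq_of_le_of_card_ge inf_le_left
      rw [hi, h2, hE2]
    have hle : Nat.card ↥(E ⊓ B) ≤ p := by
      rw [hi]
      calc p ^ i ≤ p ^ 1 := Nat.pow_le_pow_right hp.out.pos hi1
        _ = p := pow_one p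
    have : Nat.card B ≤ p * p := by
      rw [← h3]; exact Nat.mul_le_mul (hk.trans hle) hr
    rw [← sq] at this
    omega

end rank

end Cfsg.Agent.Lib.Helper26
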