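import Mathlib
import Cfsg.Prelude.Def_CaseTheorems
import Cfsg.Prelude.Def_OddOrderLocal
import Cfsg.Agent.Lib.Helper26.Rank2Amb
import Cfsg.Agent.Lib.Helper01.PCore
import Cfsg.Agent.Lib.Helper01.Fitting
import Cfsg.Agent.Lib.Helper01.Hall
import Cfsg.Agent.Lib.Helper13.Fitting
import Cfsg.Agent.Lib.Helper32.PiNumber

/-!
# Solvable groups of odd order whose Fitting subgroup has rank at most two

The abstract input is `Good G`: for every prime `p`, every element of `G'` has a `p`-power centralising
`O_p(G)`, and every element all of whose prime divisors of the order exceed `p` centralises `O_p(G)`.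
For a finite solvable `G` this gives: `G' ≤ F(G)` (so `G'` is nilpotent), characteristic subgroups of a
Sylow subgroup `S` contained in `S'` are normal in `G`, and for every `p` there is a characteristic Hall
subgroup for the primes exceeding `p` (a Sylow tower).
-/

set_option autoImplicit false

universe u

namespace Cfsg.Agent.Lib.Helper26.Rank2Tower

open scoped commutatorElement
open Cfsg

/-- the abstract hypothesis. -/
def Good (G : Type u) [Group G] : Prop :=
  ∀ p : ℕ, p.Prime →
    (∀ c ∈ commutator G, ∃ k : ℕ, c ^ (p ^ k) ∈ Subgroup.centralizer ((pCore p G : Subgroup G) : Set G)) ∧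
    (∀ x : G, (∀ q : ℕ, q.Prime → q ∣ orderOf x → p < q) →
      x ∈ Subgroup.centralizer ((pCore p G : Subgroup G) : Set G))

/-- an element normalising `H` whose order is prime to the index of `H` lies in `H`. -/
theorem mem_of_mem_normalizer_of_coprime {G : Type u} [Group G] [Finite G] (H : Subgroup G) (x : G)
    (hx : x ∈ Subgroup.normalizer (H : Set G)) (hcop : (orderOf x).Coprime H.index) : x ∈ H := by
  set M := Subgroup.normalizer (H : Set G) with hM
  have hn : (H.subgroupOf M).Normal := Subgroup.normal_in_normalizer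
  have h1 : orderOf ((⟨x, hx⟩ : M) : M ⧸ H.subgroupOf M) ∣ orderOf x := by
    have := orderOf_map_dvd (QuotientGroup.mk' (H.subgroupOf M)) (⟨x, hx⟩ : M)
    rwa [Subgroup.orderOf_mk] at this
  have h2 : orderOf ((⟨x, hx⟩ : M) : M ⧸ H.subgroupOf M) ∣ H.index := by
    have h3 : orderOf ((⟨x, hx⟩ : M) : M ⧸ H.subgroupOf M) ∣ Nat.card (M ⧸ H.subgroupOf M) :=
      orderOf_dvd_natCard _
    rw [← Subgroup.index_eq_card] at h3
    exact h3.trans (Subgroup.relIndex_dvd_index_of_le Subgroup.le_normalizer)
  have h4 := Nat.eq_one_of_dvd_coprimes hcop h1 h2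
  have h5 : ((⟨x, hx⟩ : M) : M ⧸ H.subgroupOf M) = 1 := orderOf_eq_one_iff.1 h4
  rw [QuotientGroup.eq_one_iff, Subgroup.mem_subgroupOf] at h5
  exact h5

/-- a subgroup with a central subgroup modulo which it is a `q`-group is nilpotent. -/
theorem isNilpotent_of_central {G : Type u} [Group G] [Finite G] {q : ℕ} [Fact q.Prime]
    (K A : Subgroup G) (hAc : A ≤ Subgroup.centralizer (K : Set G))
    (h : ∀ k ∈ K, ∃ j : ℕ, k ^ (q ^ j) ∈ A) : Group.IsNilpotent K := by
  have hn : (A.subgroupOf K).Normal := by
    constructor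
    intro a ha k
    rw [Subgroup.mem_subgroupOf] at ha ⊢
    have := (Subgroup.mem_centralizer_iff.1 (hAc ha)) k k.2
    have h2 : ((k * a * k⁻¹ : K) : G) = a := by
      simp only [Subgroup.coe_mul, Subgroup.coe_inv]
      rw [this, mul_assoc, mul_inv_cancel, mul_one]
    rw [h2]; exact ha
  have hp : IsPGroup q (K ⧸ A.subgroupOf K) := by
    intro y
    induction y using QuotientGroup.induction_on with
    | H k =>
      obtain ⟨j, hj⟩ := h k k.2
      refine ⟨j, ?_⟩
      rw [← QuotientGroup.mk_pow, QuotientGroup.eq_one_iff, Subgroup.mem_subgroupOf]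
      simpa using hj
  have hnil : Group.IsNilpotent (K ⧸ A.subgroupOf K) := hp.isNilpotent
  apply Subgroup.isNilpotent_of_ker_le_center (QuotientGroup.mk' (A.subgroupOf K))
  rw [QuotientGroup.ker_mk']
  intro a ha
  rw [Subgroup.mem_subgroupOf] at ha
  rw [Subgroup.mem_center_iff]
  intro k
  exact Subtype.ext ((Subgroup.mem_centralizer_iff.1 (hAc ha)) k k.2)

section main

variable {G : Type u} [Group G] [Finite G]

omit [Finite G] in
/-- `q`-elements of `G'` centralise `O_p(G)` for `p ≠ q`. -/
theorem mem_centralizer_of_qElement (hg : Good G) {q : ℕ} (hq : q.Prime) {c : G}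
    (hc : c ∈ commutator G) {a : ℕ} (hca : c ^ (q ^ a) = 1) {p : ℕ} (hp : p.Prime) (hpq : p ≠ q) :
    c ∈ Subgroup.centralizer ((pCore p G : Subgroup G) : Set G) := by
  obtain ⟨k, hk⟩ := (hg p hp).1 c hc
  have hcop : (p ^ k).Coprime (orderOf c) := by
    have h1 : orderOf c ∣ q ^ a := orderOf_dvd_of_pow_eq_one hca
    have h2 : (p ^ k).Coprime (q ^ a) := Nat.Coprime.pow _ _ ((Nat.coprime_primes hp hq).2 hpq)
    exact Nat.Coprime.coprime_dvd_right h1 h2
  obtain ⟨m, hm⟩ := exists_pow_eq_self_of_coprime hcop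
  rw [← hm]
  exact Subgroup.pow_mem _ hk m

/-- the product of the `O_p(G)`, `p ≠ q`. -/
def fq' (q : ℕ) (G : Type u) [Group G] : Subgroup G :=
  ⨆ (p : Nat.Primes) (_ : (p : ℕ) ≠ q), pCore (p : ℕ) G

omit [Finite G] in
theorem fq'_normal (q : ℕ) : (fq' q G).Normal := by
  have hpn : ∀ p : ℕ, (pCore p G).Normal := fun p => Cfsg.Agent.Lib.Helper01.pCore_normal p
  unfold fq'
  infer_instance

theorem fitting_le_sup (q : ℕ) : fittingSubgroup G ≤ pCore q G ⊔ fq' q G := by
  rw [Cfsg.Agent.Lib.Helper01.fitting_eq_iSup_pCore]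
  apply iSup_le
  intro p
  by_cases h : (p : ℕ) = q
  · rw [h]; exact le_sup_left
  · exact le_sup_of_le_right (le_iSup₂_of_le p h le_rfl)

/-- `q`-elements of `G'` lie in the Fitting subgroup. -/
theorem qElement_mem_fitting [Group.IsSolvable G] (hg : Good G) {q : ℕ} (hq : q.Prime) {c : G}
    (hc : c ∈ commutator G) {a : ℕ} (hca : c ^ (q ^ a) = 1) : c ∈ fittingSubgroup G := by
  have : Fact q.Prime := ⟨hq⟩
  have hpn : (pCore q G).Normal := Cfsg.Agent.Lib.Helper01.pCore_normal q
  have hFn : (fq' q G).Normal := fq'_normal q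
  set K : Subgroup G := commutator G ⊓ Subgroup.centralizer ((fq' q G : Subgroup G) : Set G) with hK
  have hKn : K.Normal := by rw [hK]; infer_instance
  have hcK : c ∈ K := by
    refine ⟨hc, ?_⟩
    have h1 : fq' q G ≤ Subgroup.centralizer ((Subgroup.zpowers c : Subgroup G) : Set G) := by
      unfold fq'
      apply iSup₂_le
      intro p hp
      rw [Subgroup.le_centralizer_iff, Subgroup.zpowers_le]
      exact mem_centralizer_of_qElement hg hq hc hca p.2 hp
    have h2 := Subgroup.le_centralizer_iff.1 h1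
    exact h2 (Subgroup.mem_zpowers c)
  have hnil : Group.IsNilpotent K := by
    apply isNilpotent_of_central (q := q) K (K ⊓ fq' q G)
    · intro a ha
      rw [Subgroup.mem_centralizer_iff]
      intro k hk
      exact ((Subgroup.mem_centralizer_iff.1 hk.2) a ha.2).symm
    · intro k hk
      obtain ⟨j₁, hj₁⟩ := (hg q hq).1 k hk.1
      have hzK : k ^ (q ^ j₁) ∈ K := K.pow_mem hk _
      have hzF : k ^ (q ^ j₁) ∈ Subgroup.centralizer ((fittingSubgroup G : Subgroup G) : Set G) := by
        have h1 : pCore q G ⊔ fq' q G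
            ≤ Subgroup.centralizer ((Subgroup.zpowers (k ^ (q ^ j₁)) : Subgroup G) : Set G) := by
          apply sup_le
          · rw [Subgroup.le_centralizer_iff, Subgroup.zpowers_le]; exact hj₁
          · rw [Subgroup.le_centralizer_iff, Subgroup.zpowers_le]; exact hzK.2
        have h2 := Subgroup.le_centralizer_iff.1 ((fitting_le_sup q).trans h1)
        exact h2 (Subgroup.mem_zpowers _)
      have hzF' : k ^ (q ^ j₁) ∈ pCore q G ⊔ fq' q G :=
        fitting_le_sup q (Cfsg.Agent.Lib.Helper13.centralizer_fittingSubgroup_le hzF)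
      have hmem : k ^ (q ^ j₁) ∈ ((pCore q G ⊔ fq' q G : Subgroup G) : Set G) := hzF'
      rw [Subgroup.mul_normal] at hmem
      obtain ⟨u, hu, v, hv, huv⟩ := Set.mem_mul.1 hmem
      obtain ⟨i, hi⟩ := (Cfsg.Agent.Lib.Helper01.pCore_isPGroup q) ⟨u, hu⟩
      have hui : u ^ (q ^ i) = 1 := by simpa using congrArg Subtype.val hi
      refine ⟨j₁ + i, ?_⟩
      have hpow : k ^ (q ^ (j₁ + i)) = (k ^ (q ^ j₁)) ^ (q ^ i) := by rw [pow_add, pow_mul]
      rw [hpow]
      refine ⟨K.pow_mem hzK _, ?_⟩
      change (k ^ (q ^ j₁)) ^ (q ^ i) ∈ fq' q G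
      rw [← QuotientGroup.eq_one_iff]
      have h3 : ((k ^ (q ^ j₁) : G) : G ⧸ fq' q G) = (u : G ⧸ fq' q G) := by
        rw [← huv, QuotientGroup.mk_mul, (QuotientGroup.eq_one_iff v).2 hv, mul_one]
      rw [QuotientGroup.mk_pow, h3, ← QuotientGroup.mk_pow, hui]
      rfl
  exact (Cfsg.Agent.Lib.Helper13.le_fittingSubgroup K hKn hnil) hcK

/-- `G' ≤ F(G)`. -/
theorem commutator_le_fitting [Group.IsSolvable G] (hg : Good G) :
    commutator G ≤ fittingSubgroup G := by
  by_contra hle
  have hMtop : (fittingSubgroup G).subgroupOf (commutator G) ≠ ⊤ := by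
    intro h
    apply hle
    rwa [Subgroup.subgroupOf_eq_top] at h
  have hidx : ((fittingSubgroup G).subgroupOf (commutator G)).index ≠ 1 := by
    rwa [Ne, Subgroup.index_eq_one]
  obtain ⟨q, hq, hqd⟩ := Nat.exists_prime_and_dvd hidx
  have : Fact q.Prime := ⟨hq⟩
  obtain Q : Sylow q (commutator G) := default
  have hQM : (Q : Subgroup (commutator G)) ≤ (fittingSubgroup G).subgroupOf (commutator G) := by
    intro x hx
    obtain ⟨a, ha⟩ := Q.2 ⟨x, hx⟩
    have hxa : (x : G) ^ (q ^ a) = 1 := by
      have := congrArg (fun y : (Q : Subgroup (commutator G)) => ((y : commutator G) : G)) ha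
      simpa using this
    rw [Subgroup.mem_subgroupOf]
    exact qElement_mem_fitting hg hq x.2 hxa
  have := Subgroup.index_dvd_of_le hQM
  exact Q.not_dvd_index (hqd.trans this)

/-- `G'` is nilpotent. -/
theorem commutator_isNilpotent [Group.IsSolvable G] (hg : Good G) :
    Group.IsNilpotent (commutator G) := by
  have hle := commutator_le_fitting hg
  have : Group.IsNilpotent (fittingSubgroup G) := Cfsg.Agent.Lib.Helper01.fitting_isNilpotent
  exact Group.nilpotent_of_mulEquiv (Subgroup.subgroupOfEquivOfLe hle)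

/-- characteristic subgroups of a Sylow subgroup `S` contained in `S'` are normal in `G`. -/
theorem char_normal [Group.IsSolvable G] (hg : Good G) (q : ℕ) [Fact q.Prime] (S : Sylow q G)
    (T : Subgroup ↥(S : Subgroup G)) (hT : T.Characteristic)
    (hle : T.map (S : Subgroup G).subtype ≤ ⁅(S : Subgroup G), (S : Subgroup G)⁆) :
    (T.map (S : Subgroup G).subtype).Normal := by
  have hq : q.Prime := Fact.out
  rw [← Subgroup.normalizer_eq_top_iff]
  -- (a) `N_G(S) ≤ N_G(T₀)`
  have hconj : ∀ n ∈ Subgroup.normalizer ((S : Subgroup G) : Set G),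
      ∀ t ∈ T.map (S : Subgroup G).subtype, n * t * n⁻¹ ∈ T.map (S : Subgroup G).subtype := by
    intro n hn t ht
    obtain ⟨t', ht', rfl⟩ := ht
    have h1 : T.map (Rank2Amb.conjHom (S : Subgroup G)
        (Subgroup.normalizer ((S : Subgroup G) : Set G)) le_rfl ⟨n, hn⟩).toMonoidHom = T :=
      Subgroup.characteristic_iff_map_eq.1 hT _
    have h2 : (Rank2Amb.conjHom (S : Subgroup G)
        (Subgroup.normalizer ((S : Subgroup G) : Set G)) le_rfl ⟨n, hn⟩) t' ∈ T := by
      have := Subgroup.mem_map_of_mem (Rank2Amb.conjHom (S : Subgroup G)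
        (Subgroup.normalizer ((S : Subgroup G) : Set G)) le_rfl ⟨n, hn⟩).toMonoidHom ht'
      rw [h1] at this
      exact this
    exact ⟨_, h2, rfl⟩
  have ha : Subgroup.normalizer ((S : Subgroup G) : Set G)
      ≤ Subgroup.normalizer ((T.map (S : Subgroup G).subtype : Subgroup G) : Set G) := by
    intro n hn
    rw [Subgroup.mem_normalizer_iff]
    intro h
    constructor
    · intro hh; exact hconj n hn h hh
    · intro hh
      have := hconj n⁻¹ (Subgroup.inv_mem _ hn) _ hh
      simpa [mul_assoc] using this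
  -- (b) `F ≤ N_G(T₀)`
  have hb : fittingSubgroup G
      ≤ Subgroup.normalizer ((T.map (S : Subgroup G).subtype : Subgroup G) : Set G) := by
    rw [Cfsg.Agent.Lib.Helper01.fitting_eq_iSup_pCore]
    apply iSup_le
    intro r
    by_cases hrq : (r : ℕ) = q
    · have h1 : pCore (r : ℕ) G ≤ (S : Subgroup G) := by
        rw [hrq]; exact Cfsg.Agent.Lib.Helper01.pCore_le_sylow S
      exact h1.trans (Subgroup.le_normalizer.trans ha)
    · have h1 : T.map (S : Subgroup G).subtype
          ≤ Subgroup.centralizer ((pCore (r : ℕ) G : Subgroup G) : Set G) := by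
        intro t ht
        have htS : t ∈ (S : Subgroup G) := (Subgroup.map_subtype_le T) ht
        obtain ⟨a, ha'⟩ := S.2 ⟨t, htS⟩
        have hta : t ^ (q ^ a) = 1 := by simpa using congrArg Subtype.val ha'
        have htD : t ∈ commutator G := by
          rw [commutator_def]
          exact Subgroup.commutator_mono le_top le_top (hle ht)
        exact mem_centralizer_of_qElement hg hq htD hta r.2 hrq
      have h2 := Subgroup.le_centralizer_iff.1 h1
      exact h2.trans (Subgroup.centralizer_le_normalizer _)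
  -- (c) Frattini argument
  have hL : ((S : Subgroup G) ⊔ fittingSubgroup G).Normal := by
    constructor
    intro x hx g
    have h3 : g * x * g⁻¹ * x⁻¹ ∈ commutator G := by
      rw [commutator_def]
      exact Subgroup.commutator_mem_commutator (Subgroup.mem_top g) (Subgroup.mem_top x)
    have h4 : g * x * g⁻¹ * x⁻¹ ∈ (S : Subgroup G) ⊔ fittingSubgroup G :=
      (le_sup_right : fittingSubgroup G ≤ (S : Subgroup G) ⊔ fittingSubgroup G)
        (commutator_le_fitting hg h3)
    have := Subgroup.mul_mem _ h4 hx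
    simpa using this
  have hfr := Sylow.normalizer_sup_eq_top' S
    (le_sup_left : (S : Subgroup G) ≤ (S : Subgroup G) ⊔ fittingSubgroup G)
  rw [eq_top_iff, ← hfr]
  exact sup_le ha (sup_le (Subgroup.le_normalizer.trans ha) hb)

/-- for every `p` there is a characteristic Hall subgroup for the primes exceeding `p`. -/
theorem exists_char_hall [Group.IsSolvable G] (hg : Good G) (p : ℕ) :
    ∃ N : Subgroup G, N.Characteristic ∧ IsPiHall {q | q.Prime ∧ p < q} N := by
  obtain ⟨m, k, hmk, hcop, hm, hk⟩ :=
    Cfsg.Agent.Lib.Helper32.exists_pi_decomp {q | q.Prime ∧ p < q} (Nat.card G) Nat.card_pos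
  obtain ⟨⟨H, hH⟩, -, -⟩ := Cfsg.Agent.Lib.Helper01.hallProp (G := G) m k hmk hcop
  have hidx : H.index = k := by
    have h1 := Subgroup.card_mul_index H
    rw [hH, hmk] at h1
    have hmpos : 0 < m := by
      rcases Nat.eq_zero_or_pos m with h0 | h0
      · rw [h0, zero_mul] at hmk; exact absurd hmk (Nat.card_pos).ne'
      · exact h0
    exact Nat.eq_of_mul_eq_mul_left hmpos h1
  have hord : ∀ h ∈ H, orderOf h ∣ m := by
    intro h hh
    rw [← hH, ← Subgroup.orderOf_mk h hh]
    exact orderOf_dvd_natCard _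
  have hF : fittingSubgroup G ≤ Subgroup.normalizer (H : Set G) := by
    rw [Cfsg.Agent.Lib.Helper01.fitting_eq_iSup_pCore]
    apply iSup_le
    intro r
    by_cases hr : p < (r : ℕ)
    · have hn : (pCore (r : ℕ) G).Normal := Cfsg.Agent.Lib.Helper01.pCore_normal _
      have : Fact (r : ℕ).Prime := ⟨r.2⟩
      have h1 : Nat.card (pCore (r : ℕ) G) ∣ m := by
        obtain ⟨a, ha⟩ := (Cfsg.Agent.Lib.Helper01.pCore_isPGroup (G := G) (r : ℕ)).exists_card_eq
        have h2 : Nat.card (pCore (r : ℕ) G) ∣ m * k := by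
          rw [← hmk]; exact Subgroup.card_subgroup_dvd_card _
        have h3 : (Nat.card (pCore (r : ℕ) G)).Coprime k := by
          rw [ha]
          apply Nat.Coprime.pow_left
          rw [Nat.Prime.coprime_iff_not_dvd r.2]
          intro hd
          exact hk r r.2 hd ⟨r.2, hr⟩
        exact h3.dvd_of_dvd_mul_right h2
      exact (Cfsg.Agent.Lib.Helper01.normal_le_of_card_dvd _ H m k hmk hcop hH h1).trans
        Subgroup.le_normalizer
    · have h1 : H ≤ Subgroup.centralizer ((pCore (r : ℕ) G : Subgroup G) : Set G) := by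
        intro h hh
        apply (hg r r.2).2 h
        intro q' hq' hq'd
        have := (hm q' hq' (hq'd.trans (hord h hh))).2
        omega
      exact (Subgroup.le_centralizer_iff.1 h1).trans (Subgroup.centralizer_le_normalizer _)
  have hcopH : ∀ x : G, orderOf x ∣ m → (orderOf x).Coprime H.index := by
    intro x hx
    rw [hidx]
    exact Nat.Coprime.coprime_dvd_left hx hcop
  have hHn : H.Normal := by
    constructor
    intro h hh g
    apply mem_of_mem_normalizer_of_coprime H
    · have h3 : g * h * g⁻¹ * h⁻¹ ∈ commutator G := by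
        rw [commutator_def]
        exact Subgroup.commutator_mem_commutator (Subgroup.mem_top g) (Subgroup.mem_top h)
      have h4 := hF (commutator_le_fitting hg h3)
      have := Subgroup.mul_mem _ h4 (Subgroup.le_normalizer hh)
      simpa using this
    · apply hcopH
      have : orderOf (g * h * g⁻¹) = orderOf h := by
        have := (MulAut.conj g).orderOf_eq h
        simpa [MulAut.conj_apply] using this
      rw [this]; exact hord h hh
  refine ⟨H, ?_, ?_, ?_⟩
  · rw [Subgroup.characteristic_iff_map_le]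
    intro φ y hy
    obtain ⟨h, hh, rfl⟩ := hy
    apply mem_of_mem_normalizer_of_coprime H
    · rw [Subgroup.normalizer_eq_top_iff.2 hHn]; exact Subgroup.mem_top _
    · apply hcopH
      have : orderOf (φ.toMonoidHom h) = orderOf h := φ.orderOf_eq h
      rw [this]; exact hord h hh
  · intro q' hq' hq'd
    rw [hH] at hq'd
    exact hm q' hq' hq'd
  · intro q' hq' hq'π hq'd
    rw [hidx] at hq'd
    exact hk q' hq' hq'd hq'π

end main

/-- the `p`-rank bound passes to the domain of an injective homomorphism. -/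
theorem pRankLE_of_injective {H K : Type*} [Group H] [Group K] (p k : ℕ) (f : H →* K)
    (hf : Function.Injective f) (h : PRankLE p k K) : PRankLE p k H := by
  intro A hAc hAe
  have hcard : Nat.card (A.map f) = Nat.card A := Subgroup.card_map_of_injective hf
  rw [← hcard]
  apply h (A.map f)
  · exact inferInstance
  · rintro _ ⟨a, ha, rfl⟩
    rw [← map_pow, hAe a ha, map_one]

/-- the rank hypothesis gives the abstract hypothesis `Good`. -/
theorem good_of_rank {G : Type u} [Group G] [Finite G] [Group.IsSolvable G]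
    (hodd : Odd (Nat.card G)) (hr : RankLE 2 G ∨ RankLE 2 (fittingSubgroup G)) : Good G := by
  intro p hp
  have : Fact p.Prime := ⟨hp⟩
  have hRp : IsPGroup p (pCore p G) := Cfsg.Agent.Lib.Helper01.pCore_isPGroup p
  have hRn : (pCore p G).Normal := Cfsg.Agent.Lib.Helper01.pCore_normal p
  by_cases hp2 : p = 2
  · have hbot : pCore p G = ⊥ := by
      obtain ⟨a, ha⟩ := hRp.exists_card_eq
      have hd : p ^ a ∣ Nat.card G := ha ▸ Subgroup.card_subgroup_dvd_card _
      have ha0 : a = 0 := by
        by_contra h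
        have h2 : 2 ∣ Nat.card G := by
          rw [← hp2]
          exact (dvd_pow_self p h).trans hd
        obtain ⟨c, hc⟩ := hodd
        omega
      rw [ha0, pow_zero] at ha
      exact Subgroup.card_eq_one.1 ha
    have htop : Subgroup.centralizer ((pCore p G : Subgroup G) : Set G) = ⊤ := by
      rw [hbot]
      ext x
      simp [Subgroup.mem_centralizer_iff]
    rw [htop]
    exact ⟨fun c _ => ⟨0, Subgroup.mem_top _⟩, fun x _ => Subgroup.mem_top _⟩
  · have hrR : PRankLE p 2 (pCore p G) := by
      rcases hr with hr | hr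
      · exact Rank2Aut.pRankLE_subgroup _ (hr p hp)
      · have hle : pCore p G ≤ fittingSubgroup G := Cfsg.Agent.Lib.Helper01.pCore_le_fitting p
        exact pRankLE_of_injective p 2 (Subgroup.inclusion hle) (Subgroup.inclusion_injective hle)
          (hr p hp)
    have hA : (⊤ : Subgroup G) ≤ Subgroup.normalizer ((pCore p G : Subgroup G) : Set G) := by
      rw [Subgroup.normalizer_eq_top]
    have hAs : Group.IsSolvable (⊤ : Subgroup G) :=
      Group.isSolvable_of_isSolvable_injective (f := (⊤ : Subgroup G).subtype)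
        (Subgroup.subtype_injective _)
    have hAodd : Odd (Nat.card (⊤ : Subgroup G)) := by rw [Subgroup.card_top]; exact hodd
    obtain ⟨h1, h2⟩ := Rank2Amb.ambient hp2 (pCore p G) ⊤ hRp hrR hA hAs hAodd
    exact ⟨fun c hc => h1 c hc, fun x hx => h2 x (Subgroup.mem_top x) hx⟩

end Cfsg.Agent.Lib.Helper26.Rank2Tower
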