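import Mathlib
import Cfsg.Agent.Lib.Helper26.NormalP3

set_option autoImplicit false
set_option linter.unusedSectionVars false

namespace Cfsg.Agent.Lib.Helper26

open Cfsg.Agent.Lib.Helper69
open scoped commutatorElement

section sup
variable {R : Type*} [Group R]

/-- The join of two commuting abelian subgroups is abelian. -/
theorem comm_sup (E H : Subgroup R) (hEcomm : ∀ a ∈ E, ∀ b ∈ E, a * b = b * a)
    (hHcomm : ∀ a ∈ H, ∀ b ∈ H, a * b = b * a) (hEH : ∀ a ∈ E, ∀ b ∈ H, a * b = b * a) :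
    ∀ a ∈ E ⊔ H, ∀ b ∈ E ⊔ H, a * b = b * a := by
  have h1 : ∀ a ∈ E ⊔ H, ∀ e ∈ E, a * e = e * a := by
    intro a ha e he
    have hle : E ⊔ H ≤ Subgroup.centralizer {e} := by
      refine sup_le ?_ ?_
      · intro x hx
        rw [Subgroup.mem_centralizer_singleton_iff]
        exact hEcomm x hx e he
      · intro x hx
        rw [Subgroup.mem_centralizer_singleton_iff]
        exact (hEH e he x hx).symm
    have := hle ha
    rwa [Subgroup.mem_centralizer_singleton_iff] at this
  have h2 : ∀ a ∈ E ⊔ H, ∀ h ∈ H, a * h = h * a := by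
    intro a ha h hh
    have hle : E ⊔ H ≤ Subgroup.centralizer {h} := by
      refine sup_le ?_ ?_
      · intro x hx
        rw [Subgroup.mem_centralizer_singleton_iff]
        exact hEH x hx h hh
      · intro x hx
        rw [Subgroup.mem_centralizer_singleton_iff]
        exact hHcomm x hx h hh
    have := hle ha
    rwa [Subgroup.mem_centralizer_singleton_iff] at this
  intro a ha b hb
  have hle : E ⊔ H ≤ Subgroup.centralizer {a} := by
    refine sup_le ?_ ?_
    · intro x hx
      rw [Subgroup.mem_centralizer_singleton_iff]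
      exact (h1 a ha x hx).symm
    · intro x hx
      rw [Subgroup.mem_centralizer_singleton_iff]
      exact (h2 a ha x hx).symm
  have := hle hb
  rw [Subgroup.mem_centralizer_singleton_iff] at this
  exact this.symm

/-- The join of two commuting abelian subgroups of exponent `p` has exponent `p`. -/
theorem exp_sup (p : ℕ) (E H : Subgroup R) (hEcomm : ∀ a ∈ E, ∀ b ∈ E, a * b = b * a)
    (hHcomm : ∀ a ∈ H, ∀ b ∈ H, a * b = b * a) (hEH : ∀ a ∈ E, ∀ b ∈ H, a * b = b * a)
    (hEexp : ∀ a ∈ E, a ^ p = 1) (hHexp : ∀ a ∈ H, a ^ p = 1) :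
    ∀ a ∈ E ⊔ H, a ^ p = 1 := by
  have hcomm := comm_sup E H hEcomm hHcomm hEH
  have hmul : ∀ x ∈ E ⊔ H, ∀ y ∈ E ⊔ H, x ^ p = 1 → y ^ p = 1 → (x * y) ^ p = 1 := by
    intro x hx y hy h1 h2
    have hc : Commute x y := hcomm x hx y hy
    rw [hc.mul_pow, h1, h2, one_mul]
  have hle : E ⊔ H ≤ omegaSub (E ⊔ H) p hmul := by
    refine sup_le ?_ ?_
    · intro x hx; exact ⟨le_sup_left (a := E) hx, hEexp x hx⟩
    · intro x hx; exact ⟨le_sup_right (b := H) hx, hHexp x hx⟩
  intro a ha
  exact (hle ha).2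

end sup

section z2
variable {R : Type*} [Group R] {p : ℕ} [hp : Fact p.Prime]

/-- In the second centre the elements of order dividing `p` are closed under products
(`p` odd). -/
theorem z2_hmul (hp2 : p ≠ 2) :
    ∀ x ∈ Subgroup.upperCentralSeries R 2, ∀ y ∈ Subgroup.upperCentralSeries R 2,
      x ^ p = 1 → y ^ p = 1 → (x * y) ^ p = 1 := by
  intro x hx y hy h1 h2
  have hy' : y⁻¹ ∈ Subgroup.upperCentralSeries R (1 + 1) := inv_mem hy
  have hc : (x * y)⁻¹ * (y * x) ∈ Subgroup.center R := by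
    have := (Subgroup.mem_upperCentralSeries_succ_iff.mp hy') x⁻¹
    rw [Subgroup.upperCentralSeries_one] at this
    have h3 : (x * y)⁻¹ * (y * x) = ⁅y⁻¹, x⁻¹⁆ := by
      rw [commutatorElement_def]; group
    rw [h3]; exact this
  have hcc : ∀ w : R, Commute ((x * y)⁻¹ * (y * x)) w := fun w =>
    ((Subgroup.mem_center_iff.mp hc) w).symm
  have hrel : y * x = x * y * ((x * y)⁻¹ * (y * x)) := by group
  have hcp : ((x * y)⁻¹ * (y * x)) ^ p = 1 := by
    have := pow_mul_comm_central x y _ hrel (hcc y) p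
    rw [h2, one_mul, mul_one] at this
    exact (mul_left_cancel (a := x) (by rw [mul_one]; exact this)).symm
  rw [mul_pow_prime_comm_central hp2 x y _ hrel (hcc x) (hcc y) hcp, h1, h2, one_mul]

/-- For `w` in the second centre with `w ^ p = 1`, the commutators `g w g⁻¹ w⁻¹` are central of
order dividing `p`. -/
theorem z2_comm_mem (w : R) (hw : w ∈ Subgroup.upperCentralSeries R 2) (hwp : w ^ p = 1) (g : R) :
    g * w * g⁻¹ * w⁻¹ ∈ Subgroup.center R ∧ (g * w * g⁻¹ * w⁻¹) ^ p = 1 := by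
  have hw' : w ∈ Subgroup.upperCentralSeries R (1 + 1) := hw
  have hc : g * w * g⁻¹ * w⁻¹ ∈ Subgroup.center R := by
    have := (Subgroup.mem_upperCentralSeries_succ_iff.mp hw') g
    rw [Subgroup.upperCentralSeries_one] at this
    have h3 : g * w * g⁻¹ * w⁻¹ = (⁅w, g⁆)⁻¹ := by
      rw [commutatorElement_def]; group
    rw [h3]; exact inv_mem this
  refine ⟨hc, ?_⟩
  have hcomm : Commute (g * w * g⁻¹ * w⁻¹) w := ((Subgroup.mem_center_iff.mp hc) w).symm
  have h1 : (g * w * g⁻¹ * w⁻¹ * w) ^ p = 1 := by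
    have : g * w * g⁻¹ * w⁻¹ * w = g * w * g⁻¹ := by group
    rw [this, conj_pow, hwp]; group
  rw [hcomm.mul_pow, hwp, mul_one] at h1
  exact h1

end z2

end Cfsg.Agent.Lib.Helper26
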