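/-
Keystone K-S1428-B (id 142822, architect helper31): CASE B of the closing argument of BG Lemma 13.4
(notes/BG13_4_closing_helper74.md): a rank-one centralizer leads to a contradiction via Lemma F.
-/
import Mathlib
import Cfsg.Agent.Lib.Helper31.BG134Defs2
import Cfsg.Agent.Lib.Helper31.BG12a
import Cfsg.Agent.Lib.Helper55.SylowIn
import Cfsg.Agent.Lib.Helper55.Uniq3
import Cfsg.Agent.Lib.Helper71.BG11a
import Cfsg.Agent.Lib.Helper71.BG10Sub
import Cfsg.Agent.Lib.Helper13.BG12A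
import Cfsg.Agent.Lib.Helper74.BGFrobF
import Cfsg.Agent.Lib.Helper41.BG134Z
import Cfsg.Agent.S1405

set_option autoImplicit false
set_option linter.unusedSectionVars false
set_option linter.unusedVariables false

namespace Cfsg.Agent.Lib.Helper26.BG134

open Cfsg Cfsg.Agent.Lib.Helper55 Cfsg.Agent.Lib.Helper31 Cfsg.Agent.Lib.Helper31.BG134
  Cfsg.Agent.Lib.Helper31.BG12 Cfsg.Agent.Lib.Helper71.BG10 Cfsg.Agent.Lib.Helper71.BG11

variable {G : Type*} [Group G] [Finite G]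

/-- the statement of keystone 142811 (INPUT Z) -/
def HypZ (G : Type*) [Group G] [Finite G] : Prop :=
  ∀ (_ : IsMinSimpleOddOrder G) {H : Subgroup G} (_ : IsCoatom H) {u : ℕ} (_ : u ∈ tau1 H)
    {U : Subgroup G} (_ : U ≤ H) (_ : Nat.card U = u) {p : ℕ} [Fact p.Prime] {S : Subgroup G}
    (_ : S ≤ alphaCore H) (_ : IsPGroup p S), IsCyclic ↥(S ⊓ Subgroup.centralizer (U : Set G))

/-- an elementary abelian `p`-subgroup of a cyclic group has order at most `p` -/
theorem card_le_of_le_cyclic {p : ℕ} (hp : p.Prime) {E S : Subgroup G} (hES : E ≤ S)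
    (hS : IsCyclic S) (hEp : ∀ a ∈ E, a ^ p = 1) : Nat.card E ≤ p := by
  have hEc : IsCyclic E := isCyclic_of_injective (Subgroup.inclusion hES)
    (Subgroup.inclusion_injective hES)
  obtain ⟨g, hg⟩ := hEc.exists_generator
  have h1 : orderOf g = Nat.card E := orderOf_eq_card_of_forall_mem_zpowers hg
  have h2 : g ^ p = 1 := Subtype.ext (by
    rw [Subgroup.coe_pow, Subgroup.coe_one]; exact hEp g g.2)
  have h3 : orderOf g ∣ p := orderOf_dvd_of_pow_eq_one h2
  rw [← h1]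
  exact Nat.le_of_dvd hp.pos h3

/-- CASE B, with INPUT Z as a hypothesis. -/
theorem caseB_of_Z (hZ : HypZ G) {M P R H : Subgroup G} {p r : ℕ} (c : Ctx M P R H p r)
    (hnc : ∀ g : G, cj g M ≠ H) (hr1 : r ∈ tau1 H) (hpα : p ∈ alpha H)
    {q : ℕ} [Fact q.Prime] {Q : Subgroup G} (hQC : Q ≤ CP M P) (hQq : IsPGroup q Q)
    (hQab : ∀ a ∈ Q, ∀ b ∈ Q, a * b = b * a) (hRQ : R ≤ Subgroup.normalizer (Q : Set G))
    (hfix : Q ⊓ Subgroup.centralizer (R : Set G) = ⊥) (hQ1 : Q ≠ ⊥)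
    (hrk : RankLE 1 ↥(alphaCore H ⊓ Subgroup.centralizer (Q : Set G))) : False := by
  have hG := c.hG
  have hM := c.hM
  have hH := c.hH
  have hp : p.Prime := c.hp.1
  have : Fact p.Prime := ⟨hp⟩
  have hq : q.Prime := Fact.out
  -- containments
  have hCN : Subgroup.centralizer (P : Set G) ≤ Subgroup.normalizer (P : Set G) :=
    Subgroup.centralizer_le_normalizer _
  have hPH : P ≤ H := Subgroup.le_normalizer.trans c.hNH
  have hRH : R ≤ H := (c.hRP.trans hCN).trans c.hNH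
  have hQcP : Q ≤ Subgroup.centralizer (P : Set G) := hQC.trans inf_le_right
  have hQH : Q ≤ H := (hQcP.trans hCN).trans c.hNH
  have hQσ : Q ≤ sigmaCore M := hQC.trans inf_le_left
  -- `q ∈ σ(M)`
  obtain ⟨n, hn⟩ := (IsPGroup.iff_card).1 hQq
  have hqQ : q ∣ Nat.card Q := by
    rcases Nat.eq_zero_or_pos n with rfl | hpos
    · exfalso
      apply hQ1
      rw [pow_zero] at hn
      exact Subgroup.card_eq_one.mp hn
    · rw [hn]; exact dvd_pow_self q hpos.ne'
  have hqσ : q ∈ sigma M := sigmaCore_pi hG hM hq (hqQ.trans (Subgroup.card_dvd_of_le hQσ))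
  have hnc' : ∀ g : G, cj g H ≠ M := by
    intro g hg
    apply hnc g⁻¹
    rw [← hg, cj_inv_cj]
  have hqα : q ∉ alpha H := fun h => alpha_sigma_disjoint hG hH hM hnc' h hqσ
  have hrα : r ∉ alpha H := by
    intro h
    apply h.2
    intro A hA hAr
    have h1 := hr1.2.2.2.2 A hA hAr
    calc Nat.card A ≤ r ^ 1 := h1
      _ ≤ r ^ 2 := Nat.pow_le_pow_right c.hr.pos (by norm_num)
  have hpσ : p ∉ sigma M := c.hp.2.1
  have hqp : q ≠ p := by rintro rfl; exact hpσ hqσ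
  have hrp : r ≠ p := by rintro rfl; exact hrα hpα
  have hp2 : p ≠ 2 := by
    rintro rfl
    have hodd := ms_odd hG P
    rw [c.hPc] at hodd
    exact absurd hodd (by decide)
  have hpQ : ¬ p ∣ Nat.card Q := by
    rw [hn]
    intro hd
    exact hqp ((Nat.prime_dvd_prime_iff_eq hp hq).1 (hp.dvd_of_dvd_pow hd)).symm
  have hP1 : P ≠ ⊥ := by
    rintro rfl
    have h1 := c.hPc
    rw [Subgroup.card_bot] at h1
    exact hp.one_lt.ne' h1.symm
  -- `Γ = Q R`
  set Γ : Subgroup G := Q ⊔ R with hΓ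
  have hΓH : Γ ≤ H := sup_le hQH hRH
  have hΓtop : Γ ≠ ⊤ := by
    intro h
    exact hH.1 (top_le_iff.mp (h ▸ hΓH))
  have hsolv : Group.IsSolvable Γ := ms_solvable hG hΓtop
  have hΓK : Γ ≤ Subgroup.normalizer (alphaCore H : Set G) :=
    hΓH.trans (le_normalizer_piCoreOf (alpha H) H)
  have hcop : (Nat.card Γ).Coprime (Nat.card (alphaCore H)) := by
    apply Nat.coprime_of_dvd
    intro k hk hkΓ hkα
    have hkα' : k ∈ alpha H := alphaCore_pi hk hkα
    have : Fact k.Prime := ⟨hk⟩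
    have hkq : k ≠ q := by rintro rfl; exact hqα hkα'
    have hkr : k ≠ r := by rintro rfl; exact hrα hkα'
    have hkQ : ¬ k ∣ Nat.card Q := by
      rw [hn]
      intro hd
      exact hkq ((Nat.prime_dvd_prime_iff_eq hk hq).1 (hk.dvd_of_dvd_pow hd))
    have hkR : ¬ k ∣ Nat.card R := by
      rw [c.hRc]
      intro hd
      exact hkr ((Nat.prime_dvd_prime_iff_eq hk c.hr).1 hd)
    exact Cfsg.Agent.Lib.Helper74.BGFrobF.not_dvd_card_sup Q R hRQ hkQ hkR hkΓ
  have hHall := Cfsg.Agent.S1405.result hG H hH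
  have hKidx : ¬ p ∣ (alphaCore H).index := hHall.2.1.2 p hp hpα
  have hPα : P ≤ alphaCore H := by
    refine le_of_isPiHallOf_normal hHall.1 (le_normalizer_piCoreOf (alpha H) H) hPH ?_
    intro s hs hsd
    rw [c.hPc] at hsd
    have := (Nat.prime_dvd_prime_iff_eq hs hp).1 hsd
    rw [this]; exact hpα
  have hPp : IsPGroup p P := IsPGroup.of_card (n := 1) (by rw [c.hPc, pow_one])
  have hΓP : Γ ≤ Subgroup.normalizer (P : Set G) := (sup_le hQcP c.hRP).trans hCN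
  obtain ⟨S, hPS, hSα, hΓS, hSsyl, -⟩ :=
    exists_inv_sylow_ge hsolv hΓK hcop hKidx hPα hPp hΓP
  -- `S` is not cyclic
  have hSnc : ¬ IsCyclic S := by
    intro hcyc
    obtain ⟨E, hEH, hEc, hEp, hE3⟩ := not_pRankLE_sub_iff.mp hpα.2
    obtain ⟨k, -, hk⟩ := hSsyl.exists_conj_le (le_top : E ≤ ⊤) (isPGroup_of_pow_eq_one hEp)
    have h1 := card_le_of_le_cyclic hp hk hcyc (exp_cj k hEp)
    rw [card_cj] at h1
    have h2 : p < p ^ 2 := by
      have := hp.one_lt
      nlinarith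
    omega
  -- Lemma F
  have hCQ : IsCyclic ↥(S ⊓ Subgroup.centralizer (Q : Set G)) :=
    Cfsg.Agent.Lib.Helper13.BG12.isCyclic_of_pRankLE_one hp2 (hrk p hp)
      (inf_le_inf_right _ hSα) (hSsyl.2.1.to_le inf_le_left)
  apply hSnc
  refine Cfsg.Agent.Lib.Helper74.BGFrobF.isCyclic_of_frobenius_family (ι := Unit) S P
    (fun _ => Q) (fun _ => R) hSsyl.2.1 (fun _ => hQab) (fun _ => hpQ)
    (fun _ => ⟨by rw [c.hRc]; exact c.hr, by rw [c.hRc]; exact hrp⟩) (fun _ => hRQ)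
    (fun _ => hfix) (fun _ => le_sup_left.trans hΓS) (fun _ => le_sup_right.trans hΓS)
    (fun _ => by rw [iSup_const]; exact hRQ)
    (fun _ => hZ hG hH hr1 hRH c.hRc hSα hSsyl.2.1) (by rw [iSup_const]; exact hCQ) hP1 hPS
    (fun _ => hQcP) (fun _ => c.hRP)

/-- INPUT Z (keystone 142811, helper41) in the form used above -/
theorem hypZ : HypZ G := fun hG _ hH _ hu _ hUH hUc _ _ _ hS hSp =>
  Cfsg.Agent.Lib.Helper41.BG134.isCyclic_inf_centralizer_of_tau1 hG hH hu hUH hUc hS hSp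

/-- **KEYSTONE 142822  K-S1428-B** (CASE B of notes/BG13_4_closing_helper74.md). -/
theorem Ctx.caseB {M P R H : Subgroup G} {p r : ℕ} (c : Ctx M P R H p r)
    (hnc : ∀ g : G, cj g M ≠ H) (hr1 : r ∈ tau1 H) (hpα : p ∈ alpha H)
    {q : ℕ} [Fact q.Prime] {Q : Subgroup G} (hQC : Q ≤ CP M P) (hQq : IsPGroup q Q)
    (hQab : ∀ a ∈ Q, ∀ b ∈ Q, a * b = b * a) (hRQ : R ≤ Subgroup.normalizer (Q : Set G))
    (hfix : Q ⊓ Subgroup.centralizer (R : Set G) = ⊥) (hQ1 : Q ≠ ⊥)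
    (hrk : RankLE 1 ↥(alphaCore H ⊓ Subgroup.centralizer (Q : Set G))) : False :=
  caseB_of_Z hypZ c hnc hr1 hpα hQC hQq hQab hRQ hfix hQ1 hrk

end Cfsg.Agent.Lib.Helper26.BG134
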