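import Mathlib
import Cfsg.Prelude.Def_Blocks
import Cfsg.Agent.Lib.Helper01.CD3Defs
import Cfsg.Agent.Lib.Helper05.CharDecomp

/-!
# K-CD3 pack (S4460), leaf 446021 `key_core`: the key lemma, modulo purity

`key_core_of_pure`: the key lemma with the purity of products of irreducibles of the two coprime
degrees (leaf 446020 `mul_pure`) taken as a hypothesis.
-/

set_option autoImplicit false
set_option linter.unusedSectionVars false
set_option linter.unusedVariables false

namespace Cfsg.Agent.Lib.Helper26.CD3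

open Cfsg Cfsg.Agent.Lib.Helper01.CD3 Cfsg.Agent.Lib.Helper05
open scoped ComplexConjugate

universe u

variable {G : Type u} [Group G] [Fintype G]

/-- adjointness of multiplication by a function and by its conjugate -/
theorem classInner_mul_conj_adj (θ ψ φ : G → ℂ) :
    classInner (θ * fun g => conj (ψ g)) φ = classInner θ (φ * ψ) := by
  unfold classInner
  congr 1
  refine Finset.sum_congr rfl fun g _ => ?_
  simp only [Pi.mul_apply, map_mul]
  ring

/-- the value at `1` of a character is its degree -/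
theorem apply_one_eq_charDegree {χ : G → ℂ} (hχ : IsCharacter G χ) :
    χ 1 = (charDegree χ : ℂ) := by
  obtain ⟨k, hk⟩ := exists_nat_degree hχ
  unfold charDegree
  rw [hk]
  simp

/-- all irreducible constituents of `α` have degree `m` -/
def TypeAt (m : ℕ) (α : G → ℂ) : Prop :=
  ∀ θ : G → ℂ, IsIrrCharacter G θ → classInner α θ ≠ 0 → charDegree θ = m

/-- the irreducibles `φ` of degree `m` such that `φ * ψ` has type `m` -/
def Bset (m : ℕ) (ψ : G → ℂ) : Set (G → ℂ) :=
  {φ | IsIrrCharacter G φ ∧ charDegree φ = m ∧ TypeAt m (φ * ψ)}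

theorem mul_mem_span_Bset {m n : ℕ} (hmn : m ≠ n) {ψ ψ' : G → ℂ} (hψ : IsIrrCharacter G ψ)
    (hψ' : ψ' = fun g => conj (ψ g))
    (hpure : ∀ θ : G → ℂ, IsIrrCharacter G θ → charDegree θ = m →
      TypeAt m (θ * ψ') ∨ TypeAt n (θ * ψ'))
    {φ : G → ℂ} (hφ : φ ∈ Bset m ψ) :
    φ * ψ ∈ Submodule.span ℂ (Bset m ψ') := by
  have : Finite (IrrCharacter G) := finite_irrCharacter
  have : Fintype (IrrCharacter G) := Fintype.ofFinite _
  have hchar : IsCharacter G (φ * ψ) :=
    isCharacter_mul (IsIrrCharacter.isCharacter hφ.1) (IsIrrCharacter.isCharacter hψ)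
  rw [eq_sum_classInner_smul hchar]
  refine Submodule.sum_mem _ fun θ _ => ?_
  by_cases h0 : classInner (φ * ψ) (θ : G → ℂ) = 0
  · rw [h0, zero_smul]
    exact Submodule.zero_mem _
  · refine Submodule.smul_mem _ _ (Submodule.subset_span ?_)
    have hdeg : charDegree (θ : G → ℂ) = m := hφ.2.2 θ θ.2 h0
    refine ⟨θ.2, hdeg, ?_⟩
    rcases hpure θ θ.2 hdeg with h | h
    · exact h
    · exfalso
      have hne : classInner ((θ : G → ℂ) * ψ') φ ≠ 0 := by
        rw [hψ', classInner_mul_conj_adj, ← classInner_conj_symm]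
        simpa using h0
      have := h φ hφ.1 hne
      exact hmn (hφ.2.1.symm.trans this)

theorem span_mul_le {m n : ℕ} (hmn : m ≠ n) {ψ ψ' : G → ℂ} (hψ : IsIrrCharacter G ψ)
    (hψ' : ψ' = fun g => conj (ψ g))
    (hpure : ∀ θ : G → ℂ, IsIrrCharacter G θ → charDegree θ = m →
      TypeAt m (θ * ψ') ∨ TypeAt n (θ * ψ'))
    {w : G → ℂ} (hw : w ∈ Submodule.span ℂ (Bset m ψ)) :
    w * ψ ∈ Submodule.span ℂ (Bset m ψ') := by
  induction hw using Submodule.span_induction with
  | mem x hx => exact mul_mem_span_Bset hmn hψ hψ' hpure hx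
  | zero => rw [zero_mul]; exact Submodule.zero_mem _
  | add x y _ _ hx hy => rw [add_mul]; exact Submodule.add_mem _ hx hy
  | smul a x _ hx => rw [smul_mul_assoc]; exact Submodule.smul_mem _ _ hx

theorem sum_eq_zero_of_mem_span {m : ℕ} (hm : 1 < m) {ψ : G → ℂ} {w : G → ℂ}
    (hw : w ∈ Submodule.span ℂ (Bset m ψ)) : ∑ g : G, w g = 0 := by
  induction hw using Submodule.span_induction with
  | mem x hx =>
    have hne : x ≠ fun _ => (1 : ℂ) := by
      intro h
      have h1 := hx.2.1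
      rw [h] at h1
      unfold charDegree at h1
      simp at h1
      omega
    have h0 := classInner_irr_ne hx.1 (isIrrCharacter_one (G := G)) hne
    unfold classInner at h0
    rcases mul_eq_zero.mp h0 with h | h
    · exact absurd (inv_eq_zero.mp h) card_ne_zero_complex
    · simpa using h
  | zero => simp
  | add x y _ _ hx hy => simp [Finset.sum_add_distrib, hx, hy]
  | smul a x _ hx => simp [← Finset.mul_sum, hx]

/-- one side of the key lemma -/
theorem key_side {m n : ℕ} (hm : 1 < m) (hmn : m ≠ n) {χ ψ : G → ℂ}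
    (hχ : IsIrrCharacter G χ) (hψ : IsIrrCharacter G ψ)
    (hχm : charDegree χ = m) (hψn : charDegree ψ = n)
    (hpure : ∀ θ ψ' : G → ℂ, IsIrrCharacter G θ → IsIrrCharacter G ψ' → charDegree θ = m →
      charDegree ψ' = n → TypeAt m (θ * ψ') ∨ TypeAt n (θ * ψ'))
    (htype : TypeAt m (χ * ψ))
    (hψZ : ∀ g : G, ‖ψ g‖ = (n : ℝ) → g = 1) : False := by
  classical
  set ψc : G → ℂ := fun g => conj (ψ g) with hψc_def
  have hψc : IsIrrCharacter G ψc := isIrrCharacter_conj hψ
  have hψcn : charDegree ψc = n := by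
    rw [← hψn]
    unfold charDegree
    simp [hψc_def]
  have hψψ : ψ = fun g => conj (ψc g) := by
    funext g
    simp [hψc_def]
  set W := Submodule.span ℂ (Bset m ψ) with hW
  set W' := Submodule.span ℂ (Bset m ψc) with hW'
  have h1 : ∀ w ∈ W, w * ψ ∈ W' := fun w hw =>
    span_mul_le hmn hψ rfl (fun θ hθ hd => hpure θ ψc hθ hψc hd hψcn) hw
  have h2 : ∀ w ∈ W', w * ψc ∈ W := fun w hw =>
    span_mul_le hmn hψc hψψ (fun θ hθ hd => hpure θ ψ hθ hψ hd hψn) hw
  set f : G → ℂ := ψ * ψc with hf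
  have h3 : ∀ w ∈ W, w * f ∈ W := fun w hw => by
    rw [hf, ← mul_assoc]
    exact h2 _ (h1 w hw)
  have h4 : ∀ (v : ℂ), ∀ w ∈ W, w * (f - fun _ => v) ∈ W := fun v w hw => by
    have : w * (f - fun _ => v) = w * f - v • w := by
      funext g
      simp only [Pi.mul_apply, Pi.sub_apply, Pi.smul_apply, smul_eq_mul]
      ring
    rw [this]
    exact Submodule.sub_mem _ (h3 w hw) (Submodule.smul_mem _ _ hw)
  have h5 : ∀ T : Finset ℂ, ∀ w ∈ W, w * ∏ v ∈ T, (f - fun _ => v) ∈ W := by
    intro T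
    induction T using Finset.induction_on with
    | empty => intro w hw; simpa using hw
    | insert a T ha ih =>
      intro w hw
      rw [Finset.prod_insert ha, ← mul_assoc]
      exact ih _ (h4 a w hw)
  have hχW : χ ∈ W := Submodule.subset_span ⟨hχ, hχm, htype⟩
  set S : Finset ℂ := (Finset.univ.image f).erase (f 1) with hS
  have hP := h5 S χ hχW
  have hsum := sum_eq_zero_of_mem_span hm hP
  -- values of f
  have hψ1 : ψ 1 = (n : ℂ) := by
    rw [apply_one_eq_charDegree (IsIrrCharacter.isCharacter hψ), hψn]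
  have hfval : ∀ g : G, f g = ((‖ψ g‖ ^ 2 : ℝ) : ℂ) := by
    intro g
    simp only [hf, hψc_def, Pi.mul_apply]
    rw [Complex.mul_conj, Complex.normSq_eq_norm_sq]
  have hfne : ∀ g : G, g ≠ 1 → f g ≠ f 1 := by
    intro g hg h
    rw [hfval, hfval] at h
    have h' : ‖ψ g‖ ^ 2 = ‖ψ 1‖ ^ 2 := Complex.ofReal_injective h
    have h'' : ‖ψ g‖ = ‖ψ 1‖ := by
      have := abs_eq_abs.mpr (sq_eq_sq_iff_eq_or_eq_neg.mp h' |>.imp id id)
      rwa [abs_of_nonneg (norm_nonneg _), abs_of_nonneg (norm_nonneg _)] at this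
    rw [hψ1, Complex.norm_natCast] at h''
    exact hg (hψZ g h'')
  have hPval : ∀ g : G, g ≠ 1 → (χ * ∏ v ∈ S, (f - fun _ => v)) g = 0 := by
    intro g hg
    rw [Pi.mul_apply, Finset.prod_apply]
    have hmem : f g ∈ S := by
      rw [hS, Finset.mem_erase]
      exact ⟨hfne g hg, Finset.mem_image_of_mem f (Finset.mem_univ g)⟩
    rw [Finset.prod_eq_zero hmem (by simp), mul_zero]
  rw [Finset.sum_eq_single (1 : G) (fun g _ hg => hPval g hg)
    (fun h => absurd (Finset.mem_univ _) h)] at hsum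
  rw [Pi.mul_apply, Finset.prod_apply] at hsum
  rcases mul_eq_zero.mp hsum with h | h
  · rw [apply_one_eq_charDegree (IsIrrCharacter.isCharacter hχ), hχm] at h
    have : (m : ℂ) ≠ 0 := by
      exact_mod_cast (by omega : m ≠ 0)
    exact this h
  · rw [Finset.prod_eq_zero_iff] at h
    obtain ⟨v, hv, hv0⟩ := h
    rw [hS, Finset.mem_erase] at hv
    simp only [Pi.sub_apply] at hv0
    exact hv.1 (sub_eq_zero.mp hv0).symm

/-- 446021 modulo purity (446020) -/
theorem key_core_of_pure {m n : ℕ} (hm : 1 < m) (hn : 1 < n) (hmn : Nat.Coprime m n)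
    (hpure : ∀ χ ψ : G → ℂ, IsIrrCharacter G χ → IsIrrCharacter G ψ → charDegree χ = m →
      charDegree ψ = n →
      (∀ φ : G → ℂ, IsIrrCharacter G φ → classInner (χ * ψ) φ ≠ 0 → charDegree φ = m) ∨
      (∀ φ : G → ℂ, IsIrrCharacter G φ → classInner (χ * ψ) φ ≠ 0 → charDegree φ = n))
    {χ ψ : G → ℂ}
    (hχ : IsIrrCharacter G χ) (hψ : IsIrrCharacter G ψ)
    (hχm : charDegree χ = m) (hψn : charDegree ψ = n)
    (hχZ : ∀ g : G, ‖χ g‖ = (m : ℝ) → g = 1) (hψZ : ∀ g : G, ‖ψ g‖ = (n : ℝ) → g = 1) : False := by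
  have hne : m ≠ n := by
    rintro rfl
    rw [Nat.coprime_self] at hmn
    omega
  rcases hpure χ ψ hχ hψ hχm hψn with h | h
  · exact key_side hm hne hχ hψ hχm hψn hpure h hψZ
  · refine key_side (m := n) (n := m) hn hne.symm hψ hχ hψn hχm ?_ ?_ hχZ
    · intro θ ψ' hθ hψ' hdθ hdψ'
      rcases hpure ψ' θ hψ' hθ hdψ' hdθ with h' | h'
      · right
        intro φ hφ hφ0
        exact h' φ hφ (by rwa [mul_comm])
      · left
        intro φ hφ hφ0
        exact h' φ hφ (by rwa [mul_comm])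
    · intro φ hφ hφ0
      exact h φ hφ (by rwa [mul_comm])

end Cfsg.Agent.Lib.Helper26.CD3
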