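import Mathlib
import Cfsg.Prelude.Def_Blocks
import Cfsg.Agent.Lib.Helper01.CD3Defs
import Cfsg.Agent.Lib.Helper82.CD3PURE
import Cfsg.Agent.Lib.Helper26.CD3KEYa

/-!
# K-CD3 pack (S4460), leaf 446021 `key_core`: the key lemma

Glue of `key_core_of_pure` (`CD3KEYa`) with the purity leaf 446020 (`Helper82.CD3.mul_pure`).
-/

set_option autoImplicit false
set_option linter.unusedSectionVars false
set_option linter.unusedVariables false

namespace Cfsg.Agent.Lib.Helper26.CD3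

open Cfsg Cfsg.Agent.Lib.Helper01.CD3

universe u

/-- 446021 K-CD3-KEY: the key lemma (helper22 / helper1): no pair of irreducibles of the two coprime
degrees can both have trivial "centre" `{g | ‖χ g‖ = χ 1}`. -/
theorem key_core {G : Type u} [Group G] [Fintype G] {m n : ℕ} (hm : 1 < m) (hn : 1 < n)
    (hmn : Nat.Coprime m n) (hcd : ThreeDeg G m n) {χ ψ : G → ℂ}
    (hχ : IsIrrCharacter G χ) (hψ : IsIrrCharacter G ψ)
    (hχm : charDegree χ = m) (hψn : charDegree ψ = n)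
    (hχZ : ∀ g : G, ‖χ g‖ = (m : ℝ) → g = 1) (hψZ : ∀ g : G, ‖ψ g‖ = (n : ℝ) → g = 1) : False :=
  key_core_of_pure hm hn hmn
    (fun χ' ψ' hχ' hψ' h1 h2 =>
      Cfsg.Agent.Lib.Helper82.CD3.mul_pure hm hn hmn hcd hχ' hψ' h1 h2)
    hχ hψ hχm hψn hχZ hψZ

end Cfsg.Agent.Lib.Helper26.CD3
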