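import Cfsg.Agent.Lib.Helper26.QuadCWGroup
import Cfsg.Agent.Lib.Helper28.AxB
import Cfsg.Agent.Lib.Helper03.PGroupFrattini
import Cfsg.Agent.Lib.Helper66.AbelAct

set_option autoImplicit false

namespace Cfsg.Agent.Lib.Helper26

open scoped commutatorElement

section minconf
variable {X : Type*} [Group X] [Finite X]

omit [Finite X] in
/-- conjugation by an element commuting with `f` normalizes `centralizer {f}`. -/
theorem mem_normalizer_centralizer_singleton {d f : X} (hdf : Commute d f) :
    d ∈ Subgroup.normalizer ((Subgroup.centralizer ({f} : Set X) : Subgroup X) : Set X) := by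
  rw [Subgroup.mem_normalizer_iff]
  intro h
  simp only [Subgroup.mem_centralizer_singleton_iff]
  constructor
  · intro hh
    calc d * h * d⁻¹ * f = d * h * (d⁻¹ * f) := by group
      _ = d * h * (f * d⁻¹) := by rw [(hdf.inv_left).eq]
      _ = d * (h * f) * d⁻¹ := by group
      _ = d * (f * h) * d⁻¹ := by rw [hh]
      _ = (d * f) * h * d⁻¹ := by group
      _ = (f * d) * h * d⁻¹ := by rw [hdf.eq]
      _ = f * (d * h * d⁻¹) := by group
  · intro hh
    have h1 : d⁻¹ * (d * h * d⁻¹ * f) * d = d⁻¹ * (f * (d * h * d⁻¹)) * d := by rw [hh]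
    calc h * f = d⁻¹ * (d * h * d⁻¹ * (d * f * d⁻¹)) * d := by group
      _ = d⁻¹ * (d * h * d⁻¹ * f) * d := by rw [hdf.eq]; group
      _ = d⁻¹ * (f * (d * h * d⁻¹)) * d := h1
      _ = (d⁻¹ * f * d) * h := by group
      _ = f * h := by rw [show d⁻¹ * f * d = f from by rw [mul_assoc, ← hdf.eq]; group]

omit [Finite X] in
theorem mem_normalizer_inf {d : X} {A B : Subgroup X} (hA : d ∈ Subgroup.normalizer (A : Set X))
    (hB : d ∈ Subgroup.normalizer (B : Set X)) :
    d ∈ Subgroup.normalizer ((A ⊓ B : Subgroup X) : Set X) := by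
  rw [Subgroup.mem_normalizer_iff] at hA hB ⊢
  intro h
  rw [Subgroup.mem_inf, Subgroup.mem_inf, ← hA h, ← hB h]

omit [Finite X] in
theorem mem_normalizer_centralizer {d : X} {A : Subgroup X}
    (hA : d ∈ Subgroup.normalizer (A : Set X)) :
    d ∈ Subgroup.normalizer ((Subgroup.centralizer (A : Set X) : Subgroup X) : Set X) := by
  rw [Subgroup.mem_normalizer_iff] at hA ⊢
  intro h
  simp only [Subgroup.mem_centralizer_iff, SetLike.mem_coe]
  constructor
  · intro hh a ha
    have ha' : d⁻¹ * a * d ∈ A := by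
      rw [hA]; simpa [mul_assoc] using ha
    have := hh _ ha'
    calc a * (d * h * d⁻¹) = d * ((d⁻¹ * a * d) * h) * d⁻¹ := by group
      _ = d * (h * (d⁻¹ * a * d)) * d⁻¹ := by rw [this]
      _ = d * h * d⁻¹ * a := by group
  · intro hh a ha
    have ha' : d * a * d⁻¹ ∈ A := (hA a).mp ha
    have := hh _ ha'
    calc a * h = d⁻¹ * ((d * a * d⁻¹) * (d * h * d⁻¹)) * d := by group
      _ = d⁻¹ * ((d * h * d⁻¹) * (d * a * d⁻¹)) * d := by rw [this]
      _ = h * a := by group

/-- **Minimal configuration** (Hall–Higman reduction, invariant form).  Let `Q` be a `2`-subgroup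
normalized by `d`, `f` an element of odd order commuting with `d` and normalizing `Q`, not
centralizing `Q`, such that every proper `d`-invariant subgroup of `Q` is centralized by `f`.
Then `C = C_Q(f)` is central in `Q` and contains all squares of `Q`. -/
theorem minconf_central_sq {Q : Subgroup X} (hQ : IsPGroup 2 Q) {d f : X}
    (hdQ : d ∈ Subgroup.normalizer (Q : Set X)) (hdf : Commute d f)
    (hfQ : f ∈ Subgroup.normalizer (Q : Set X)) (hfo : Odd (orderOf f))
    (hQf : ¬ Q ≤ Subgroup.centralizer ({f} : Set X))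
    (hmin : ∀ R : Subgroup X, R ≤ Q → R ≠ Q → d ∈ Subgroup.normalizer (R : Set X) →
      R ≤ Subgroup.centralizer ({f} : Set X)) :
    (∀ c ∈ Q ⊓ Subgroup.centralizer ({f} : Set X), ∀ x ∈ Q, x * c = c * x) ∧
      ∀ x ∈ Q, x ^ 2 ∈ Q ⊓ Subgroup.centralizer ({f} : Set X) := by
  have : Fact (Nat.Prime 2) := ⟨Nat.prime_two⟩
  set C := Q ⊓ Subgroup.centralizer ({f} : Set X) with hCdef
  have hdC : d ∈ Subgroup.normalizer (C : Set X) :=
    mem_normalizer_inf hdQ (mem_normalizer_centralizer_singleton hdf)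
  constructor
  · -- centrality via the A × B lemma
    set D := Q ⊓ Subgroup.centralizer (C : Set X) with hDdef
    have hdD : d ∈ Subgroup.normalizer (D : Set X) :=
      mem_normalizer_inf hdQ (mem_normalizer_centralizer hdC)
    by_cases hDQ : D = Q
    · intro c hc x hx
      have hx' : x ∈ D := by rw [hDQ]; exact hx
      exact ((Subgroup.mem_centralizer_iff.mp hx'.2) c hc).symm
    · exfalso
      have hDf := hmin D inf_le_left hDQ hdD
      have hL : Helper28.PClosing 2 (Subgroup.zpowers f) := by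
        apply Helper28.pClosing_of_coprime
        intro x hx
        have h1 : orderOf x ∣ orderOf f := by
          obtain ⟨k, rfl⟩ := hx
          exact orderOf_dvd_of_pow_eq_one (by rw [← zpow_natCast, ← zpow_mul, mul_comm, zpow_mul,
            zpow_natCast, pow_orderOf_eq_one, one_zpow])
        have h2 : Odd (orderOf x) := hfo.of_dvd_nat h1
        exact h2.coprime_two_right
      have hLQ : Subgroup.zpowers f ≤ Subgroup.normalizer (Q : Set X) := by
        rw [Subgroup.zpowers_le]; exact hfQ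
      have hcomm : ∀ R : Subgroup X, R ≤ Subgroup.centralizer ({f} : Set X) →
          ⁅Subgroup.zpowers f, R⁆ = ⊥ := by
        intro R hR
        rw [eq_bot_iff, Subgroup.commutator_le]
        intro g hg r hr
        rw [Subgroup.mem_bot, commutatorElement_eq_one_iff_commute]
        obtain ⟨k, rfl⟩ := hg
        have : Commute r f := by
          have := Subgroup.mem_centralizer_singleton_iff.mp (hR hr)
          exact this
        exact (this.zpow_right k).symm
      have h1 := Helper28.pClosing_centralizes_pgroup (Subgroup.zpowers f) Q C hQ hL hLQ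
        inf_le_left (hcomm C inf_le_right) (hcomm D hDf)
      apply hQf
      intro x hx
      rw [Subgroup.mem_centralizer_singleton_iff]
      have : ⁅f, x⁆ ∈ ⁅Subgroup.zpowers f, Q⁆ :=
        Subgroup.commutator_mem_commutator (Subgroup.mem_zpowers f) hx
      rw [h1, Subgroup.mem_bot, commutatorElement_eq_one_iff_commute] at this
      exact this.eq.symm
  · -- squares via the Frattini subgroup
    set Φ := (frattini ↥Q).map Q.subtype with hΦ
    have hΦQ : Φ ≤ Q := by
      rintro _ ⟨y, _, rfl⟩; exact y.2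
    have hdΦ : d ∈ Subgroup.normalizer (Φ : Set X) :=
      Helper66.normalizer_le_normalizer_map_of_characteristic Q (frattini ↥Q) hdQ
    have hΦne : Φ ≠ Q := by
      intro h
      have h1 : frattini ↥Q = ⊤ := by
        rw [eq_top_iff]
        intro y _
        have : (y : X) ∈ Φ := by rw [h]; exact y.2
        obtain ⟨z, hz, hzy⟩ := this
        have : z = y := Subtype.ext hzy
        rw [← this]; exact hz
      have h2 : (⊥ : Subgroup ↥Q) = ⊤ := frattini_nongenerating (by rw [h1, sup_top_eq])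
      apply hQf
      intro x hx
      have : (⟨x, hx⟩ : ↥Q) ∈ (⊥ : Subgroup ↥Q) := by rw [h2]; exact Subgroup.mem_top _
      rw [Subgroup.mem_bot] at this
      have hx1 : x = 1 := congrArg Subtype.val this
      rw [hx1]; exact Subgroup.one_mem _
    have hΦf := hmin Φ hΦQ hΦne hdΦ
    intro x hx
    have h1 : (⟨x, hx⟩ : ↥Q) ^ 2 ∈ frattini ↥Q :=
      Helper03.pow_mem_frattini_of_isPGroup hQ ⟨x, hx⟩
    have h2 : x ^ 2 ∈ Φ := ⟨⟨x, hx⟩ ^ 2, h1, rfl⟩
    exact ⟨hΦQ h2, hΦf h2⟩

end minconf

section free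
variable {X : Type*} [Group X] [Finite X]

/-- A subgroup `E` normalizing `C ≤ Q` and acting freely (by conjugation) on `Q ∖ C` has order
dividing `|Q| - |C|`. -/
theorem card_dvd_card_sub_of_free (E Q C : Subgroup X) (hCQ : C ≤ Q)
    (hEQ : E ≤ Subgroup.normalizer (Q : Set X)) (hEC : E ≤ Subgroup.normalizer (C : Set X))
    (hfree : ∀ g ∈ E, g ≠ 1 → ∀ x ∈ Q, g * x = x * g → x ∈ C) :
    Nat.card E ∣ Nat.card Q - Nat.card C := by
  classical
  let Y : Set X := (Q : Set X) \ (C : Set X)
  have hsm : ∀ (g : E) (y : Y), (g : X) * (y : X) * (g : X)⁻¹ ∈ Y := by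
    intro g y
    refine ⟨?_, ?_⟩
    · exact (Subgroup.mem_normalizer_iff.mp (hEQ g.2) _).mp y.2.1
    · intro h
      exact y.2.2 ((Subgroup.mem_normalizer_iff.mp (hEC g.2) _).mpr h)
  let _inst : MulAction E Y :=
    { smul := fun g y => ⟨(g : X) * (y : X) * (g : X)⁻¹, hsm g y⟩
      one_smul := fun y => Subtype.ext (by show ((1 : E) : X) * (y : X) * ((1 : E) : X)⁻¹ = y; simp)
      mul_smul := fun g h y => Subtype.ext (by
        show ((g * h : E) : X) * (y : X) * ((g * h : E) : X)⁻¹ =
          (g : X) * ((h : X) * (y : X) * (h : X)⁻¹) * (g : X)⁻¹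
        simp [mul_assoc]) }
  have hstab : ∀ y : Y, MulAction.stabilizer E y = ⊥ := by
    intro y
    rw [eq_bot_iff]
    intro g hg
    rw [Subgroup.mem_bot]
    by_contra hne
    have h1 : (g : X) * (y : X) * (g : X)⁻¹ = (y : X) := congrArg Subtype.val hg
    have h2 : (g : X) * (y : X) = (y : X) * (g : X) := by
      calc (g : X) * (y : X) = (g : X) * (y : X) * (g : X)⁻¹ * (g : X) := by group
        _ = (y : X) * (g : X) := by rw [h1]
    exact y.2.2 (hfree g g.2 (fun h => hne (Subtype.ext h)) y y.2.1 h2)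
  have hcard : Nat.card Y = Nat.card (Quotient (MulAction.orbitRel E Y)) * Nat.card E := by
    rw [← Nat.card_prod]
    exact Nat.card_congr (MulAction.selfEquivOrbitsQuotientProd hstab)
  have hY : Nat.card Y = Nat.card Q - Nat.card C := by
    have h1 : Nat.card Y = Y.ncard := Nat.card_coe_set_eq Y
    have h2 : Nat.card Q = (Q : Set X).ncard := Nat.card_coe_set_eq (Q : Set X)
    have h3 : Nat.card C = (C : Set X).ncard := Nat.card_coe_set_eq (C : Set X)
    rw [h1, h2, h3]
    exact Set.ncard_sdiff (by exact_mod_cast hCQ) (Set.toFinite _)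
  rw [← hY, hcard]
  exact dvd_mul_left _ _

end free

section ambient
variable {X : Type*} [Group X] [Finite X]

/-- Ambient form of `exists_sq_eq_one_not_mem`: `C ≤ Q` subgroups of `X`, `C` central in `Q` and
containing all squares of `Q`; every exponent-2 subgroup of `C` has order at most `2 ^ l` and
`2 ^ (2 l) |C| < |Q|`.  Then `Q ∖ C` contains an element of order at most 2. -/
theorem exists_sq_eq_one_not_mem' (Q C : Subgroup X) (hCQ : C ≤ Q)
    (hcen : ∀ c ∈ C, ∀ x ∈ Q, x * c = c * x) (hsq : ∀ x ∈ Q, x ^ 2 ∈ C) (l : ℕ)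
    (hΩ : ∀ A : Subgroup X, A ≤ C → (∀ a ∈ A, a ^ 2 = 1) → Nat.card A ≤ 2 ^ l)
    (hidx : 2 ^ (2 * l) * Nat.card C < Nat.card Q) :
    ∃ x ∈ Q, x ∉ C ∧ x ^ 2 = 1 := by
  -- the subgroup of elements of `C` of order at most 2
  let A : Subgroup X :=
    { carrier := {x | x ∈ C ∧ x ^ 2 = 1}
      one_mem' := ⟨C.one_mem, one_pow 2⟩
      mul_mem' := by
        rintro a b ⟨ha, ha2⟩ ⟨hb, hb2⟩
        refine ⟨C.mul_mem ha hb, ?_⟩
        have hab : Commute a b := (hcen b hb a (hCQ ha))
        rw [hab.mul_pow, ha2, hb2, one_mul]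
      inv_mem' := by
        rintro a ⟨ha, ha2⟩
        exact ⟨C.inv_mem ha, by rw [inv_pow, ha2, inv_one]⟩ }
  have hA : Nat.card A ≤ 2 ^ l := hΩ A (fun a ha => ha.1) (fun a ha => ha.2)
  have hC' : C.subgroupOf Q ≤ Subgroup.center ↥Q := by
    intro c hc
    rw [Subgroup.mem_center_iff]
    intro g
    apply Subtype.ext
    exact hcen c hc g g.2
  have hsq' : ∀ x : ↥Q, x ^ 2 ∈ C.subgroupOf Q := fun x => hsq x x.2
  have hΩ' : Nat.card {c : ↥(C.subgroupOf Q) // c ^ 2 = 1} ≤ 2 ^ l := by
    refine le_trans (le_of_eq ?_) hA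
    apply Nat.card_congr
    refine
      { toFun := fun c => ⟨((c : ↥(C.subgroupOf Q)) : ↥Q), ⟨c.1.2, ?_⟩⟩
        invFun := fun a => ⟨⟨⟨a, hCQ a.2.1⟩, a.2.1⟩, ?_⟩
        left_inv := fun c => rfl
        right_inv := fun a => rfl }
    · have := c.2
      have h2 := congrArg (fun z : ↥(C.subgroupOf Q) => ((z : ↥Q) : X)) this
      simpa using h2
    · apply Subtype.ext
      apply Subtype.ext
      exact a.2.2
  have hidx' : 2 ^ (2 * l) < (C.subgroupOf Q).index := by
    have h1 : Nat.card (C.subgroupOf Q) * (C.subgroupOf Q).index = Nat.card Q :=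
      Subgroup.card_mul_index _
    have h2 : Nat.card (C.subgroupOf Q) = Nat.card C :=
      Nat.card_congr (Subgroup.subgroupOfEquivOfLe hCQ).toEquiv
    rw [h2] at h1
    rw [← h1, mul_comm] at hidx
    exact lt_of_mul_lt_mul_left hidx (Nat.zero_le _)
  obtain ⟨x, hxC, hx2⟩ := exists_sq_eq_one_not_mem (C.subgroupOf Q) hC' hsq' l hΩ' hidx'
  refine ⟨x, x.2, hxC, ?_⟩
  have := congrArg Subtype.val hx2
  simpa using this

end ambient

end Cfsg.Agent.Lib.Helper26
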