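import Mathlib
import Cfsg.Agent.S1350
import Cfsg.Agent.S1426
import Cfsg.Agent.S1430
import Cfsg.Agent.Lib.Helper55.Uniq2

/-!
# K-151-G (keystone 135508), part 0: the transfer of the CORE leaf to `X := ↥M`,
with the core statement (at `X := ↥M`) as a hypothesis.
-/

set_option autoImplicit false

namespace Cfsg.Agent.Lib.Helper26.BG151

open Cfsg

/-- The statement of leaf K-151-C (`core`) for a fixed group `X`. -/
def CoreStatement (X : Type*) [Group X] [Finite X] : Prop :=
  ∀ [Group.IsSolvable X] (_hodd : Odd (Nat.card X))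
    (H K : Subgroup X) [H.Normal] (_hHK : H ⊔ K = ⊤) (_hcop : (Nat.card H).Coprime (Nat.card K))
    (_hK1 : K ≠ ⊥)
    (_hprime : ∀ x ∈ K, x ≠ 1 →
      H ⊓ Subgroup.centralizer ({x} : Set X) = H ⊓ Subgroup.centralizer (K : Set X))
    (q : ℕ) (_hq : q.Prime) (_hC : Nat.card ↥(H ⊓ Subgroup.centralizer (K : Set X)) = q)
    (_hcomm : ⁅H, K⁆ = H) (_hnn : ¬ Group.IsNilpotent H),
    ∃ Q D : Subgroup X, Q.Normal ∧ IsPGroup q Q ∧ (Nat.card Q).Coprime Q.index ∧
      H ⊓ Subgroup.centralizer (K : Set X) ≤ Q ∧ Q ⊔ D = H ∧ Group.IsNilpotent D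

/-- membership in the centralizer of `K.subgroupOf M` inside `↥M`. -/
theorem mem_centralizer_subgroupOf_iff {G : Type*} [Group G] {M K : Subgroup G} (hKM : K ≤ M)
    (y : ↥M) :
    y ∈ Subgroup.centralizer ((K.subgroupOf M : Subgroup ↥M) : Set ↥M) ↔
      (y : G) ∈ Subgroup.centralizer (K : Set G) := by
  rw [Subgroup.mem_centralizer_iff, Subgroup.mem_centralizer_iff]
  constructor
  · intro h k hk
    have := h ⟨k, hKM hk⟩ (by simpa [Subgroup.mem_subgroupOf] using hk)
    simpa using congrArg Subtype.val this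
  · intro h k hk
    have hk' : (k : G) ∈ K := by simpa [Subgroup.mem_subgroupOf] using hk
    exact Subtype.ext (by simpa using h (k : G) hk')

/-- membership in the centralizer of a singleton inside `↥M`. -/
theorem mem_centralizer_singleton_subtype_iff {G : Type*} [Group G] {M : Subgroup G}
    (x y : ↥M) :
    y ∈ Subgroup.centralizer ({x} : Set ↥M) ↔
      (y : G) ∈ Subgroup.centralizer ({(x : G)} : Set G) := by
  rw [Subgroup.mem_centralizer_singleton_iff, Subgroup.mem_centralizer_singleton_iff]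
  constructor
  · intro h
    simpa using congrArg Subtype.val h
  · intro h
    exact Subtype.ext (by simpa using h)

/-- the image in `G` of `H ⊓ C(K')`. -/
theorem map_inf_centralizer_subgroupOf {G : Type*} [Group G] {M K : Subgroup G} (hKM : K ≤ M)
    (H : Subgroup ↥M) :
    (H ⊓ Subgroup.centralizer ((K.subgroupOf M : Subgroup ↥M) : Set ↥M)).map M.subtype =
      H.map M.subtype ⊓ Subgroup.centralizer (K : Set G) := by
  ext g
  constructor
  · rintro ⟨y, ⟨hyH, hyC⟩, rfl⟩
    exact ⟨⟨y, hyH, rfl⟩, (mem_centralizer_subgroupOf_iff hKM y).mp hyC⟩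
  · rintro ⟨⟨y, hyH, rfl⟩, hC⟩
    exact ⟨y, ⟨hyH, (mem_centralizer_subgroupOf_iff hKM y).mpr hC⟩, rfl⟩

/-- K-151-G with the core leaf as a hypothesis. -/
theorem structure_of_decomp_of_core {G : Type*} [Group G] [Finite G]
    (hG : IsMinSimpleOddOrder G) {M : Subgroup G} (hM : IsCoatom M)
    (hcore : CoreStatement ↥M) {K : Subgroup G}
    (hKU : IsSigmaDecomposition M K ⊥) (hK1 : K ≠ ⊥)
    (hpr : (Nat.card ↥(sigmaCore M ⊓ Subgroup.centralizer (K : Set G))).Prime)
    (hnn : ¬ Group.IsNilpotent (sigmaCore M)) :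
    ∃ Q D : Subgroup G, M ≤ Subgroup.normalizer (Q : Set G) ∧
      IsPGroup (Nat.card ↥(sigmaCore M ⊓ Subgroup.centralizer (K : Set G))) Q ∧
      (Nat.card Q).Coprime (Q.relIndex M) ∧
      sigmaCore M ⊓ Subgroup.centralizer (K : Set G) ≤ Q ∧ Q ⊔ D = sigmaCore M ∧
      Group.IsNilpotent D := by
  classical
  have hsol : Group.IsSolvable ↥M := Cfsg.Agent.Lib.Helper55.ms_solvable hG hM.1
  have hodd : Odd (Nat.card ↥M) := Cfsg.Agent.Lib.Helper55.ms_odd hG M
  have hKM : K ≤ M := hKU.hall.1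
  have h1350 := Cfsg.Agent.S1350.result hG M hM
  have hσM : sigmaCore M ≤ M := h1350.1.1
  set H : Subgroup ↥M := piCore (sigma M) ↥M with hH
  have hHmap : H.map M.subtype = sigmaCore M := rfl
  set K' : Subgroup ↥M := K.subgroupOf M with hK'
  have hK'map : K'.map M.subtype = K := Subgroup.map_subgroupOf_eq_of_le hKM
  have hinj : Function.Injective M.subtype := M.subtype_injective
  -- H ⊔ K' = ⊤
  have hMle : M ≤ K ⊔ sigmaCore M := by
    intro m hm
    obtain ⟨a, ha, b, hb, rfl⟩ := hKU.compl.2.2.2 m hm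
    rw [Subgroup.mem_bot] at ha
    rw [ha, one_mul]; exact hb
  have hHK : H ⊔ K' = ⊤ := by
    apply Subgroup.map_injective hinj
    rw [Subgroup.map_sup, hHmap, hK'map, ← MonoidHom.range_eq_map, Subgroup.range_subtype]
    exact le_antisymm (sup_le hσM hKM) (by rw [sup_comm]; exact hMle)
  -- coprimality
  have hcardH : Nat.card H = Nat.card (sigmaCore M) := by
    rw [← hHmap]; exact (Subgroup.card_map_of_injective hinj).symm
  have hcardK : Nat.card K' = Nat.card K := by
    rw [← hK'map]; exact (Subgroup.card_map_of_injective hinj).symm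
  have hcopG : (Nat.card (sigmaCore M)).Coprime (Nat.card K) := by
    apply Nat.coprime_of_dvd
    intro p hp hpσ hpK
    have h1 : p ∈ sigma M := h1350.1.2.1 p hp hpσ
    have h2 : p ∈ kappa M := hKU.hall.2.1 p hp hpK
    exact h2.2.2.1 h1
  have hcop : (Nat.card H).Coprime (Nat.card K') := by rw [hcardH, hcardK]; exact hcopG
  have hK'1 : K' ≠ ⊥ := by
    intro h
    apply hK1
    rw [← hK'map, h, Subgroup.map_bot]
  -- prime action
  have h1430 := (Cfsg.Agent.S1430.result hG M hM K hKU.hall hK1).1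
  have hprime : ∀ x ∈ K', x ≠ 1 →
      H ⊓ Subgroup.centralizer ({x} : Set ↥M) = H ⊓ Subgroup.centralizer (K' : Set ↥M) := by
    intro x hx hx1
    have hxK : (x : G) ∈ K := by simpa [hK', Subgroup.mem_subgroupOf] using hx
    have hx1' : (x : G) ≠ 1 := fun h => hx1 (Subtype.ext h)
    have key := h1430 (x : G) hxK hx1'
    ext y
    have hyH : y ∈ H ↔ (y : G) ∈ sigmaCore M := by
      rw [← hHmap]
      constructor
      · intro h; exact ⟨y, h, rfl⟩
      · rintro ⟨z, hz, hzy⟩
        have : z = y := Subtype.ext hzy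
        rwa [← this]
    rw [Subgroup.mem_inf, Subgroup.mem_inf, hyH, mem_centralizer_singleton_subtype_iff,
      mem_centralizer_subgroupOf_iff hKM]
    have := SetLike.ext_iff.mp key (y : G)
    rwa [Subgroup.mem_inf, Subgroup.mem_inf] at this
  -- the order of C
  have hCmap : (H ⊓ Subgroup.centralizer (K' : Set ↥M)).map M.subtype =
      sigmaCore M ⊓ Subgroup.centralizer (K : Set G) := by
    rw [hK', map_inf_centralizer_subgroupOf hKM, hHmap]
  have hC : Nat.card ↥(H ⊓ Subgroup.centralizer (K' : Set ↥M)) =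
      Nat.card ↥(sigmaCore M ⊓ Subgroup.centralizer (K : Set G)) := by
    rw [← hCmap]; exact (Subgroup.card_map_of_injective hinj).symm
  -- [H, K'] = H
  have hcompl : IsComplIn K (sigmaCore M) M := by
    refine ⟨hKM, hσM, ?_, ?_⟩
    · exact (Subgroup.disjoint_of_coprime_natCard (Nat.Coprime.symm hcopG)).eq_bot
    · intro m hm
      have hmem : (⟨m, hm⟩ : ↥M) ∈ ((K' ⊔ H : Subgroup ↥M) : Set ↥M) := by
        rw [sup_comm, hHK]; trivial
      rw [Subgroup.mul_normal] at hmem
      obtain ⟨k, hk, h, hh, hkh⟩ := hmem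
      refine ⟨(k : G), by simpa [hK', Subgroup.mem_subgroupOf] using hk, (h : G), ⟨h, hh, rfl⟩, ?_⟩
      have := congrArg Subtype.val hkh
      simpa using this.symm
  have h1426 := (Cfsg.Agent.S1426.result hG M hM K hcompl).2.1
  have hcomm : ⁅H, K'⁆ = H := by
    apply Subgroup.map_injective hinj
    rw [Subgroup.map_commutator, hHmap, hK'map]
    exact h1426
  have hnn' : ¬ Group.IsNilpotent H := by
    intro h
    apply hnn
    have e : H ≃* (sigmaCore M) := Subgroup.equivMapOfInjective H M.subtype hinj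
    exact (Group.isNilpotent_congr e).mp h
  obtain ⟨Q', D', hQ'n, hQ'p, hQ'c, hCQ', hQD', hD'⟩ :=
    hcore hodd H K' hHK hcop hK'1 hprime _ hpr hC hcomm hnn'
  refine ⟨Q'.map M.subtype, D'.map M.subtype, ?_, ?_, ?_, ?_, ?_, ?_⟩
  · intro m hm
    rw [Subgroup.mem_normalizer_iff]
    intro g
    constructor
    · rintro ⟨y, hy, rfl⟩
      exact ⟨⟨m, hm⟩ * y * ⟨m, hm⟩⁻¹, hQ'n.conj_mem y hy ⟨m, hm⟩, by simp⟩
    · rintro ⟨y, hy, hyg⟩
      refine ⟨⟨m, hm⟩⁻¹ * y * ⟨m, hm⟩, ?_, ?_⟩
      · have := hQ'n.conj_mem y hy (⟨m, hm⟩⁻¹)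
        simpa using this
      · have h2 : (y : G) = m * g * m⁻¹ := hyg
        simp [h2, mul_assoc]
  · exact hQ'p.map M.subtype
  · have h1 : Nat.card (Q'.map M.subtype) = Nat.card Q' := Subgroup.card_map_of_injective hinj
    have h2 : (Q'.map M.subtype).relIndex M = Q'.index := by
      unfold Subgroup.relIndex
      congr 1
      ext y
      rw [Subgroup.mem_subgroupOf]
      constructor
      · rintro ⟨z, hz, hzy⟩
        have : z = y := Subtype.ext hzy
        rwa [← this]
      · intro h; exact ⟨y, h, rfl⟩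
    rw [h1, h2]; exact hQ'c
  · rw [← hCmap]; exact Subgroup.map_mono hCQ'
  · rw [← Subgroup.map_sup, hQD', hHmap]
  · have e : D' ≃* (D'.map M.subtype) := Subgroup.equivMapOfInjective D' M.subtype hinj
    exact (Group.isNilpotent_congr e).mp hD'

end Cfsg.Agent.Lib.Helper26.BG151
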