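import Mathlib
import Cfsg.Agent.Lib.Helper26.BG151G0
import Cfsg.Agent.Lib.Helper01.BG151C

/-!
# K-151-G (keystone 135508): `structure_of_decomp`, the transfer of the CORE leaf to `X := ↥M`.
-/

set_option autoImplicit false

namespace Cfsg.Agent.Lib.Helper26.BG151

open Cfsg

/-- K-151-G (transfer of CORE to `M`) -/
theorem structure_of_decomp {G : Type*} [Group G] [Finite G]
    (hG : IsMinSimpleOddOrder G) {M : Subgroup G} (hM : IsCoatom M) {K : Subgroup G}
    (hKU : IsSigmaDecomposition M K ⊥) (hK1 : K ≠ ⊥)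
    (hpr : (Nat.card ↥(sigmaCore M ⊓ Subgroup.centralizer (K : Set G))).Prime)
    (hnn : ¬ Group.IsNilpotent (sigmaCore M)) :
    ∃ Q D : Subgroup G, M ≤ Subgroup.normalizer (Q : Set G) ∧
      IsPGroup (Nat.card ↥(sigmaCore M ⊓ Subgroup.centralizer (K : Set G))) Q ∧
      (Nat.card Q).Coprime (Q.relIndex M) ∧
      sigmaCore M ⊓ Subgroup.centralizer (K : Set G) ≤ Q ∧ Q ⊔ D = sigmaCore M ∧
      Group.IsNilpotent D :=
  structure_of_decomp_of_core hG hM
    (fun hodd H K' _ hHK hcop hK1 hprime q hq hC hcomm hnn =>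
      Cfsg.Agent.Lib.Helper01.BG151.core hodd H K' hHK hcop hK1 hprime q hq hC hcomm hnn)
    hKU hK1 hpr hnn

end Cfsg.Agent.Lib.Helper26.BG151
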