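/-
Keystone K-S2536-N1 (architect helper6): the arithmetic lemma `nt2` behind the classification of the
Hall subgroups of the symmetric groups.  If `1 ≤ a ≤ b` and no prime `≤ b` divides `C(a+b, a)` then
`a = 1` and `b + 1` is prime, or `(a, b) = (3, 4)`.
-/
import Mathlib

set_option autoImplicit false

namespace Cfsg.Agent.Lib.Helper26.HallSym

/-- If no prime `≤ b` divides `C`, every prime factor of `y` is `≤ b` and `y ∣ x * C`, then `y ∣ x`. -/
theorem nt2_key {b C : ℕ} (h : ∀ p : ℕ, p.Prime → p ≤ b → ¬ p ∣ C)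
    {x y : ℕ} (hy : ∀ p : ℕ, p.Prime → p ∣ y → p ≤ b) (hd : y ∣ x * C) : y ∣ x := by
  have hcop : Nat.Coprime y C :=
    Nat.coprime_of_dvd (fun p hp hpy hpC => h p hp (hy p hp hpy) hpC)
  exact hcop.dvd_of_dvd_mul_right hd

/-- The prime factors of a composite number `y ≤ 2 b + 1` are `≤ b`. -/
theorem nt2_comp {b y : ℕ} (hy2 : 2 ≤ y) (hnp : ¬ y.Prime) (hyb : y ≤ 2 * b + 1) :
    ∀ p : ℕ, p.Prime → p ∣ y → p ≤ b := by
  intro p hp hpy
  obtain ⟨k, hk⟩ := hpy
  have hk2 : 2 ≤ k := by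
    by_contra hlt
    have hk1 : k = 0 ∨ k = 1 := by omega
    rcases hk1 with rfl | rfl
    · simp at hk; omega
    · apply hnp; rw [hk, mul_one]; exact hp
  have h2 : p * 2 ≤ p * k := Nat.mul_le_mul_left p hk2
  omega

/-- `(k+1) C(n+1, k+1) = (n+1) C(n, k)`. -/
theorem nt2_c1 (n k : ℕ) : (k + 1) * Nat.choose (n + 1) (k + 1) = (n + 1) * Nat.choose n k := by
  have := Nat.add_one_mul_choose_eq n k
  linarith

/-- `(k+1) C(n, k+1) = (n-k) C(n, k)`. -/
theorem nt2_c2 (n k : ℕ) : (k + 1) * Nat.choose n (k + 1) = (n - k) * Nat.choose n k := by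
  have := Nat.choose_succ_right_eq n k
  linarith

/-- **K-N1.** If `1 ≤ a ≤ b` and no prime `≤ b` divides `C(a+b, a)` then `a = 1` and `b+1` is prime, or
`(a, b) = (3, 4)`. -/
theorem nt2 (a b : ℕ) (ha : 1 ≤ a) (hab : a ≤ b)
    (h : ∀ p : ℕ, p.Prime → p ≤ b → ¬ p ∣ Nat.choose (a + b) a) :
    (a = 1 ∧ (b + 1).Prime) ∨ (a = 3 ∧ b = 4) := by
  -- (R2): `a + b` is prime
  have hn : (a + b).Prime := by
    by_contra hnp
    have hd : (a + b) ∣ a * Nat.choose (a + b) a := by
      obtain ⟨k, rfl⟩ : ∃ k, a = k + 1 := ⟨a - 1, by omega⟩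
      have e := nt2_c1 (k + b) k
      rw [show k + 1 + b = k + b + 1 by omega]
      exact ⟨_, e⟩
    have h1 := nt2_key h (nt2_comp (by omega) hnp (by omega)) hd
    have h2 := Nat.le_of_dvd (by omega) h1
    omega
  by_cases ha1 : a = 1
  · left
    refine ⟨ha1, ?_⟩
    subst ha1
    rwa [add_comm] at hn
  right
  have ha2 : 2 ≤ a := by omega
  -- (R1): `b + 1` is prime
  have hb1 : (b + 1).Prime := by
    by_contra hnp
    have hd : (b + 1) ∣ a * Nat.choose (a + b) a := by
      obtain ⟨k, rfl⟩ : ∃ k, a = k + 1 := ⟨a - 1, by omega⟩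
      have e := nt2_c2 (k + 1 + b) k
      rw [show k + 1 + b - k = b + 1 by omega] at e
      exact ⟨_, e⟩
    have h1 := nt2_key h (nt2_comp (by omega) hnp (by omega)) hd
    have h2 := Nat.le_of_dvd (by omega) h1
    omega
  -- (R3): parities
  have hbe : b % 2 = 0 := by
    rcases hb1.eq_two_or_odd with h2 | h2 <;> omega
  have hao : a % 2 = 1 := by
    rcases hn.eq_two_or_odd with h2 | h2 <;> omega
  have ha3 : 3 ≤ a := by omega
  have hab1 : a + 1 ≤ b := by omega
  -- (R4): `b + 2 ∣ a (a - 1)`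
  have hD4 : (b + 2) ∣ a * (a - 1) := by
    have hd : (b + 2) ∣ a * (a - 1) * Nat.choose (a + b) a := by
      obtain ⟨k, rfl⟩ : ∃ k, a = k + 2 := ⟨a - 2, by omega⟩
      have e1 := nt2_c2 (k + 2 + b) (k + 1)
      have e2 := nt2_c2 (k + 2 + b) k
      rw [show k + 2 + b - (k + 1) = b + 1 by omega] at e1
      rw [show k + 2 + b - k = b + 2 by omega] at e2
      rw [show k + 2 - 1 = k + 1 by omega]
      refine ⟨(b + 1) * Nat.choose (k + 2 + b) k, ?_⟩
      calc (k + 2) * (k + 1) * Nat.choose (k + 2 + b) (k + 2)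
          = (k + 1) * ((k + 1 + 1) * Nat.choose (k + 2 + b) (k + 1 + 1)) := by ring
        _ = (k + 1) * ((b + 1) * Nat.choose (k + 2 + b) (k + 1)) := by rw [e1]
        _ = (b + 1) * ((k + 1) * Nat.choose (k + 2 + b) (k + 1)) := by ring
        _ = (b + 1) * ((b + 2) * Nat.choose (k + 2 + b) k) := by rw [e2]
        _ = (b + 2) * ((b + 1) * Nat.choose (k + 2 + b) k) := by ring
    have hnp : ¬ (b + 2).Prime := by
      intro hp
      rcases hp.eq_two_or_odd with h2 | h2 <;> omega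
    exact nt2_key h (nt2_comp (by omega) hnp (by omega)) hd
  -- (R5): `a + b - 1 ∣ a (a - 1)`
  have hD5 : (a + b - 1) ∣ a * (a - 1) := by
    have hd : (a + b - 1) ∣ a * (a - 1) * Nat.choose (a + b) a := by
      obtain ⟨k, rfl⟩ : ∃ k, a = k + 2 := ⟨a - 2, by omega⟩
      have e1 := nt2_c1 (k + b + 1) (k + 1)
      have e2 := nt2_c1 (k + b) k
      rw [show k + 2 - 1 = k + 1 by omega, show k + 2 + b - 1 = k + b + 1 by omega,
        show k + 2 + b = k + b + 1 + 1 by omega]
      refine ⟨(k + b + 1 + 1) * Nat.choose (k + b) k, ?_⟩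
      calc (k + 2) * (k + 1) * Nat.choose (k + b + 1 + 1) (k + 2)
          = (k + 1) * ((k + 1 + 1) * Nat.choose (k + b + 1 + 1) (k + 1 + 1)) := by ring
        _ = (k + 1) * ((k + b + 1 + 1) * Nat.choose (k + b + 1) (k + 1)) := by rw [e1]
        _ = (k + b + 1 + 1) * ((k + 1) * Nat.choose (k + b + 1) (k + 1)) := by ring
        _ = (k + b + 1 + 1) * ((k + b + 1) * Nat.choose (k + b) k) := by rw [e2]
        _ = (k + b + 1) * ((k + b + 1 + 1) * Nat.choose (k + b) k) := by ring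
    have hnp : ¬ (a + b - 1).Prime := by
      intro hp
      rcases hp.eq_two_or_odd with h2 | h2 <;> omega
    exact nt2_key h (nt2_comp (by omega) hnp (by omega)) hd
  -- (R6): `a + 1 ∣ b`
  have hD6 : (a + 1) ∣ b := by
    have hd : (a + 1) ∣ b * Nat.choose (a + b) a := by
      have e := nt2_c2 (a + b) a
      rw [show a + b - a = b by omega] at e
      exact ⟨_, e.symm⟩
    refine nt2_key h (fun p hp hpd => ?_) hd
    have := Nat.le_of_dvd (by omega) hpd
    omega
  obtain ⟨m, hm⟩ := hD6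
  have hm1 : 1 ≤ m := by
    rcases Nat.eq_zero_or_pos m with rfl | hpos
    · simp at hm; omega
    · exact hpos
  by_cases ha3' : a = 3
  · -- case `a = 3`
    subst ha3'
    refine ⟨rfl, ?_⟩
    have := Nat.le_of_dvd (by norm_num) hD4
    omega
  exfalso
  have ha5 : 5 ≤ a := by omega
  by_cases hm1' : m = 1
  · -- case `b = a + 1`
    subst hm1'
    have hb : b = a + 1 := by omega
    subst hb
    obtain ⟨c, rfl⟩ : ∃ c, a = c + 5 := ⟨a - 5, by omega⟩
    have e : (c + 5) * (c + 5 - 1) = (c + 5 + 1 + 2) * (c + 1) + 12 := by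
      rw [show c + 5 - 1 = c + 4 by omega]; ring
    rw [e] at hD4
    have h12 : (c + 5 + 1 + 2) ∣ 12 := (Nat.dvd_add_right (dvd_mul_right _ _)).mp hD4
    have hle := Nat.le_of_dvd (by norm_num) h12
    have hc : c = 0 ∨ c = 2 ∨ c = 4 := by omega
    rcases hc with rfl | rfl | rfl
    · norm_num at h12
    · norm_num at h12
    · exact h 2 Nat.prime_two (by norm_num) (by decide)
  -- case `b = m (a + 1)`, `m ≥ 2`
  have hm2 : 2 ≤ m := by omega
  have hb2 : 2 * (a + 1) ≤ b := by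
    rw [hm, mul_comm]; exact Nat.mul_le_mul_left _ hm2
  -- (R7): `(a + 1) (a + 2) ∣ b (b - 1)`
  have hD7 : (a + 1) * (a + 2) ∣ b * (b - 1) := by
    have hd : (a + 1) * (a + 2) ∣ b * (b - 1) * Nat.choose (a + b) a := by
      have e1 := nt2_c2 (a + b) (a + 1)
      have e2 := nt2_c2 (a + b) a
      rw [show a + b - (a + 1) = b - 1 by omega] at e1
      rw [show a + b - a = b by omega] at e2
      refine ⟨Nat.choose (a + b) (a + 2), ?_⟩
      calc b * (b - 1) * Nat.choose (a + b) a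
          = (b - 1) * (b * Nat.choose (a + b) a) := by ring
        _ = (b - 1) * ((a + 1) * Nat.choose (a + b) (a + 1)) := by rw [e2]
        _ = (a + 1) * ((b - 1) * Nat.choose (a + b) (a + 1)) := by ring
        _ = (a + 1) * ((a + 1 + 1) * Nat.choose (a + b) (a + 1 + 1)) := by rw [e1]
        _ = (a + 1) * (a + 2) * Nat.choose (a + b) (a + 2) := by ring
    refine nt2_key h (fun p hp hpd => ?_) hd
    rcases (Nat.Prime.dvd_mul hp).mp hpd with h1 | h1
    · have := Nat.le_of_dvd (by omega) h1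
      omega
    · have := Nat.le_of_dvd (by omega) h1
      omega
  -- `a + 2 ∣ m (m + 1)`
  have hD7' : (a + 2) ∣ m * (m + 1) := by
    obtain ⟨t, ht⟩ : ∃ t, b = t + 1 := ⟨b - 1, by omega⟩
    have h1 : (a + 1) * (a + 2) ∣ (a + 1) * (m * t) := by
      have e : b * (b - 1) = (a + 1) * (m * t) := by
        rw [show b - 1 = t by omega]
        conv_lhs => rw [hm]
        ring
      rwa [e] at hD7
    have h2 : (a + 2) ∣ m * t := Nat.dvd_of_mul_dvd_mul_left (by omega) h1
    have e : m * t + m * (m + 1) = (a + 2) * (m * m) := by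
      have : t + 1 = (a + 1) * m := by rw [← ht, hm]
      calc m * t + m * (m + 1) = m * (t + 1) + m * m := by ring
        _ = m * ((a + 1) * m) + m * m := by rw [this]
        _ = (a + 2) * (m * m) := by ring
    have h3 : (a + 2) ∣ m * t + m * (m + 1) := ⟨_, e⟩
    exact (Nat.dvd_add_right h2).mp h3
  -- (R8): size estimate
  have hN : 0 < a * (a - 1) := Nat.mul_pos (by omega) (by omega)
  have hlcm : Nat.lcm (b + 2) (a + b - 1) ≤ a * (a - 1) :=
    Nat.le_of_dvd hN (Nat.lcm_dvd hD4 hD5)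
  have hgcd : Nat.gcd (b + 2) (a + b - 1) ≤ a - 3 := by
    have h1 : Nat.gcd (b + 2) (a + b - 1) ∣ (a + b - 1) - (b + 2) :=
      Nat.dvd_sub (Nat.gcd_dvd_right _ _) (Nat.gcd_dvd_left _ _)
    rw [show a + b - 1 - (b + 2) = a - 3 by omega] at h1
    exact Nat.le_of_dvd (by omega) h1
  have hxy : (b + 2) * (a + b - 1) ≤ (a - 3) * (a * (a - 1)) := by
    rw [← Nat.gcd_mul_lcm]
    exact Nat.mul_le_mul hgcd hlcm
  have hbb : b * b < (b + 2) * (a + b - 1) :=
    Nat.mul_lt_mul_of_lt_of_le (by omega) (by omega) (by omega)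
  have hlt : b * b < (a + 1) * ((a + 1) * (a + 1)) := by
    have h1 : (a - 3) * (a * (a - 1)) ≤ (a + 1) * ((a + 1) * (a + 1)) :=
      Nat.mul_le_mul (by omega) (Nat.mul_le_mul (by omega) (by omega))
    omega
  have hmm : m * m ≤ a := by
    by_contra hcon
    have h1 : a + 1 ≤ m * m := by omega
    have h2 : (a + 1) * ((a + 1) * (a + 1)) ≤ (m * m) * ((a + 1) * (a + 1)) :=
      Nat.mul_le_mul_right _ h1
    have h3 : b * b = (m * m) * ((a + 1) * (a + 1)) := by rw [hm]; ring
    omega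
  have hmle : m ≤ m * m := Nat.le_mul_of_pos_left m (by omega)
  obtain ⟨k, hk⟩ := hD7'
  have hk1 : k = 1 := by
    have hpos : 0 < m * (m + 1) := Nat.mul_pos (by omega) (by omega)
    have hlt2 : m * (m + 1) < (a + 2) * 2 := by
      have : m * (m + 1) = m * m + m := by ring
      omega
    rw [hk] at hpos hlt2
    have hk0 : 0 < k := Nat.pos_of_mul_pos_left hpos
    have hk2 : k < 2 := Nat.lt_of_mul_lt_mul_left hlt2
    omega
  subst hk1
  have hev : Even (m * (m + 1)) := Nat.even_mul_succ_self m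
  rw [hk, mul_one] at hev
  rw [Nat.even_iff] at hev
  omega

end Cfsg.Agent.Lib.Helper26.HallSym
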