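import Mathlib
import Cfsg.Prelude.Def_Transfer

/-!
# K-BQ pack (S3911), leaf L3: `sylow_eq_bot_of_le`

A normal Sylow subgroup of a minimal supplement `A0` of `M` in `H` that lies in `M` is trivial
(Schur–Zassenhaus + minimality).
-/

set_option autoImplicit false
open Cfsg

namespace Cfsg.Agent.Lib.Helper26.BQ

/-- LEAF L3. -/
theorem sylow_eq_bot_of_le {G : Type*} [Group G] [Finite G] (M H A0 : Subgroup G)
    [M.Normal] (hsup : A0 ⊔ M = H) (hmin : ∀ X : Subgroup G, X ≤ A0 → X ⊔ M = H → X = A0)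
    (p : ℕ) [Fact p.Prime] (Q : Sylow p ↥A0) (hn : (Q : Subgroup ↥A0).Normal)
    (hQ : (Q : Subgroup ↥A0).map A0.subtype ≤ M) : (Q : Subgroup ↥A0) = ⊥ := by
  have hcop : Nat.Coprime (Nat.card ↥(Q : Subgroup ↥A0)) (Q : Subgroup ↥A0).index :=
    Sylow.card_coprime_index Q
  obtain ⟨K, hK⟩ := Subgroup.exists_right_complement'_of_coprime hcop
  have htop : (Q : Subgroup ↥A0) ⊔ K = ⊤ := hK.sup_eq_top
  have hX : K.map A0.subtype ≤ A0 := by
    rintro _ ⟨x, -, rfl⟩
    exact x.2
  have hA0 : A0 = (Q : Subgroup ↥A0).map A0.subtype ⊔ K.map A0.subtype := by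
    rw [← Subgroup.map_sup, htop, ← MonoidHom.range_eq_map, Subgroup.range_subtype]
  have hXM : K.map A0.subtype ⊔ M = H := by
    apply le_antisymm
    · rw [← hsup]
      exact sup_le_sup_right hX M
    · rw [← hsup]
      refine sup_le ?_ le_sup_right
      have h1 : (Q : Subgroup ↥A0).map A0.subtype ⊔ K.map A0.subtype ≤ K.map A0.subtype ⊔ M :=
        sup_le (hQ.trans le_sup_right) le_sup_left
      exact hA0.le.trans h1
  have hKA : K.map A0.subtype = A0 := hmin _ hX hXM
  have hKtop : K = ⊤ := by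
    apply Subgroup.map_injective A0.subtype_injective
    rw [hKA, ← MonoidHom.range_eq_map, Subgroup.range_subtype]
  have hdisj : (Q : Subgroup ↥A0) ⊓ K = ⊥ := hK.disjoint.eq_bot
  rw [hKtop, inf_top_eq] at hdisj
  exact hdisj

end Cfsg.Agent.Lib.Helper26.BQ
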