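import Mathlib
import Cfsg.Agent.Lib.Helper68.HPPoly

/-!
# K-S3779-GRP: commutator calculus modulo the lower central series

`γ n := (⊤ : Subgroup G).lowerCentralSeries n` (so `γ 0 = G`), Mathlib convention `⁅a, b⁆ = a * b * a⁻¹ * b⁻¹`.
* `comm_mem_lcs`       : `⁅γ i, γ j⁆ ⊆ γ (i+j+1)` elementwise;
* `comm_mul_left_mod`  : `⁅x x', y⁆ ≡ ⁅x, y⁆ ⁅x', y⁆` modulo `γ (i+j+2)`;
* `comm_mul_right_mod` : `⁅x, y y'⁆ ≡ ⁅x, y⁆ ⁅x, y'⁆` modulo `γ (i+j+2)`;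
* `jacobi_mod`         : `⁅x, ⁅y, z⁆⁆ ≡ ⁅⁅x, y⁆, z⁆ ⁅y, ⁅x, z⁆⁆` modulo `γ (i+j+k+3)`.
-/

set_option autoImplicit false

namespace Cfsg.Agent.Lib.Helper26.KK

universe u

open scoped commutatorElement

variable {G : Type u} [Group G]

/-- monotonicity in the index, elementwise -/
theorem lcs_mem_of_le {m n : ℕ} (h : m ≤ n) {x : G}
    (hx : x ∈ (⊤ : Subgroup G).lowerCentralSeries n) :
    x ∈ (⊤ : Subgroup G).lowerCentralSeries m :=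
  (Subgroup.lowerCentralSeries_antitone (⊤ : Subgroup G)) h hx

theorem comm_mem_lcs {i j : ℕ} {x y : G} (hx : x ∈ (⊤ : Subgroup G).lowerCentralSeries i)
    (hy : y ∈ (⊤ : Subgroup G).lowerCentralSeries j) :
    ⁅x, y⁆ ∈ (⊤ : Subgroup G).lowerCentralSeries (i + j + 1) :=
  Cfsg.Agent.Lib.Helper68.HP.lcs_comm G j i (Subgroup.commutator_mem_commutator hx hy)

/-- `⁅x, y⁆` lies at least as deep as `x`. -/
theorem comm_mem_lcs_left {i : ℕ} {x : G} (hx : x ∈ (⊤ : Subgroup G).lowerCentralSeries i) (y : G) :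
    ⁅x, y⁆ ∈ (⊤ : Subgroup G).lowerCentralSeries (i + 1) := by
  have h := comm_mem_lcs (j := 0) hx (show y ∈ (⊤ : Subgroup G).lowerCentralSeries 0 by simp)
  simpa using h

/-- exact identity `⁅a b, w⁆ = ⁅a, ⁅b, w⁆⁆ ⁅b, w⁆ ⁅a, w⁆` -/
theorem comm_mul_left_eq (a b w : G) : ⁅a * b, w⁆ = ⁅a, ⁅b, w⁆⁆ * ⁅b, w⁆ * ⁅a, w⁆ := by
  simp only [commutatorElement_def]; group

/-- exact identity `⁅a, b w⁆ = ⁅a, b⁆ ⁅b, ⁅a, w⁆⁆ ⁅a, w⁆` -/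
theorem comm_mul_right_eq (a b w : G) : ⁅a, b * w⁆ = ⁅a, b⁆ * ⁅b, ⁅a, w⁆⁆ * ⁅a, w⁆ := by
  simp only [commutatorElement_def]; group

/-- exact identity `⁅x, ⁅y, z⁆⁆ = ⁅⁅x, y⁆ y, ⁅x, z⁆ z⁆ ⁅y, z⁆⁻¹` -/
theorem comm_comm_eq (x y z : G) : ⁅x, ⁅y, z⁆⁆ = ⁅⁅x, y⁆ * y, ⁅x, z⁆ * z⁆ * ⁅y, z⁆⁻¹ := by
  simp only [commutatorElement_def]; group

/-- elements whose commutator lies in a normal subgroup commute in the quotient -/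
theorem mk_commute_of_comm_mem (K : Subgroup G) [K.Normal] {a b : G} (h : ⁅a, b⁆ ∈ K) :
    (QuotientGroup.mk' K a) * (QuotientGroup.mk' K b) = (QuotientGroup.mk' K b) * (QuotientGroup.mk' K a) := by
  have h1 : QuotientGroup.mk' K ⁅a, b⁆ = 1 := (QuotientGroup.eq_one_iff _).mpr h
  rw [map_commutatorElement] at h1
  exact (commutatorElement_eq_one_iff_mul_comm.mp h1)

theorem mk_eq_one_of_mem (K : Subgroup G) [K.Normal] {a : G} (h : a ∈ K) :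
    QuotientGroup.mk' K a = 1 := (QuotientGroup.eq_one_iff _).mpr h

theorem comm_mul_left_mod {i j : ℕ} {x x' y : G} (hx : x ∈ (⊤ : Subgroup G).lowerCentralSeries i)
    (hx' : x' ∈ (⊤ : Subgroup G).lowerCentralSeries i) (hy : y ∈ (⊤ : Subgroup G).lowerCentralSeries j) :
    ⁅x * x', y⁆ * (⁅x, y⁆ * ⁅x', y⁆)⁻¹ ∈ (⊤ : Subgroup G).lowerCentralSeries (i + j + 2) := by
  set K := (⊤ : Subgroup G).lowerCentralSeries (i + j + 2) with hK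
  have hc : ⁅x', y⁆ ∈ (⊤ : Subgroup G).lowerCentralSeries (i + j + 1) := comm_mem_lcs hx' hy
  have hd : ⁅x, y⁆ ∈ (⊤ : Subgroup G).lowerCentralSeries (i + j + 1) := comm_mem_lcs hx hy
  have h1 : ⁅x, ⁅x', y⁆⁆ ∈ K :=
    lcs_mem_of_le (by omega) (comm_mem_lcs hx hc)
  have h2 : ⁅⁅x', y⁆, ⁅x, y⁆⁆ ∈ K :=
    lcs_mem_of_le (by omega) (comm_mem_lcs hc hd)
  rw [← QuotientGroup.eq_one_iff, ← QuotientGroup.mk'_apply]
  rw [comm_mul_left_eq]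
  simp only [map_mul, map_inv]
  rw [mk_eq_one_of_mem K h1, one_mul, mk_commute_of_comm_mem K h2]
  group

theorem comm_mul_right_mod {i j : ℕ} {x y y' : G} (hx : x ∈ (⊤ : Subgroup G).lowerCentralSeries i)
    (hy : y ∈ (⊤ : Subgroup G).lowerCentralSeries j) (hy' : y' ∈ (⊤ : Subgroup G).lowerCentralSeries j) :
    ⁅x, y * y'⁆ * (⁅x, y⁆ * ⁅x, y'⁆)⁻¹ ∈ (⊤ : Subgroup G).lowerCentralSeries (i + j + 2) := by
  set K := (⊤ : Subgroup G).lowerCentralSeries (i + j + 2) with hK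
  have hc : ⁅x, y'⁆ ∈ (⊤ : Subgroup G).lowerCentralSeries (i + j + 1) := comm_mem_lcs hx hy'
  have h1 : ⁅y, ⁅x, y'⁆⁆ ∈ K :=
    lcs_mem_of_le (by omega) (comm_mem_lcs hy hc)
  rw [← QuotientGroup.eq_one_iff, ← QuotientGroup.mk'_apply]
  rw [comm_mul_right_eq]
  simp only [map_mul, map_inv]
  rw [mk_eq_one_of_mem K h1, mul_one]
  group

theorem jacobi_mod {i j k : ℕ} {x y z : G} (hx : x ∈ (⊤ : Subgroup G).lowerCentralSeries i)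
    (hy : y ∈ (⊤ : Subgroup G).lowerCentralSeries j) (hz : z ∈ (⊤ : Subgroup G).lowerCentralSeries k) :
    ⁅x, ⁅y, z⁆⁆ * (⁅⁅x, y⁆, z⁆ * ⁅y, ⁅x, z⁆⁆)⁻¹ ∈ (⊤ : Subgroup G).lowerCentralSeries (i + j + k + 3) := by
  set K := (⊤ : Subgroup G).lowerCentralSeries (i + j + k + 3) with hK
  -- u = ⁅x, y⁆, v = ⁅x, z⁆, c = ⁅y, z⁆
  have hu : ⁅x, y⁆ ∈ (⊤ : Subgroup G).lowerCentralSeries (i + j + 1) := comm_mem_lcs hx hy
  have hv : ⁅x, z⁆ ∈ (⊤ : Subgroup G).lowerCentralSeries (i + k + 1) := comm_mem_lcs hx hz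
  have hc : ⁅y, z⁆ ∈ (⊤ : Subgroup G).lowerCentralSeries (j + k + 1) := comm_mem_lcs hy hz
  have hvz : ⁅x, z⁆ * z ∈ (⊤ : Subgroup G).lowerCentralSeries k :=
    mul_mem (lcs_mem_of_le (by omega) hv) hz
  have hyvz : ⁅y, ⁅x, z⁆ * z⁆ ∈ (⊤ : Subgroup G).lowerCentralSeries (j + k + 1) := comm_mem_lcs hy hvz
  have ha : ⁅y, ⁅x, z⁆⁆ ∈ (⊤ : Subgroup G).lowerCentralSeries (i + j + k + 2) :=
    lcs_mem_of_le (by omega) (comm_mem_lcs hy hv)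
  have hb : ⁅⁅x, y⁆, z⁆ ∈ (⊤ : Subgroup G).lowerCentralSeries (i + j + k + 2) :=
    lcs_mem_of_le (by omega) (comm_mem_lcs hu hz)
  -- the negligible terms
  have n0 : ⁅⁅x, y⁆, ⁅y, ⁅x, z⁆ * z⁆⁆ ∈ K := lcs_mem_of_le (by omega) (comm_mem_lcs hu hyvz)
  have n1 : ⁅⁅x, z⁆, ⁅y, z⁆⁆ ∈ K := lcs_mem_of_le (by omega) (comm_mem_lcs hv hc)
  have n2 : ⁅⁅x, y⁆, ⁅x, z⁆⁆ ∈ K := lcs_mem_of_le (by omega) (comm_mem_lcs hu hv)
  have n3 : ⁅⁅x, z⁆, ⁅⁅x, y⁆, z⁆⁆ ∈ K := lcs_mem_of_le (by omega) (comm_mem_lcs hv hb)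
  -- commutation modulo K
  have c1 : ⁅⁅y, z⁆, ⁅⁅x, y⁆, z⁆⁆ ∈ K := lcs_mem_of_le (by omega) (comm_mem_lcs hc hb)
  have c2 : ⁅⁅y, ⁅x, z⁆⁆, ⁅⁅x, y⁆, z⁆⁆ ∈ K := lcs_mem_of_le (by omega) (comm_mem_lcs ha hb)
  rw [← QuotientGroup.eq_one_iff, ← QuotientGroup.mk'_apply]
  rw [comm_comm_eq x y z, comm_mul_left_eq ⁅x, y⁆ y (⁅x, z⁆ * z)]
  simp only [map_mul, map_inv]
  rw [mk_eq_one_of_mem K n0, one_mul, comm_mul_right_eq y ⁅x, z⁆ z, comm_mul_right_eq ⁅x, y⁆ ⁅x, z⁆ z]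
  simp only [map_mul]
  rw [mk_eq_one_of_mem K n1, mk_eq_one_of_mem K n2, mk_eq_one_of_mem K n3]
  have e1 := mk_commute_of_comm_mem K c1
  have e2 := mk_commute_of_comm_mem K c2
  simp only [one_mul, mul_one]
  -- goal: ā c̄ b̄ c̄⁻¹ (b̄ ā)⁻¹ = 1
  generalize QuotientGroup.mk' K ⁅y, ⁅x, z⁆⁆ = A at *
  generalize QuotientGroup.mk' K ⁅⁅x, y⁆, z⁆ = B at *
  generalize QuotientGroup.mk' K ⁅y, z⁆ = C at *
  have h3 : A * C * B * C⁻¹ = A * B := by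
    rw [mul_assoc A C B, e1, ← mul_assoc, mul_assoc (A * B), mul_inv_cancel, mul_one]
  rw [h3, e2]
  group

end Cfsg.Agent.Lib.Helper26.KK
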