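import Cfsg.Agent.Lib.Helper98.Oh0

set_option autoImplicit false
set_option linter.unusedSimpArgs false
set_option linter.unusedSectionVars false
set_option linter.unusedVariables false
set_option linter.style.haveILetI false
set_option maxHeartbeats 1000000

/-!
# S5992 / S5993 pack, leaf OhC1 (599204): minimal nondegenerate invariant piece, symmetric forms
(port of `Cfsg.Agent.Lib.Helper98.Sy.exists_min_nonDeg`, Lib/Helper98/Sy3.lean)
-/

namespace Cfsg.Agent.Lib.Helper26.Oh

open Module Polynomial Cfsg.Agent.Lib.Helper98.Elus Cfsg.Agent.Lib.Helper98.Sy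
  Cfsg.Agent.Lib.Helper98.Oh

universe u
variable {F : Type u} [Field F] {V : Type u} [AddCommGroup V] [Module F V]

theorem c1_finrank_add_orth [FiniteDimensional F V] {B : LinearMap.BilinForm F V}
    (hR : B.IsRefl) (hV : NonDeg B ⊤) (W : Submodule F V) :
    finrank F W + finrank F (B.orthogonal W) = finrank F V := by
  have h := LinearMap.BilinForm.finrank_add_finrank_orthogonal hR W
  have h2 : B.orthogonal ⊤ = ⊥ := by
    rw [eq_bot_iff]
    intro v hv
    rw [Submodule.mem_bot]
    apply hV v Submodule.mem_top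
    intro n _
    exact hR _ _ (LinearMap.BilinForm.mem_orthogonal_iff.mp hv n Submodule.mem_top)
  rw [h2, inf_bot_eq, finrank_bot, add_zero] at h
  exact h

theorem c1_finrank_orth_inf [FiniteDimensional F V] {B : LinearMap.BilinForm F V}
    (hR : B.IsRefl) (hV : NonDeg B ⊤) (M U : Submodule F V)
    (hMU : M ≤ U) (hU : NonDeg B U) :
    finrank F ↥(B.orthogonal M ⊓ U) + finrank F M = finrank F U := by
  have hc := Cfsg.Agent.Lib.Helper98.Os.isCompl_orth hR U hU
  have hle : B.orthogonal U ≤ B.orthogonal M := LinearMap.BilinForm.orthogonal_le hMU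
  have h1 : B.orthogonal M = B.orthogonal U ⊔ (U ⊓ B.orthogonal M) := by
    rw [← sup_inf_assoc_of_le U hle, sup_comm, hc.sup_eq_top, top_inf_eq]
  have h2 : B.orthogonal U ⊓ (U ⊓ B.orthogonal M) = ⊥ := by
    rw [eq_bot_iff, ← hc.inf_eq_bot]
    exact le_inf (le_trans inf_le_right inf_le_left) inf_le_left
  have h3 := Submodule.finrank_sup_add_finrank_inf_eq (B.orthogonal U) (U ⊓ B.orthogonal M)
  rw [← h1, h2, finrank_bot] at h3
  have h4 := c1_finrank_add_orth hR hV M
  have h5 := c1_finrank_add_orth hR hV U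
  rw [inf_comm]
  omega

theorem exists_min_nonDeg_symm [Fintype F] (h2 : (2 : F) ≠ 0) [FiniteDimensional F V]
    (B : LinearMap.BilinForm F V) (hS : ∀ a b, B a b = B b a) (hV : NonDeg B ⊤)
    (p f : ℕ) [Fact p.Prime] (hF : Fintype.card F = p ^ f)
    (r : ℕ) [Fact r.Prime] (hpr : p ≠ r) (hr2 : r ≠ 2) (hrF : (r : F) ≠ 0) (y : V →ₗ[F] V)
    (hy : y ^ r = 1) (hiso : Iso B y)
    (hodd : ∀ M : Submodule F V, M ≤ V1 r y → Inv y M → NonDeg B M → Even (finrank F M))
    (U : Submodule F V) (hUV1 : U ≤ V1 r y) (hU : Inv y U)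
    (hUnd : NonDeg B U) (hUne : U ≠ ⊥) :
    ∃ W : Submodule F V, W ≤ U ∧ Inv y W ∧ NonDeg B W ∧
      finrank F W = cOf (orderOf ((Fintype.card F : ℕ) : ZMod r)) := by
  unfold cOf
  have hR : B.IsRefl := fun a b h => by rw [hS b a]; exact h
  classical
  have hr : r.Prime := Fact.out
  set i := orderOf ((Fintype.card F : ℕ) : ZMod r) with hi
  have hi1 : 1 ≤ i := orderOf_card_pos p f hF r hpr
  obtain ⟨fs, hmonic, hdeg, hprod⟩ := cyclo_factors (F := F) p f hF r hpr
  have hdivU : ∀ W : Submodule F V, W ≤ U → Inv y W → i ∣ finrank F W := fun W hWU hW =>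
    dvd_finrank_of_le_V1 r hrF y hy W hW (le_trans hWU hUV1)
  have hkillU : ∀ v ∈ U, aeval y fs.prod v = 0 := by
    intro v hv
    rw [hprod, aeval_cyclotomic_eq_gsum]
    exact (mem_V1 r y v).mp (hUV1 hv)
  have hUpos : i ≤ finrank F U := by
    obtain ⟨k, hk⟩ := hdivU U le_rfl hU
    have hk0 : k ≠ 0 := by
      rintro rfl
      rw [mul_zero] at hk
      exact hUne (Submodule.finrank_eq_zero.mp hk)
    rw [hk]
    exact Nat.le_mul_of_pos_right i (Nat.pos_of_ne_zero hk0)
  obtain ⟨M, hMU, hM, hMd⟩ := greedy y U hU i hi1 fs hmonic (fun g hg => le_of_eq (hdeg g hg))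
    hkillU hdivU 1 (by rw [mul_one]; exact hUpos)
  rw [mul_one] at hMd
  -- irreducibility of subspaces of dimension `i`
  have hirr : ∀ M0 : Submodule F V, M0 ≤ U → finrank F M0 = i → ∀ Z : Submodule F V, Z ≤ M0 →
      Inv y Z → Z = ⊥ ∨ Z = M0 := by
    intro M0 hM0U hM0d Z hZM hZ
    obtain ⟨k, hk⟩ := hdivU Z (le_trans hZM hM0U) hZ
    have hle := Submodule.finrank_mono hZM
    rw [hM0d] at hle
    rcases Nat.lt_or_ge k 1 with h | h
    · left
      have : k = 0 := by omega
      rw [this, mul_zero] at hk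
      exact Submodule.finrank_eq_zero.mp hk
    · right
      have hk1 : k = 1 := by
        by_contra hne
        have : 2 ≤ k := by omega
        have : i * 2 ≤ i * k := Nat.mul_le_mul_left i this
        omega
      apply Submodule.eq_of_le_of_finrank_eq hZM
      rw [hk, hk1, mul_one, hM0d]
  have hMperp : Inv y (B.orthogonal M) := inv_orth r hr.pos y hy hiso M hM
  rcases hirr M hMU hMd (M ⊓ B.orthogonal M) inf_le_left (hM.inf hMperp) with hrad | hrad
  · -- `M` is nondegenerate
    have hMnd : NonDeg B M := (Cfsg.Agent.Lib.Helper98.Os.nonDeg_iff_disjoint hR M).mpr (disjoint_iff.mpr hrad)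
    have heven : Even i := by
      have := hodd M (le_trans hMU hUV1) hM hMnd
      rwa [hMd] at this
    exact ⟨M, hMU, hM, hMnd, by rw [if_pos heven]; exact hMd⟩
  · -- `M` is totally isotropic
    have hMti : M ≤ B.orthogonal M := inf_eq_left.mp hrad
    have hU' : Inv y (B.orthogonal M ⊓ U) := hMperp.inf hU
    obtain ⟨C, hC, hCc⟩ := exists_inv_compl r hrF 1 one_ne_zero y (by rw [hy, one_smul])
      (B.orthogonal M ⊓ U) hU'
    have hM'inv : Inv y (C ⊓ U) := hC.inf hU
    have hsup : (B.orthogonal M ⊓ U) ⊔ (C ⊓ U) = U := by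
      rw [← sup_inf_assoc_of_le C (inf_le_right : B.orthogonal M ⊓ U ≤ U), hCc.sup_eq_top,
        top_inf_eq]
    have hinf : (B.orthogonal M ⊓ U) ⊓ (C ⊓ U) = ⊥ := by
      rw [eq_bot_iff, ← hCc.inf_eq_bot]
      exact inf_le_inf le_rfl inf_le_left
    have hdimperp := c1_finrank_orth_inf hR hV M U hMU hUnd
    have hM'd : finrank F ↥(C ⊓ U) = i := by
      have h := Submodule.finrank_sup_add_finrank_inf_eq (B.orthogonal M ⊓ U) (C ⊓ U)
      rw [hsup, hinf, finrank_bot] at h
      omega
    have hM'perp : (C ⊓ U) ⊓ B.orthogonal M = ⊥ := by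
      rw [eq_bot_iff, ← hinf]
      intro v hv
      obtain ⟨h1, h2⟩ := Submodule.mem_inf.mp hv
      exact Submodule.mem_inf.mpr ⟨Submodule.mem_inf.mpr ⟨h2, (Submodule.mem_inf.mp h1).2⟩, h1⟩
    have hMM' : M ⊓ (C ⊓ U) = ⊥ := by
      rw [eq_bot_iff, ← hM'perp]
      intro v hv
      obtain ⟨h1, h2⟩ := Submodule.mem_inf.mp hv
      exact Submodule.mem_inf.mpr ⟨h2, hMti h1⟩
    have hHd : finrank F ↥(M ⊔ (C ⊓ U)) = 2 * i := by
      have h := Submodule.finrank_sup_add_finrank_inf_eq M (C ⊓ U)
      rw [hMM', finrank_bot, hMd, hM'd] at h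
      omega
    have hHU : M ⊔ (C ⊓ U) ≤ U := sup_le hMU inf_le_right
    have hHinv : Inv y (M ⊔ (C ⊓ U)) := hM.sup hM'inv
    have hHnd : NonDeg B (M ⊔ (C ⊓ U)) := by
      intro h hh hh'
      obtain ⟨m, hm, m', hm', rfl⟩ := Submodule.mem_sup.mp hh
      have hm'0 : m' = 0 := by
        have : m' ∈ (C ⊓ U) ⊓ B.orthogonal M := by
          refine Submodule.mem_inf.mpr ⟨hm', ?_⟩
          rw [LinearMap.BilinForm.mem_orthogonal_iff]
          intro x hx
          have h1 := hh' x (Submodule.mem_sup_left hx)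
          rw [map_add, LinearMap.add_apply] at h1
          have h2 : B m x = 0 :=
            hR _ _ (LinearMap.BilinForm.mem_orthogonal_iff.mp (hMti hm) x hx)
          rw [h2, zero_add] at h1
          exact hR _ _ h1
        rw [hM'perp, Submodule.mem_bot] at this
        exact this
      subst hm'0
      rw [add_zero] at hh' ⊢
      apply hUnd m (hMU hm)
      intro x hx
      rw [← hsup] at hx
      obtain ⟨a, ha, b, hb, rfl⟩ := Submodule.mem_sup.mp hx
      rw [map_add, hh' b (Submodule.mem_sup_right hb), add_zero]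
      exact LinearMap.BilinForm.mem_orthogonal_iff.mp (Submodule.mem_inf.mp ha).1 m hm
    by_cases heven : Even i
    swap
    · exact ⟨M ⊔ (C ⊓ U), hHU, hHinv, hHnd, by rw [if_neg heven]; exact hHd⟩
    -- `i` even: a nondegenerate invariant subspace of dimension `i` inside `H`
    rw [if_pos heven]
    have hMne : M ≠ ⊥ := by
      intro h
      rw [h, finrank_bot] at hMd
      omega
    obtain ⟨u0, hu0M, hu00⟩ := Submodule.exists_mem_ne_zero_of_ne_bot hMne
    obtain ⟨P, hPfs, v0, hv0M, hv0ne, hPv0⟩ := exists_step y M ⊥ hM fs u0 hu0M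
      (fun h => hu00 ((Submodule.mem_bot F).mp h))
      (by rw [hkillU u0 (hMU hu0M)]; exact Submodule.zero_mem _)
    have hPm := hmonic P hPfs
    have hPd : P.natDegree = i := hdeg P hPfs
    have hcomm : ∀ w, aeval y P (y w) = y (aeval y P w) := by
      intro w
      have h1 : aeval y P * y = y * aeval y P := by
        have : aeval y (P * X) = aeval y (X * P) := by rw [mul_comm]
        rwa [map_mul, map_mul, aeval_X] at this
      have := congrArg (fun g => g w) h1
      simpa [Module.End.mul_apply] using this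
    have hkerinv : Inv y (LinearMap.ker (aeval y P)) := by
      intro w hw
      rw [LinearMap.mem_ker] at hw ⊢
      rw [hcomm, hw, map_zero]
    have hPM : ∀ m ∈ M, aeval y P m = 0 := by
      rcases hirr M hMU hMd (M ⊓ LinearMap.ker (aeval y P)) inf_le_left (hM.inf hkerinv) with h | h
      · exfalso
        apply hv0ne
        rw [← h]
        exact Submodule.mem_inf.mpr ⟨hv0M, LinearMap.mem_ker.mpr ((Submodule.mem_bot F).mp hPv0)⟩
      · intro m hm
        have : m ∈ M ⊓ LinearMap.ker (aeval y P) := by rw [h]; exact hm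
        exact LinearMap.mem_ker.mp (Submodule.mem_inf.mp this).2
    -- the inverse of `y` as a Frobenius power
    set Q := Fintype.card F ^ (i / 2) with hQ
    have hQr : r ∣ Q + 1 := dvd_pow_half_add_one (Fintype.card F) r heven (by omega)
    have hQ1 : 1 ≤ Q := Nat.one_le_pow _ _ Fintype.card_pos
    have hyi : ∀ v, y ((y ^ Q) v) = v := by
      intro v
      obtain ⟨s, hs⟩ := hQr
      rw [← Module.End.mul_apply, ← pow_succ', hs, pow_mul, hy, one_pow, Module.End.one_apply]
    have hPiM : ∀ m ∈ M, aeval (y ^ Q) P m = 0 := by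
      intro m hm
      rw [hQ, aeval_pow_card_pow, ← hQ]
      have : Q = (Q - 1) + 1 := by omega
      rw [this, pow_succ, Module.End.mul_apply, hPM m hm, map_zero]
    have hPM' : ∀ m' ∈ C ⊓ U, aeval y P m' = 0 := by
      intro m' hm'
      have h1 : aeval y P m' ∈ C ⊓ U := hM'inv.aeval_mem P m' hm'
      have h2 : aeval y P m' ∈ B.orthogonal M := by
        rw [LinearMap.BilinForm.mem_orthogonal_iff]
        intro n hn
        apply hR _ _
        rw [adjoint_aeval y (y ^ Q) hiso hyi P m' n, hPiM n hn, map_zero]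
      have : aeval y P m' ∈ (C ⊓ U) ⊓ B.orthogonal M := Submodule.mem_inf.mpr ⟨h1, h2⟩
      rw [hM'perp, Submodule.mem_bot] at this
      exact this
    have hPH : ∀ h ∈ M ⊔ (C ⊓ U), aeval y P h = 0 := by
      intro h hh
      obtain ⟨m, hm, m', hm', rfl⟩ := Submodule.mem_sup.mp hh
      rw [map_add, hPM m hm, hPM' m' hm', add_zero]
    -- a non-isotropic vector
    have hex : ∃ v ∈ M ⊔ (C ⊓ U), B v v ≠ 0 := by
      by_contra hcon
      push Not at hcon
      have hzero : ∀ v ∈ M ⊔ (C ⊓ U), ∀ w ∈ M ⊔ (C ⊓ U), B v w = 0 := by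
        intro v hv w hw
        have h1 := hcon (v + w) (Submodule.add_mem _ hv hw)
        rw [map_add, map_add, LinearMap.add_apply, LinearMap.add_apply, hcon v hv, hcon w hw,
          zero_add, add_zero, hS w v] at h1
        have h3 : (2 : F) * B v w = 0 := by linear_combination h1
        rcases mul_eq_zero.mp h3 with h | h
        · exact absurd h h2
        · exact h
      have hbot : M ⊔ (C ⊓ U) = ⊥ := by
        rw [eq_bot_iff]
        intro w hw
        rw [Submodule.mem_bot]
        exact hHnd w hw (fun v hv => hzero w hw v hv)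
      rw [hbot, finrank_bot] at hHd
      omega
    obtain ⟨v, hvH, hvne⟩ := hex
    have hZinv := inv_span_of_aeval_eq_zero y P hPm v (hPH v hvH)
    rw [hPd] at hZinv
    have hvZ : v ∈ Submodule.span F (Set.range (fun k : Fin i => (y ^ (k : ℕ)) v)) := by
      have : (y ^ ((⟨0, by omega⟩ : Fin i) : ℕ)) v ∈
          Submodule.span F (Set.range (fun k : Fin i => (y ^ (k : ℕ)) v)) :=
        Submodule.subset_span ⟨⟨0, by omega⟩, rfl⟩
      simpa using this
    have hZH : Submodule.span F (Set.range (fun k : Fin i => (y ^ (k : ℕ)) v)) ≤ M ⊔ (C ⊓ U) := by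
      apply Submodule.span_le.mpr
      rintro _ ⟨k, rfl⟩
      exact hHinv.pow_mem _ v hvH
    have hZle : finrank F ↥(Submodule.span F (Set.range (fun k : Fin i => (y ^ (k : ℕ)) v))) ≤ i := by
      have := finrank_range_le_card (R := F) (fun k : Fin i => (y ^ (k : ℕ)) v)
      simp only [Fintype.card_fin] at this
      exact this
    have hZne : Submodule.span F (Set.range (fun k : Fin i => (y ^ (k : ℕ)) v)) ≠ ⊥ := by
      intro h
      rw [h, Submodule.mem_bot] at hvZ
      apply hvne
      rw [hvZ]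
      simp
    have hZd : finrank F ↥(Submodule.span F (Set.range (fun k : Fin i => (y ^ (k : ℕ)) v))) = i := by
      obtain ⟨k, hk⟩ := hdivU _ (le_trans hZH hHU) hZinv
      have hk0 : k ≠ 0 := by
        rintro rfl
        rw [mul_zero] at hk
        exact hZne (Submodule.finrank_eq_zero.mp hk)
      have : i ≤ i * k := Nat.le_mul_of_pos_right i (Nat.pos_of_ne_zero hk0)
      omega
    refine ⟨_, le_trans hZH hHU, hZinv, ?_, hZd⟩
    rcases hirr _ (le_trans hZH hHU) hZd _ inf_le_left
      (hZinv.inf (inv_orth r hr.pos y hy hiso _ hZinv)) with h | h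
    · exact (Cfsg.Agent.Lib.Helper98.Os.nonDeg_iff_disjoint hR _).mpr (disjoint_iff.mpr h)
    · exfalso
      have hti := inf_eq_left.mp h
      apply hvne
      exact LinearMap.BilinForm.mem_orthogonal_iff.mp (hti hvZ) v hvZ

end Cfsg.Agent.Lib.Helper26.Oh
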