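/-
Keystone K-Os-D (id 599601, architect helper98): the SYMMETRIC skew nilpotent model with prescribed
Jordan type (even parts paired) together with a totally singular subspace of dimension `⌊μ.sum / 2⌋`.
Adapted from helper75's `NdC` / `NdD`.
-/
import Cfsg.Agent.Lib.Helper98.Sy1
import Cfsg.Agent.Lib.Helper75.NdD

set_option autoImplicit false
set_option linter.unusedVariables false

namespace Cfsg.Agent.Lib.Helper26.Os

open Module Cfsg.Agent.Lib.Helper98.Sy Cfsg.Agent.Lib.Helper75.Nd

universe u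
variable {F : Type u} [Field F]

/-- `(V, B, M, X)` is a symmetric skew model of Jordan type `ν` (with `M ^ p = 0`) with a totally
singular subspace `X` of dimension `⌊ν.sum / 2⌋`. -/
def IsSymmModel {V : Type u} [AddCommGroup V] [Module F V] (B : LinearMap.BilinForm F V)
    (M : V →ₗ[F] V) (X : Submodule F V) (p : ℕ) (ν : Multiset ℕ) : Prop :=
  (∀ x y, B x y = B y x) ∧ (∀ x, (∀ y, B x y = 0) → x = 0) ∧ (∀ x y, B (M x) y = - B x (M y)) ∧
    M ^ p = 0 ∧
    (∀ k : ℕ, finrank F (LinearMap.ker (M ^ k)) = (ν.map (fun a => min a k)).sum) ∧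
    (∀ x ∈ X, B x x = 0) ∧ 2 * finrank F X + ν.sum % 2 = ν.sum

section Prod

variable {V₁ V₂ : Type u} [AddCommGroup V₁] [Module F V₁] [AddCommGroup V₂] [Module F V₂]

theorem finrank_prod_submodule [FiniteDimensional F V₁] [FiniteDimensional F V₂]
    (X₁ : Submodule F V₁) (X₂ : Submodule F V₂) :
    finrank F ↥(X₁.prod X₂) = finrank F X₁ + finrank F X₂ := by
  let e : ↥(X₁.prod X₂) ≃ₗ[F] (↥X₁ × ↥X₂) :=
    { toFun := fun z => (⟨z.1.1, z.2.1⟩, ⟨z.1.2, z.2.2⟩)
      map_add' := fun z w => rfl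
      map_smul' := fun c z => rfl
      invFun := fun z => ⟨(z.1.1, z.2.1), ⟨z.1.2, z.2.2⟩⟩
      left_inv := fun z => rfl
      right_inv := fun z => rfl }
  rw [e.finrank_eq, Module.finrank_prod]

/-- orthogonal sum of a model of even total size with any model -/
theorem IsSymmModel.prod [FiniteDimensional F V₁] [FiniteDimensional F V₂]
    {B₁ : LinearMap.BilinForm F V₁} {B₂ : LinearMap.BilinForm F V₂} {M₁ : V₁ →ₗ[F] V₁}
    {M₂ : V₂ →ₗ[F] V₂} {X₁ : Submodule F V₁} {X₂ : Submodule F V₂} {p : ℕ} {ν₁ ν₂ : Multiset ℕ}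
    (h₁ : IsSymmModel B₁ M₁ X₁ p ν₁) (hev : Even ν₁.sum) (h₂ : IsSymmModel B₂ M₂ X₂ p ν₂) :
    IsSymmModel (prodForm B₁ B₂) (M₁.prodMap M₂) (X₁.prod X₂) p (ν₁ + ν₂) := by
  obtain ⟨a1, n1, s1, z1, k1, t1, d1⟩ := h₁
  obtain ⟨a2, n2, s2, z2, k2, t2, d2⟩ := h₂
  refine ⟨?_, ?_, ?_, ?_, ?_, ?_, ?_⟩
  · intro x y
    rw [prodForm_apply, prodForm_apply, a1, a2]
  · intro x hx
    have h1 : x.1 = 0 := n1 _ (fun y => by
      have := hx (y, 0)
      simpa [prodForm_apply] using this)
    have h2' : x.2 = 0 := n2 _ (fun y => by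
      have := hx (0, y)
      simpa [prodForm_apply] using this)
    exact Prod.ext h1 h2'
  · intro x y
    simp only [prodForm_apply, LinearMap.prodMap_apply]
    rw [s1, s2]
    ring
  · rw [prodMap_pow', z1, z2, LinearMap.prodMap_zero]
  · intro k
    rw [prodMap_pow', finrank_ker_prodMap, k1, k2, Multiset.map_add, Multiset.sum_add]
  · intro x hx
    rw [Submodule.mem_prod] at hx
    rw [prodForm_apply, t1 _ hx.1, t2 _ hx.2, add_zero]
  · rw [finrank_prod_submodule, Multiset.sum_add]
    obtain ⟨c, hc⟩ := hev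
    omega

end Prod

/-- the symmetric pair form on `W × W` -/
noncomputable def symPairForm {W : Type u} [AddCommGroup W] [Module F W]
    (β : LinearMap.BilinForm F W) : LinearMap.BilinForm F (W × W) :=
  β.compl₁₂ (LinearMap.fst F W W) (LinearMap.snd F W W) +
    β.flip.compl₁₂ (LinearMap.snd F W W) (LinearMap.fst F W W)

theorem symPairForm_apply {W : Type u} [AddCommGroup W] [Module F W]
    (β : LinearMap.BilinForm F W) (x y : W × W) :
    symPairForm β x y = β x.1 y.2 + β y.1 x.2 := by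
  simp [symPairForm]

/-- the pair block (any `a`) -/
theorem isSymmModel_pair {a p : ℕ} (ha : 0 < a) (hap : a ≤ p) :
    ∃ (B : LinearMap.BilinForm F ((Fin a → F) × (Fin a → F)))
      (M : ((Fin a → F) × (Fin a → F)) →ₗ[F] ((Fin a → F) × (Fin a → F)))
      (X : Submodule F ((Fin a → F) × (Fin a → F))),
      IsSymmModel B M X p (a ::ₘ a ::ₘ 0) := by
  obtain ⟨β, M, hs, hsym, hnd, hz, hk⟩ := exists_block_model (F := F) a ha
  refine ⟨symPairForm β, M.prodMap M, (⊤ : Submodule F (Fin a → F)).prod ⊥, ?_, ?_, ?_, ?_, ?_,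
    ?_, ?_⟩
  · intro x y
    rw [symPairForm_apply, symPairForm_apply, add_comm]
  · intro x hx
    have h1 : x.1 = 0 := hnd _ (fun y => by
      have := hx (0, y)
      simpa [symPairForm_apply] using this)
    have h2 : x.2 = 0 := by
      apply hnd
      intro y
      have := hx (y, 0)
      have h3 : β y x.2 = 0 := by simpa [symPairForm_apply] using this
      rw [hsym y x.2, h3, mul_zero]
    exact Prod.ext h1 h2
  · intro x y
    simp only [symPairForm_apply, LinearMap.prodMap_apply]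
    rw [hs x.1 y.2, hs y.1 x.2]
    ring
  · obtain ⟨c, rfl⟩ := Nat.exists_eq_add_of_le hap
    rw [prodMap_pow', pow_add, hz, zero_mul, LinearMap.prodMap_zero]
  · intro k
    rw [prodMap_pow', finrank_ker_prodMap, hk k]
    simp
  · intro x hx
    rw [Submodule.mem_prod] at hx
    have h2 : x.2 = 0 := (Submodule.mem_bot F).mp hx.2
    rw [symPairForm_apply, h2]
    simp
  · rw [finrank_prod_submodule, finrank_top, finrank_bot, Module.finrank_fin_fun]
    simp only [Multiset.sum_cons, Multiset.sum_zero]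
    omega

/-! ### odd blocks -/

/-- the middle index of `Fin (2k+1)` -/
def mid (k : ℕ) : Fin (2 * k + 1) := ⟨k, by omega⟩

theorem rev_mid (k : ℕ) : Fin.rev (mid k) = mid k := by
  apply Fin.ext
  rw [Fin.val_rev]
  simp only [mid]
  omega

/-- the value of the block form on vectors vanishing below the middle -/
theorem blockForm_self_of_vanish (k : ℕ) (x : Fin (2 * k + 1) → F)
    (hx : ∀ i : Fin (2 * k + 1), (i : ℕ) < k → x i = 0) :
    blockForm (2 * k) x x = (-1) ^ k * x (mid k) ^ 2 := by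
  rw [blockForm_apply, Finset.sum_eq_single (mid k)]
  · rw [rev_mid]
    simp only [mid]
    ring
  · intro j _ hj
    have hjk : (j : ℕ) ≠ k := fun h => hj (Fin.ext h)
    rcases Nat.lt_or_gt_of_ne hjk with h | h
    · rw [hx j h]; ring
    · have h1 : ((Fin.rev j : Fin (2 * k + 1)) : ℕ) < k := by
        rw [Fin.val_rev]; omega
      rw [hx _ h1]; ring
  · intro h
    exact absurd (Finset.mem_univ _) h

/-- vectors in `ker (shift ^ j)` vanish in the coordinates `i` with `i + j ≤ 2k` -/
theorem apply_eq_zero_of_mem_ker (k j : ℕ) (x : Fin (2 * k + 1) → F)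
    (hx : x ∈ LinearMap.ker ((shift (2 * k) : (Fin (2 * k + 1) → F) →ₗ[F] _) ^ j))
    (i : Fin (2 * k + 1)) (hi : (i : ℕ) + j < 2 * k + 1) : x i = 0 :=
  (shift_pow_eq_zero_iff (2 * k) j x).mp (LinearMap.mem_ker.mp hx) i hi

/-- the scaled odd block: symmetric, nondegenerate, skew, nilpotent, with the right kernels -/
theorem scaled_block_props (k : ℕ) (c : F) (hc : c ≠ 0) :
    (∀ x y, (c • blockForm (F := F) (2 * k)) x y = (c • blockForm (F := F) (2 * k)) y x) ∧
    (∀ x, (∀ y, (c • blockForm (F := F) (2 * k)) x y = 0) → x = 0) ∧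
    (∀ x y, (c • blockForm (F := F) (2 * k)) (shift (2 * k) x) y =
      - (c • blockForm (F := F) (2 * k)) x (shift (2 * k) y)) := by
  refine ⟨?_, ?_, ?_⟩
  · intro x y
    rw [LinearMap.smul_apply, LinearMap.smul_apply, LinearMap.smul_apply, LinearMap.smul_apply,
      blockForm_symm (2 * k) y x]
    have h1 : (-1 : F) ^ (2 * k + 1 + 1) = 1 := by
      have : Even (2 * k + 1 + 1) := ⟨k + 1, by ring⟩
      exact this.neg_one_pow
    rw [h1, one_mul]
  · intro x hx
    apply blockForm_nondeg (2 * k) x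
    intro y
    have h1 := hx y
    rw [LinearMap.smul_apply, LinearMap.smul_apply, smul_eq_mul] at h1
    exact (mul_eq_zero.mp h1).resolve_left hc
  · intro x y
    rw [LinearMap.smul_apply, LinearMap.smul_apply, LinearMap.smul_apply, LinearMap.smul_apply,
      blockForm_skew, smul_neg]

/-- a single odd block -/
theorem isSymmModel_odd (k p : ℕ) (hap : 2 * k + 1 ≤ p) :
    ∃ (B : LinearMap.BilinForm F (Fin (2 * k + 1) → F))
      (M : (Fin (2 * k + 1) → F) →ₗ[F] (Fin (2 * k + 1) → F))
      (X : Submodule F (Fin (2 * k + 1) → F)),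
      IsSymmModel B M X p ((2 * k + 1) ::ₘ 0) := by
  obtain ⟨hsymm, hnd, hskew⟩ := scaled_block_props (F := F) k 1 one_ne_zero
  refine ⟨(1 : F) • blockForm (2 * k), shift (2 * k),
    LinearMap.ker ((shift (2 * k) : (Fin (2 * k + 1) → F) →ₗ[F] _) ^ k), hsymm, hnd, hskew, ?_,
    ?_, ?_, ?_⟩
  · obtain ⟨c, rfl⟩ := Nat.exists_eq_add_of_le hap
    rw [pow_add, shift_pow_top, zero_mul]
  · intro j
    rw [finrank_ker_shift_pow]
    simp
  · intro x hx
    rw [LinearMap.smul_apply, LinearMap.smul_apply, one_smul]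
    rw [blockForm_self_of_vanish k x (fun i hi => apply_eq_zero_of_mem_ker k k x hx i (by omega)),
      apply_eq_zero_of_mem_ker k k x hx (mid k) (by simp only [mid]; omega)]
    ring
  · rw [finrank_ker_shift_pow]
    simp only [Multiset.sum_cons, Multiset.sum_zero]
    have : min (2 * k + 1) k = k := by omega
    rw [this]
    omega

/-- two odd blocks (possibly of different sizes) -/
theorem isSymmModel_odd_odd (k k' p : ℕ) (hap : 2 * k + 1 ≤ p) (hap' : 2 * k' + 1 ≤ p) :
    ∃ (B : LinearMap.BilinForm F ((Fin (2 * k + 1) → F) × (Fin (2 * k' + 1) → F)))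
      (M : ((Fin (2 * k + 1) → F) × (Fin (2 * k' + 1) → F)) →ₗ[F]
        ((Fin (2 * k + 1) → F) × (Fin (2 * k' + 1) → F)))
      (X : Submodule F ((Fin (2 * k + 1) → F) × (Fin (2 * k' + 1) → F))),
      IsSymmModel B M X p ((2 * k + 1) ::ₘ (2 * k' + 1) ::ₘ 0) := by
  classical
  have hc : ((-1 : F) ^ k) ≠ 0 := pow_ne_zero _ (neg_ne_zero.mpr one_ne_zero)
  have hc' : (-((-1 : F) ^ k')) ≠ 0 := neg_ne_zero.mpr (pow_ne_zero _ (neg_ne_zero.mpr one_ne_zero))
  obtain ⟨a1, n1, s1⟩ := scaled_block_props (F := F) k ((-1 : F) ^ k) hc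
  obtain ⟨a2, n2, s2⟩ := scaled_block_props (F := F) k' (-((-1 : F) ^ k')) hc'
  set B₁ : LinearMap.BilinForm F (Fin (2 * k + 1) → F) := ((-1 : F) ^ k) • blockForm (2 * k)
    with hB₁
  set B₂ : LinearMap.BilinForm F (Fin (2 * k' + 1) → F) :=
    (-((-1 : F) ^ k')) • blockForm (2 * k') with hB₂
  set K₁ : Submodule F (Fin (2 * k + 1) → F) :=
    LinearMap.ker ((shift (2 * k) : (Fin (2 * k + 1) → F) →ₗ[F] _) ^ k) with hK₁
  set K₂ : Submodule F (Fin (2 * k' + 1) → F) :=
    LinearMap.ker ((shift (2 * k') : (Fin (2 * k' + 1) → F) →ₗ[F] _) ^ k') with hK₂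
  set e₁ : Fin (2 * k + 1) → F := Pi.single (mid k) 1 with he₁
  set e₂ : Fin (2 * k' + 1) → F := Pi.single (mid k') 1 with he₂
  -- the parametrisation of `X`
  set J : ((↥K₁ × ↥K₂) × F) →ₗ[F] ((Fin (2 * k + 1) → F) × (Fin (2 * k' + 1) → F)) :=
    (K₁.subtype.prodMap K₂.subtype).coprod (LinearMap.toSpanSingleton F _ (e₁, e₂)) with hJ
  have hJapp : ∀ z : (↥K₁ × ↥K₂) × F,
      J z = ((z.1.1 : Fin (2 * k + 1) → F) + z.2 • e₁, (z.1.2 : Fin (2 * k' + 1) → F) + z.2 • e₂) := by
    intro z
    rw [hJ, LinearMap.coprod_apply, LinearMap.prodMap_apply, LinearMap.toSpanSingleton_apply]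
    rfl
  have hmid₁ : ∀ x : ↥K₁, (x : Fin (2 * k + 1) → F) (mid k) = 0 := fun x =>
    apply_eq_zero_of_mem_ker k k (x : Fin (2 * k + 1) → F) x.2 (mid k) (by simp only [mid]; omega)
  have hmid₂ : ∀ y : ↥K₂, (y : Fin (2 * k' + 1) → F) (mid k') = 0 := fun y =>
    apply_eq_zero_of_mem_ker k' k' (y : Fin (2 * k' + 1) → F) y.2 (mid k')
      (by simp only [mid]; omega)
  have hJinj : Function.Injective J := by
    rw [injective_iff_map_eq_zero]
    intro z hz
    rw [hJapp] at hz
    have h1 := congrArg Prod.fst hz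
    have h2 := congrArg Prod.snd hz
    simp only [Prod.fst_zero, Prod.snd_zero] at h1 h2
    have ht : z.2 = 0 := by
      have h3 := congrFun h1 (mid k)
      rw [Pi.add_apply, hmid₁, zero_add, Pi.smul_apply, he₁, Pi.single_eq_same, smul_eq_mul,
        mul_one, Pi.zero_apply] at h3
      exact h3
    rw [ht, zero_smul, add_zero] at h1 h2
    refine Prod.ext (Prod.ext (Subtype.ext h1) (Subtype.ext h2)) ht
  refine ⟨prodForm B₁ B₂, (shift (2 * k)).prodMap (shift (2 * k')), LinearMap.range J, ?_, ?_, ?_,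
    ?_, ?_, ?_, ?_⟩
  · intro x y
    rw [prodForm_apply, prodForm_apply, a1, a2]
  · intro x hx
    have h1 : x.1 = 0 := n1 _ (fun y => by
      have := hx (y, 0)
      simpa [prodForm_apply] using this)
    have h2' : x.2 = 0 := n2 _ (fun y => by
      have := hx (0, y)
      simpa [prodForm_apply] using this)
    exact Prod.ext h1 h2'
  · intro x y
    simp only [prodForm_apply, LinearMap.prodMap_apply]
    rw [s1, s2]
    ring
  · have z1 : (shift (2 * k) : (Fin (2 * k + 1) → F) →ₗ[F] _) ^ p = 0 := by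
      obtain ⟨c, rfl⟩ := Nat.exists_eq_add_of_le hap
      rw [pow_add, shift_pow_top, zero_mul]
    have z2 : (shift (2 * k') : (Fin (2 * k' + 1) → F) →ₗ[F] _) ^ p = 0 := by
      obtain ⟨c, rfl⟩ := Nat.exists_eq_add_of_le hap'
      rw [pow_add, shift_pow_top, zero_mul]
    rw [prodMap_pow', z1, z2, LinearMap.prodMap_zero]
  · intro j
    rw [prodMap_pow', finrank_ker_prodMap, finrank_ker_shift_pow, finrank_ker_shift_pow]
    simp
  · rintro v ⟨z, rfl⟩
    rw [hJapp, prodForm_apply]
    simp only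
    have hv₁ : ∀ i : Fin (2 * k + 1), (i : ℕ) < k →
        ((z.1.1 : Fin (2 * k + 1) → F) + z.2 • e₁) i = 0 := by
      intro i hi
      have hne : i ≠ mid k := fun h => by rw [h] at hi; simp only [mid] at hi; omega
      rw [Pi.add_apply, apply_eq_zero_of_mem_ker k k _ z.1.1.2 i (by omega), Pi.smul_apply, he₁,
        Pi.single_eq_of_ne hne, smul_zero, add_zero]
    have hv₂ : ∀ i : Fin (2 * k' + 1), (i : ℕ) < k' →
        ((z.1.2 : Fin (2 * k' + 1) → F) + z.2 • e₂) i = 0 := by
      intro i hi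
      have hne : i ≠ mid k' := fun h => by rw [h] at hi; simp only [mid] at hi; omega
      rw [Pi.add_apply, apply_eq_zero_of_mem_ker k' k' _ z.1.2.2 i (by omega), Pi.smul_apply, he₂,
        Pi.single_eq_of_ne hne, smul_zero, add_zero]
    have hm₁ : ((z.1.1 : Fin (2 * k + 1) → F) + z.2 • e₁) (mid k) = z.2 := by
      rw [Pi.add_apply, hmid₁, zero_add, Pi.smul_apply, he₁, Pi.single_eq_same, smul_eq_mul,
        mul_one]
    have hm₂ : ((z.1.2 : Fin (2 * k' + 1) → F) + z.2 • e₂) (mid k') = z.2 := by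
      rw [Pi.add_apply, hmid₂, zero_add, Pi.smul_apply, he₂, Pi.single_eq_same, smul_eq_mul,
        mul_one]
    rw [hB₁, hB₂, LinearMap.smul_apply, LinearMap.smul_apply, LinearMap.smul_apply,
      LinearMap.smul_apply, blockForm_self_of_vanish k _ hv₁, blockForm_self_of_vanish k' _ hv₂,
      hm₁, hm₂, smul_eq_mul, smul_eq_mul]
    have e1 : (-1 : F) ^ k * (-1) ^ k = 1 := by
      rw [← pow_add, ← two_mul, pow_mul]; simp
    have e2 : (-1 : F) ^ k' * (-1) ^ k' = 1 := by
      rw [← pow_add, ← two_mul, pow_mul]; simp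
    calc (-1 : F) ^ k * ((-1) ^ k * z.2 ^ 2) + -(-1) ^ k' * ((-1) ^ k' * z.2 ^ 2)
        = ((-1 : F) ^ k * (-1) ^ k) * z.2 ^ 2 - ((-1 : F) ^ k' * (-1) ^ k') * z.2 ^ 2 := by ring
      _ = 0 := by rw [e1, e2]; ring
  · rw [LinearMap.finrank_range_of_inj hJinj, Module.finrank_prod, Module.finrank_prod,
      Module.finrank_self, hK₁, hK₂, finrank_ker_shift_pow, finrank_ker_shift_pow]
    simp only [Multiset.sum_cons, Multiset.sum_zero]
    have h1 : min (2 * k + 1) k = k := by omega
    have h2 : min (2 * k' + 1) k' = k' := by omega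
    rw [h1, h2]
    omega

theorem exists_symm_model_aux (p : ℕ) : ∀ (n : ℕ) (μ : Multiset ℕ), μ.card = n →
    (∀ a ∈ μ, 0 < a ∧ a ≤ p) → (∀ a : ℕ, Even a → Even (μ.count a)) →
    ∃ (V : Type u) (_ : AddCommGroup V) (_ : Module F V) (_ : FiniteDimensional F V)
      (B : LinearMap.BilinForm F V) (M : V →ₗ[F] V) (X : Submodule F V),
      IsSymmModel B M X p μ := by
  intro n
  induction n using Nat.strong_induction_on with
  | _ n ih =>
    intro μ hcard hμ1 hμ2
    by_cases h0 : μ = 0
    · subst h0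
      refine ⟨PUnit, inferInstance, inferInstance, inferInstance, 0, 0, ⊥, ?_⟩
      refine ⟨fun x y => rfl, fun x _ => Subsingleton.elim _ _, fun x y => by simp, ?_, ?_,
        fun x _ => rfl, ?_⟩
      · exact LinearMap.ext fun x => Subsingleton.elim _ _
      · intro k
        have : Subsingleton ↥(LinearMap.ker ((0 : PUnit.{u+1} →ₗ[F] PUnit.{u+1}) ^ k)) :=
          ⟨fun x y => Subtype.ext (Subsingleton.elim _ _)⟩
        rw [Module.finrank_zero_of_subsingleton]
        simp
      · rw [finrank_bot]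
        simp
    by_cases hev : ∃ a ∈ μ, Even a
    · -- an even part, occurring at least twice
      obtain ⟨a, ha, heva⟩ := hev
      obtain ⟨hapos, hap⟩ := hμ1 a ha
      have hc2 : 2 ≤ μ.count a := by
        have h1 := Multiset.count_pos.mpr ha
        rcases hμ2 a heva with ⟨c, hc⟩
        omega
      have ha' : a ∈ μ.erase a := by
        rw [← Multiset.count_pos, Multiset.count_erase_self]
        omega
      have hcons : a ::ₘ a ::ₘ (μ.erase a).erase a = μ := by
        rw [Multiset.cons_erase ha', Multiset.cons_erase ha]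
      have hc' : ((μ.erase a).erase a).card < n := by
        have h1 : μ.card = ((μ.erase a).erase a).card + 1 + 1 := by
          conv_lhs => rw [← hcons]
          rw [Multiset.card_cons, Multiset.card_cons]
        omega
      obtain ⟨V, i1, i2, i3, B, M, X, hm⟩ := ih _ hc' ((μ.erase a).erase a) rfl
        (fun b hb => hμ1 b (Multiset.mem_of_mem_erase (Multiset.mem_of_mem_erase hb)))
        (fun b hb => by
          by_cases hba : b = a
          · subst hba
            rw [Multiset.count_erase_self, Multiset.count_erase_self]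
            rcases hμ2 b hb with ⟨c, hc⟩
            exact ⟨c - 1, by omega⟩
          · rw [Multiset.count_erase_of_ne hba, Multiset.count_erase_of_ne hba]
            exact hμ2 b hb)
      obtain ⟨β, Mβ, Xβ, hβ⟩ := isSymmModel_pair (F := F) hapos hap
      refine ⟨((Fin a → F) × (Fin a → F)) × V, inferInstance, inferInstance, inferInstance,
        prodForm β B, Mβ.prodMap M, Xβ.prod X, ?_⟩
      have hsum : Even (a ::ₘ a ::ₘ (0 : Multiset ℕ)).sum := by
        simp only [Multiset.sum_cons, Multiset.sum_zero, add_zero]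
        exact ⟨a, rfl⟩
      have := hβ.prod hsum hm
      have he : (a ::ₘ a ::ₘ (0 : Multiset ℕ)) + (μ.erase a).erase a = μ := by
        rw [Multiset.cons_add, Multiset.cons_add, zero_add, hcons]
      rwa [he] at this
    · -- all parts are odd
      have hodd : ∀ a ∈ μ, Odd a := fun a ha =>
        Nat.not_even_iff_odd.mp (fun h => hev ⟨a, ha, h⟩)
      obtain ⟨a, ha⟩ := Multiset.exists_mem_of_ne_zero h0
      obtain ⟨hapos, hap⟩ := hμ1 a ha
      obtain ⟨k, hk⟩ := hodd a ha
      by_cases h1 : μ.erase a = 0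
      · -- a single odd block
        have hμ : μ = (2 * k + 1) ::ₘ 0 := by
          rw [← Multiset.cons_erase ha, h1, hk]
        obtain ⟨B, M, X, hm⟩ := isSymmModel_odd (F := F) k p (by omega)
        refine ⟨Fin (2 * k + 1) → F, inferInstance, inferInstance, inferInstance, B, M, X, ?_⟩
        rw [hμ]
        exact hm
      · -- two odd blocks
        obtain ⟨a', ha'⟩ := Multiset.exists_mem_of_ne_zero h1
        have ha'μ : a' ∈ μ := Multiset.mem_of_mem_erase ha'
        obtain ⟨ha'pos, ha'p⟩ := hμ1 a' ha'μ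
        obtain ⟨k', hk'⟩ := hodd a' ha'μ
        have hcons : a ::ₘ a' ::ₘ (μ.erase a).erase a' = μ := by
          rw [Multiset.cons_erase ha', Multiset.cons_erase ha]
        have hc' : ((μ.erase a).erase a').card < n := by
          have h1 : μ.card = ((μ.erase a).erase a').card + 1 + 1 := by
            conv_lhs => rw [← hcons]
            rw [Multiset.card_cons, Multiset.card_cons]
          omega
        obtain ⟨V, i1, i2, i3, B, M, X, hm⟩ := ih _ hc' ((μ.erase a).erase a') rfl
          (fun b hb => hμ1 b (Multiset.mem_of_mem_erase (Multiset.mem_of_mem_erase hb)))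
          (fun b hb => by
            have hba : b ≠ a := by
              rintro rfl
              exact (Nat.not_even_iff_odd.mpr (hodd b ha)) hb
            have hba' : b ≠ a' := by
              rintro rfl
              exact (Nat.not_even_iff_odd.mpr (hodd b ha'μ)) hb
            rw [Multiset.count_erase_of_ne hba', Multiset.count_erase_of_ne hba]
            exact hμ2 b hb)
        obtain ⟨β, Mβ, Xβ, hβ⟩ := isSymmModel_odd_odd (F := F) k k' p (by omega) (by omega)
        refine ⟨((Fin (2 * k + 1) → F) × (Fin (2 * k' + 1) → F)) × V, inferInstance, inferInstance,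
          inferInstance, prodForm β B, Mβ.prodMap M, Xβ.prod X, ?_⟩
        have hsum : Even ((2 * k + 1) ::ₘ (2 * k' + 1) ::ₘ (0 : Multiset ℕ)).sum := by
          simp only [Multiset.sum_cons, Multiset.sum_zero, add_zero]
          exact ⟨k + k' + 1, by ring⟩
        have := hβ.prod hsum hm
        have he : ((2 * k + 1) ::ₘ (2 * k' + 1) ::ₘ (0 : Multiset ℕ)) + (μ.erase a).erase a' = μ := by
          rw [Multiset.cons_add, Multiset.cons_add, zero_add, ← hk, ← hk', hcons]
        rwa [he] at this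

/-- **K-Os-D** -/
theorem exists_skew_model_symm {p : ℕ} (h2 : (2 : F) ≠ 0) (μ : Multiset ℕ)
    (hμ1 : ∀ a ∈ μ, 0 < a ∧ a ≤ p) (hμ2 : ∀ a : ℕ, Even a → Even (μ.count a)) :
    ∃ (V : Type u) (_ : AddCommGroup V) (_ : Module F V) (_ : FiniteDimensional F V)
      (B : LinearMap.BilinForm F V) (M : V →ₗ[F] V) (X : Submodule F V),
      (∀ x y, B x y = B y x) ∧ NonDeg B ⊤ ∧ (∀ x y, B (M x) y = - B x (M y)) ∧ M ^ p = 0 ∧
      (∀ k : ℕ, finrank F (LinearMap.ker (M ^ k)) = (μ.map (fun a => min a k)).sum) ∧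
      (∀ x ∈ X, B x x = 0) ∧ 2 * finrank F X + μ.sum % 2 = μ.sum := by
  obtain ⟨V, i1, i2, i3, B, M, X, hS, hnd, hs, hz, hk, hX, hd⟩ :=
    exists_symm_model_aux (F := F) p μ.card μ rfl hμ1 hμ2
  exact ⟨V, i1, i2, i3, B, M, X, hS, fun u _ h => hnd u (fun v => h v Submodule.mem_top), hs, hz,
    hk, hX, hd⟩

end Cfsg.Agent.Lib.Helper26.Os
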