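import Mathlib
import Cfsg.Agent.S1350
import Cfsg.Agent.Lib.Helper03.FrobSub
import Cfsg.Agent.Lib.Helper31.PConTrans
import Cfsg.Agent.Lib.Helper31.Transitivity
import Cfsg.Agent.Lib.Helper55.Uniq2

/-!
# K-1435-P2 (keystone 143504, parallel hand): `frob_centralizes` (Frobenius–Wielandt).
-/

set_option autoImplicit false

namespace Cfsg.Agent.Lib.Helper26.BG1435

open Cfsg Subgroup

variable {G : Type*} [Group G] [Finite G]

/-- KEYSTONE 143504  K-1435-P2  `frob_centralizes`. -/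
theorem frob_centralizes (hG : IsMinSimpleOddOrder G) {H K T : Subgroup G} (hH : IsCoatom H)
    (hKH : K ≤ H) (hp : (Nat.card K).Prime) (hpH : Nat.card K ∉ sigma H)
    (hfpf : sigmaCore H ⊓ centralizer (K : Set G) = ⊥)
    (hTH : T ≤ H) (hKT : K ≤ normalizer (T : Set G)) (hTnil : Group.IsNilpotent T)
    (hTcop : (Nat.card T).Coprime (Nat.card (sigmaCore H)))
    (hTK : ∀ x ∈ K, x ≠ 1 → T ⊓ centralizer ({x} : Set G) = ⊥) :
    T ≤ centralizer (sigmaCore H : Set G) := by
  classical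
  have hHall : IsPiHallOf (sigma H) (sigmaCore H) H := (Cfsg.Agent.S1350.result hG H hH).1
  have hσH : sigmaCore H ≤ H := hHall.1
  have hUn : ∀ e ∈ K, ∀ u ∈ T, e * u * e⁻¹ ∈ T := by
    intro e he u hu
    exact ((mem_normalizer_iff.mp (hKT he)) u).mp hu
  have hfp : ∀ e ∈ K, e ≠ 1 → ∀ u ∈ T, e * u = u * e → u = 1 := by
    intro e he he1 u hu hcomm
    have : u ∈ T ⊓ centralizer ({e} : Set G) :=
      ⟨hu, mem_centralizer_singleton_iff.mpr hcomm.symm⟩
    rw [hTK e he he1] at this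
    exact mem_bot.mp this
  have hN : H ≤ normalizer (sigmaCore H : Set G) :=
    Cfsg.Agent.Lib.Helper31.le_normalizer_piCoreOf (sigma H) H
  have hHn : ∀ x ∈ T ⊔ K, ∀ h ∈ sigmaCore H, x * h * x⁻¹ ∈ sigmaCore H := by
    intro x hx h hh
    exact ((mem_normalizer_iff.mp (hN ((sup_le hTH hKH) hx))) h).mp hh
  have hsolv : Group.IsSolvable (sigmaCore H) := by
    apply Cfsg.Agent.Lib.Helper55.ms_solvable hG
    intro h
    apply hH.1
    rw [eq_top_iff, ← h]; exact hσH
  have hpσ : ¬ Nat.card K ∣ Nat.card (sigmaCore H) := fun hd => hpH (hHall.2.1 _ hp hd)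
  have hcop : Nat.Coprime (Nat.card (sigmaCore H)) (Nat.card ↥(T ⊔ K)) := by
    have h1 : Nat.card (K ⊔ T : Subgroup G) ∣ Nat.card K * Nat.card T :=
      Cfsg.Agent.Lib.Helper31.card_sup_dvd_of_le_normalizer' K T hKT
    rw [sup_comm] at h1
    apply Nat.Coprime.coprime_dvd_right h1
    apply Nat.Coprime.mul_right
    · exact ((Nat.Prime.coprime_iff_not_dvd hp).mpr hpσ).symm
    · exact hTcop.symm
  have key := Cfsg.Agent.Lib.Helper03.FrobSub.wielandt_sub T K (sigmaCore H) hUn hfp hTnil hHn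
    hsolv hcop
  rw [hfpf, Subgroup.card_bot, one_pow, one_mul] at key
  have hc : 0 < Nat.card ↥(sigmaCore H ⊓ centralizer ((T ⊔ K : Subgroup G) : Set G)) :=
    Nat.card_pos
  have hle : Nat.card (sigmaCore H) ≤ Nat.card ↥(sigmaCore H ⊓ centralizer (T : Set G)) := by
    rw [← key]
    exact Nat.le_mul_of_pos_left _ (pow_pos hc _)
  have heq : sigmaCore H ⊓ centralizer (T : Set G) = sigmaCore H :=
    Subgroup.eq_of_le_of_card_ge inf_le_left hle
  intro t ht
  rw [mem_centralizer_iff]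
  intro s hs
  have hs' : s ∈ sigmaCore H ⊓ centralizer (T : Set G) := by rw [heq]; exact hs
  exact ((mem_centralizer_iff.mp hs'.2) t ht).symm

end Cfsg.Agent.Lib.Helper26.BG1435
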