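import Mathlib
import Cfsg.Agent.S1350
import Cfsg.Agent.S1417
import Cfsg.Agent.S1418
import Cfsg.Agent.Lib.Helper13.BG12B
import Cfsg.Agent.Lib.Helper83.BG11e
import Cfsg.Agent.Lib.Helper31.PConTrans

/-!
# K-1435-P5 (keystone 143507), part a: `exists_B_fixed` with the Frobenius–Wielandt leaf
(`frob_centralizes`, keystone 143504) as a hypothesis.
-/

set_option autoImplicit false

namespace Cfsg.Agent.Lib.Helper26.BG1435

open Cfsg Subgroup

variable {G : Type*} [Group G] [Finite G]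

/-- The statement of leaf 143504 (`frob_centralizes`) for fixed `H`, `K`. -/
def FrobStatement (H K : Subgroup G) : Prop :=
  ∀ T : Subgroup G, T ≤ H → K ≤ normalizer (T : Set G) → Group.IsNilpotent T →
    (Nat.card T).Coprime (Nat.card (sigmaCore H)) →
    (∀ x ∈ K, x ≠ 1 → T ⊓ centralizer ({x} : Set G) = ⊥) →
    T ≤ centralizer (sigmaCore H : Set G)

omit [Finite G] in
/-- a group of prime order is generated by each of its nontrivial elements: centralizers. -/
theorem centralizer_singleton_eq_of_prime_card [Finite G] {K : Subgroup G}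
    (hp : (Nat.card K).Prime)
    {x : G} (hx : x ∈ K) (hx1 : x ≠ 1) :
    centralizer ({x} : Set G) = centralizer (K : Set G) := by
  have hz : zpowers x = K := by
    have hle : zpowers x ≤ K := (zpowers_le).mpr hx
    apply Subgroup.eq_of_le_of_card_ge hle
    have hdvd : Nat.card (zpowers x) ∣ Nat.card K := Subgroup.card_dvd_of_le hle
    rcases (Nat.dvd_prime hp).mp hdvd with h1 | h1
    · exfalso
      rw [Nat.card_zpowers] at h1
      exact hx1 (orderOf_eq_one_iff.mp h1)
    · exact h1.ge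
  rw [← hz, zpowers_eq_closure, centralizer_closure]

/-- K-1435-P5 with the Frobenius–Wielandt leaf as a hypothesis. -/
theorem exists_B_fixed_of_frob (hG : IsMinSimpleOddOrder G) {H K X : Subgroup G} {r : ℕ}
    (hH : IsCoatom H)
    (hKH : K ≤ H) (hp : (Nat.card K).Prime) (hpH : Nat.card K ∉ sigma H)
    (hfrob : FrobStatement H K) (hτ : r ∈ tau2 H)
    (hXH : X ≤ H) (hXp : IsPGroup r X) (hX1 : X ≠ ⊥) (hKX : K ≤ normalizer (X : Set G)) :
    ∃ (B : Subgroup G) (a x' : G), IsMulCommutative B ∧ K ≤ normalizer (B : Set G) ∧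
      a ∈ B ∧ a ∈ X ∧ a ≠ 1 ∧ x' ∈ B ∧ orderOf x' = r ∧ x' ∈ centralizer (K : Set G) ∧
      Nat.card B = r ^ 2 ∧ (∀ b ∈ B, b ^ r = 1) := by
  classical
  have hr : r.Prime := hτ.1
  have : Fact r.Prime := ⟨hr⟩
  have hrσ : r ∉ sigma H := hτ.2.1
  have hHall : IsPiHallOf (sigma H) (sigmaCore H) H := (Cfsg.Agent.S1350.result hG H hH).1
  -- Step 1: a complement `E ⊇ X ⊔ K` of `H_σ`
  have hXKH : X ⊔ K ≤ H := sup_le hXH hKH
  have hprimes : ∀ q : ℕ, q.Prime → q ∣ Nat.card (X ⊔ K : Subgroup G) → q ∉ sigma H := by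
    intro q hq hqd
    have h1 : Nat.card (K ⊔ X : Subgroup G) ∣ Nat.card K * Nat.card X :=
      Cfsg.Agent.Lib.Helper31.card_sup_dvd_of_le_normalizer' K X hKX
    rw [sup_comm] at hqd
    rcases (Nat.Prime.dvd_mul hq).mp (hqd.trans h1) with h2 | h2
    · have : q = Nat.card K := (Nat.prime_dvd_prime_iff_eq hq hp).mp h2
      rw [this]; exact hpH
    · obtain ⟨n, hn⟩ := IsPGroup.iff_card.mp hXp
      rw [hn] at h2
      have : q = r := (Nat.prime_dvd_prime_iff_eq hq hr).mp (hq.dvd_of_dvd_pow h2)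
      rw [this]; exact hrσ
  obtain ⟨E, hE, hXKE⟩ :=
    Cfsg.Agent.Lib.Helper13.BG12.exists_complIn_ge hG hH hHall hXKH hprimes
  have hXE : X ≤ E := le_sup_left.trans hXKE
  have hKE : K ≤ E := le_sup_right.trans hXKE
  -- Step 2: `B ≤ E` elementary abelian of order `r²`
  obtain ⟨B, hBE, hBel, hBcard⟩ :=
    Cfsg.Agent.Lib.Helper13.BG12.exists_elemAb_sq_le_compl hG hH hHall hτ hE
  have hEH : E ≤ H := hE.1
  have hBH : B ≤ H := hBE.trans hEH
  -- Step 3: S1418
  have h18 := (Cfsg.Agent.S1418.result hG H hH E hE r hτ B ⟨hBE, hBel, hBcard⟩).1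
  have hKB : K ≤ normalizer (B : Set G) := hKE.trans h18.1
  -- the element `a`
  have hXcard : r ∣ Nat.card X := by
    obtain ⟨n, hn⟩ := IsPGroup.iff_card.mp hXp
    rw [hn]
    have hn0 : n ≠ 0 := by
      rintro rfl
      rw [pow_zero] at hn
      exact hX1 (Subgroup.card_eq_one.mp hn)
    exact dvd_pow_self r hn0
  obtain ⟨a', ha'⟩ := exists_prime_orderOf_dvd_card' (G := X) r hXcard
  have haord : orderOf (a' : G) = r := by rw [Subgroup.orderOf_coe]; exact ha'
  have ha1 : (a' : G) ≠ 1 := by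
    intro h
    rw [h, orderOf_one] at haord
    exact hr.one_lt.ne haord
  have haB : (a' : G) ∈ B := by
    have hzle : zpowers (a' : G) ≤ E := (zpowers_le).mpr (hXE a'.2)
    have hzc : Nat.card (zpowers (a' : G)) = r := by rw [Nat.card_zpowers]; exact haord
    exact h18.2 _ hzle hzc (mem_zpowers _)
  -- Step 4: S1417
  have h17 : sigmaCore H ⊓ centralizer (B : Set G) = ⊥ :=
    (Cfsg.Agent.S1417.result hG H hH r hτ B ⟨hBH, hBel, hBcard⟩).2.2.2.1
  -- Step 5
  have hex : ∃ x' ∈ B, x' ∈ centralizer (K : Set G) ∧ x' ≠ 1 := by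
    by_contra hcon
    have hBK : B ⊓ centralizer (K : Set G) = ⊥ := by
      rw [eq_bot_iff]
      intro y hy
      rw [mem_bot]
      by_contra hy1
      exact hcon ⟨y, hy.1, hy.2, hy1⟩
    have hBnil : Group.IsNilpotent B :=
      ⟨⟨1, Subgroup.upperCentralSeries_one_eq_top_iff.mpr hBel.1⟩⟩
    have hcop : (Nat.card B).Coprime (Nat.card (sigmaCore H)) := by
      rw [hBcard]
      apply Nat.Coprime.pow_left
      rw [Nat.Prime.coprime_iff_not_dvd hr]
      intro hd
      exact hrσ (hHall.2.1 r hr hd)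
    have hTK : ∀ x ∈ K, x ≠ 1 → B ⊓ centralizer ({x} : Set G) = ⊥ := by
      intro x hx hx1
      rw [centralizer_singleton_eq_of_prime_card hp hx hx1]; exact hBK
    have hBc : B ≤ centralizer (sigmaCore H : Set G) := hfrob B hBH hKB hBnil hcop hTK
    have hσle : sigmaCore H ≤ centralizer (B : Set G) := by
      intro s hs
      rw [mem_centralizer_iff]
      intro b hb
      have := (mem_centralizer_iff.mp (hBc hb)) s hs
      exact this.symm
    have hσbot : sigmaCore H = ⊥ := by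
      rw [eq_bot_iff, ← h17]
      exact le_inf le_rfl hσle
    have hH1 : H ≠ ⊥ := by
      intro h
      have hK1 : K = ⊥ := by rw [eq_bot_iff, ← h]; exact hKH
      have : Nat.card K = 1 := by rw [hK1]; exact Subgroup.card_bot
      rw [this] at hp
      exact Nat.not_prime_one hp
    exact Cfsg.Agent.Lib.Helper83.BG11.sigmaCore_ne_bot hG hH hH1 hσbot
  obtain ⟨x', hx'B, hx'K, hx'1⟩ := hex
  have hx'r : x' ^ r = 1 := hBel.2 x' hx'B
  have hx'ord : orderOf x' = r := by
    have hd : orderOf x' ∣ r := orderOf_dvd_of_pow_eq_one hx'r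
    rcases (Nat.dvd_prime hr).mp hd with h1 | h1
    · exact absurd (orderOf_eq_one_iff.mp h1) hx'1
    · exact h1
  exact ⟨B, (a' : G), x', hBel.1, hKB, haB, a'.2, ha1, hx'B, hx'ord, hx'K, hBcard, hBel.2⟩

end Cfsg.Agent.Lib.Helper26.BG1435
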