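import Mathlib
import Cfsg.Agent.Lib.Helper26.BG1435P5a
import Cfsg.Agent.Lib.Helper26.BG1435P2

/-!
# K-1435-P5 (keystone 143507): `exists_B_fixed`.
-/

set_option autoImplicit false

namespace Cfsg.Agent.Lib.Helper26.BG1435

open Cfsg Subgroup

variable {G : Type*} [Group G] [Finite G]

/-- KEYSTONE 143507  K-1435-P5  `exists_B_fixed`. -/
theorem exists_B_fixed (hG : IsMinSimpleOddOrder G) {H K X : Subgroup G} {r : ℕ} (hH : IsCoatom H)
    (hKH : K ≤ H) (hp : (Nat.card K).Prime) (hpH : Nat.card K ∉ sigma H)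
    (hfpf : sigmaCore H ⊓ centralizer (K : Set G) = ⊥) (hτ : r ∈ tau2 H)
    (hXH : X ≤ H) (hXp : IsPGroup r X) (hX1 : X ≠ ⊥) (hKX : K ≤ normalizer (X : Set G)) :
    ∃ (B : Subgroup G) (a x' : G), IsMulCommutative B ∧ K ≤ normalizer (B : Set G) ∧
      a ∈ B ∧ a ∈ X ∧ a ≠ 1 ∧ x' ∈ B ∧ orderOf x' = r ∧ x' ∈ centralizer (K : Set G) ∧
      Nat.card B = r ^ 2 ∧ (∀ b ∈ B, b ^ r = 1) :=
  exists_B_fixed_of_frob hG hH hKH hp hpH
    (fun _T hTH hKT hTnil hTcop hTK =>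
      frob_centralizes hG hH hKH hp hpH hfpf hTH hKT hTnil hTcop hTK)
    hτ hXH hXp hX1 hKX

end Cfsg.Agent.Lib.Helper26.BG1435
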