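import Mathlib
import Cfsg.Prelude.Def_Transfer
import Cfsg.Agent.Lib.Helper26.BQL3

/-!
# K-BQ pack (S3911), leaf L5 `card_min_supplement`, modulo nilpotency (leaf L2)

`card_min_supplement_of_nilpotent`: the order of a minimal supplement `A0` of `M` in `H`, with the
nilpotency of `A0` (leaf L2) as a hypothesis.
-/

set_option autoImplicit false
open Cfsg

namespace Cfsg.Agent.Lib.Helper26.BQ

/-- the order of the abelian lift of an abelian subgroup of order `n` of `G ⧸ M`, `m = card M`. -/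
def liftCard (m n : ℕ) : ℕ := n * ∏ p ∈ n.primeFactors ∩ m.primeFactors, p ^ m.factorization p

/-- in a finite cyclic group, divisibility of orders of subgroups implies inclusion -/
theorem le_of_card_dvd_of_isCyclic {C : Type*} [Group C] [Finite C] [IsCyclic C] (R Q : Subgroup C)
    (h : Nat.card R ∣ Nat.card Q) : R ≤ Q := by
  classical
  have : Fintype C := Fintype.ofFinite C
  intro x hx
  set d := Nat.card Q with hd
  have hdpos : 0 < d := Nat.card_pos
  have hxd : x ^ d = 1 := by
    obtain ⟨c, hc⟩ := h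
    have h1 : x ^ Nat.card R = 1 := by
      have h2 : ((⟨x, hx⟩ : ↥R) ^ Nat.card ↥R : ↥R) = 1 := pow_card_eq_one'
      have h3 : (((⟨x, hx⟩ : ↥R) ^ Nat.card ↥R : ↥R) : C) = ((1 : ↥R) : C) := by rw [h2]
      rw [Subgroup.coe_pow] at h3
      exact h3
    rw [hc, pow_mul, h1, one_pow]
  have hS : (Finset.univ.filter fun y : C => y ^ d = 1).card ≤ d :=
    IsCyclic.card_pow_eq_one_le hdpos
  have hQS : (Finset.univ.filter fun y : C => y ∈ Q) ⊆
      Finset.univ.filter fun y : C => y ^ d = 1 := by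
    intro y hy
    simp only [Finset.mem_filter, Finset.mem_univ, true_and] at hy ⊢
    have h2 : ((⟨y, hy⟩ : ↥Q) ^ Nat.card ↥Q : ↥Q) = 1 := pow_card_eq_one'
    have h3 : (((⟨y, hy⟩ : ↥Q) ^ Nat.card ↥Q : ↥Q) : C) = ((1 : ↥Q) : C) := by rw [h2]
    rw [Subgroup.coe_pow] at h3
    exact h3
  have hQcard : (Finset.univ.filter fun y : C => y ∈ Q).card = d := by
    rw [hd, Nat.card_eq_fintype_card, Fintype.card_subtype]
  have heq := Finset.eq_of_subset_of_card_le hQS (by rw [hQcard]; exact hS)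
  have hx' : x ∈ Finset.univ.filter fun y : C => y ^ d = 1 := by simp [hxd]
  rw [← heq] at hx'
  simpa using hx'

/-- `card A0 = M.relIndex H * card (A0 ⊓ M)` -/
theorem card_eq_relIndex_mul {G : Type*} [Group G] [Finite G] (M H A0 : Subgroup G) [M.Normal]
    (hsup : A0 ⊔ M = H) : Nat.card ↥A0 = M.relIndex H * Nat.card ↥(A0 ⊓ M) := by
  have h1 : M.relIndex H = M.relIndex A0 := by
    rw [← hsup, Subgroup.relIndex_sup_right]
  have h2 : (⊥ : Subgroup G).relIndex (A0 ⊓ M) * (A0 ⊓ M).relIndex A0 =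
      (⊥ : Subgroup G).relIndex A0 := Subgroup.relIndex_mul_relIndex _ _ _ bot_le inf_le_left
  rw [Subgroup.relIndex_bot_left, Subgroup.relIndex_bot_left, Subgroup.inf_relIndex_left] at h2
  rw [h1, ← h2, mul_comm]

/-- a power of `p` dividing... the `p`-part of `P ⊓ M` for a Sylow `P` and a normal `M` -/
theorem pow_factorization_dvd_card_inf {G : Type*} [Group G] [Finite G] (M : Subgroup G) [M.Normal]
    (p : ℕ) [hp : Fact p.Prime] (P : Sylow p G) :
    p ^ (Nat.card ↥M).factorization p ∣ Nat.card ↥((P : Subgroup G) ⊓ M) := by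
  have hpp := hp.out
  obtain ⟨j, hj⟩ := (P.2.to_le (inf_le_left : (P : Subgroup G) ⊓ M ≤ P)).exists_card_eq
  have hPcard : Nat.card ↥(P : Subgroup G) = p ^ (Nat.card G).factorization p :=
    Sylow.card_eq_multiplicity P
  have h2 : (⊥ : Subgroup G).relIndex ((P : Subgroup G) ⊓ M) *
      ((P : Subgroup G) ⊓ M).relIndex (P : Subgroup G) = (⊥ : Subgroup G).relIndex (P : Subgroup G) :=
    Subgroup.relIndex_mul_relIndex _ _ _ bot_le inf_le_left
  rw [Subgroup.relIndex_bot_left, Subgroup.relIndex_bot_left, Subgroup.inf_relIndex_left] at h2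
  have hdvd : M.relIndex (P : Subgroup G) ∣ M.index := Subgroup.relIndex_dvd_index_of_normal _ _
  have hrdvd : M.relIndex (P : Subgroup G) ∣ p ^ (Nat.card G).factorization p := by
    rw [← hPcard, ← h2]
    exact Dvd.intro_left _ rfl
  obtain ⟨r, -, hr⟩ := (Nat.dvd_prime_pow hpp).1 hrdvd
  rw [hj, hr, hPcard, ← pow_add] at h2
  have hjr : j + r = (Nat.card G).factorization p := Nat.pow_right_injective hpp.two_le h2
  have hidx0 : M.index ≠ 0 := Subgroup.index_ne_zero_of_finite
  have hm0 : Nat.card ↥M ≠ 0 := Nat.card_pos.ne'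
  have h3 : (Nat.card G).factorization p =
      (Nat.card ↥M).factorization p + M.index.factorization p := by
    rw [← Subgroup.card_mul_index M, Nat.factorization_mul hm0 hidx0]
    rfl
  have h4 : r ≤ M.index.factorization p := by
    rw [hr] at hdvd
    exact (hpp.pow_dvd_iff_le_factorization hidx0).1 hdvd
  rw [hj]
  exact pow_dvd_pow p (by omega)

/-- elements of `p`-power order of `H` lie in `M` when `p ∤ M.relIndex H` -/
theorem mem_of_orderOf_pow_of_not_dvd {G : Type*} [Group G] [Finite G] (M H : Subgroup G) [M.Normal]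
    (p : ℕ) [hp : Fact p.Prime] (hpn : ¬ p ∣ M.relIndex H) {x : G} (hx : x ∈ H) {k : ℕ}
    (hk : orderOf x = p ^ k) : x ∈ M := by
  have h1 : (⟨x, hx⟩ : ↥H) ^ (M.subgroupOf H).index ∈ M.subgroupOf H :=
    Subgroup.pow_index_mem (M.subgroupOf H) _
  have h2 : x ^ M.relIndex H ∈ M := by
    rw [Subgroup.mem_subgroupOf] at h1
    exact_mod_cast h1
  have hcop : (M.relIndex H).Coprime (orderOf x) := by
    rw [hk]
    exact Nat.Coprime.pow_right _ ((Nat.Prime.coprime_iff_not_dvd hp.out).2 hpn).symm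
  obtain ⟨c, hc⟩ := exists_pow_eq_self_of_coprime hcop
  rw [← hc]
  exact Subgroup.pow_mem _ h2 c

/-- a Sylow subgroup `Q` of `A0` that is trivial forces `p ∤ card A0` -/
theorem not_dvd_card_of_sylow_eq_bot {A : Type*} [Group A] [Finite A] (p : ℕ) [hp : Fact p.Prime]
    (Q : Sylow p A) (hQ : (Q : Subgroup A) = ⊥) : ¬ p ∣ Nat.card A := by
  intro hdvd
  exact Sylow.ne_bot_of_dvd_card Q hdvd hQ

/-- the `p`-adic valuation of `card (A0 ⊓ M)` -/
theorem factorization_card_inf {G : Type*} [Group G] [Finite G]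
    (s3908 : ∀ (p : ℕ) [Fact p.Prime], p ≠ 2 → ∀ P : Sylow p G,
      IsCyclic ↥(P : Subgroup G) ∨ ∀ x ∈ (P : Subgroup G), x ^ p = 1)
    (M H A0 : Subgroup G) [M.Normal]
    (s3909 : ∀ a : G, (∃ m ∈ M, orderOf m = orderOf a) → a ∈ M)
    (hM : Odd (Nat.card ↥M))
    (hsup : A0 ⊔ M = H) (hmin : ∀ X : Subgroup G, X ≤ A0 → X ⊔ M = H → X = A0)
    (hnil : Group.IsNilpotent ↥A0) (p : ℕ) (hpp : p.Prime) :
    (Nat.card ↥(A0 ⊓ M)).factorization p =
      if p ∣ M.relIndex H ∧ p ∣ Nat.card ↥M then (Nat.card ↥M).factorization p else 0 := by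
  have : Fact p.Prime := ⟨hpp⟩
  have hIM : Nat.card ↥(A0 ⊓ M) ∣ Nat.card ↥M := Subgroup.card_dvd_of_le inf_le_right
  have hIA : Nat.card ↥(A0 ⊓ M) ∣ Nat.card ↥A0 := Subgroup.card_dvd_of_le inf_le_left
  have hA0H : A0 ≤ H := hsup ▸ le_sup_left
  have hcardA := card_eq_relIndex_mul M H A0 hsup
  have htfae : Group.IsNilpotent ↥A0 ↔
      ∀ (p : ℕ) (_hp : Fact p.Prime) (P : Sylow p ↥A0), (↑P : Subgroup ↥A0).Normal :=
    (Group.isNilpotent_of_finite_tfae (G := ↥A0)).out 0 3
  have hSyl : ∀ (Q : Sylow p ↥A0), (Q : Subgroup ↥A0).Normal :=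
    fun Q => htfae.1 hnil p ⟨hpp⟩ Q
  obtain ⟨Q⟩ : Nonempty (Sylow p ↥A0) := inferInstance
  have hQn := hSyl Q
  -- if `Q` maps into `M` then `p ∤ card A0`
  have hkill : (Q : Subgroup ↥A0).map A0.subtype ≤ M → ¬ p ∣ Nat.card ↥A0 := fun hQM =>
    not_dvd_card_of_sylow_eq_bot p Q (sylow_eq_bot_of_le M H A0 hsup hmin p Q hQn hQM)
  by_cases hpm : p ∣ Nat.card ↥M
  · by_cases hpn : p ∣ M.relIndex H
    · -- case (iii)
      rw [if_pos ⟨hpn, hpm⟩]
      have hp2 : p ≠ 2 := by
        rintro rfl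
        exact (Nat.not_even_iff_odd.2 hM) (even_iff_two_dvd.2 hpm)
      have hQp : IsPGroup p ↥((Q : Subgroup ↥A0).map A0.subtype) := IsPGroup.map Q.2 _
      obtain ⟨P, hQP⟩ := hQp.exists_le_sylow
      have hQnotM : ¬ (Q : Subgroup ↥A0).map A0.subtype ≤ M := by
        intro hQM
        apply hkill hQM
        rw [hcardA]
        exact Dvd.dvd.mul_right hpn _
      rcases s3908 p hp2 P with hcyc | hexp
      · -- cyclic
        have hle : (P : Subgroup G) ⊓ M ≤ (Q : Subgroup ↥A0).map A0.subtype := by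
          set R' : Subgroup ↥(P : Subgroup G) := ((P : Subgroup G) ⊓ M).subgroupOf (P : Subgroup G)
            with hR'
          set Q' : Subgroup ↥(P : Subgroup G) :=
            ((Q : Subgroup ↥A0).map A0.subtype).subgroupOf (P : Subgroup G) with hQ'
          obtain ⟨i, hi⟩ := (P.2.to_subgroup R').exists_card_eq
          obtain ⟨j, hj⟩ := (P.2.to_subgroup Q').exists_card_eq
          rcases le_total i j with hij | hij
          · have hRQ : R' ≤ Q' :=
              le_of_card_dvd_of_isCyclic R' Q' (by rw [hi, hj]; exact pow_dvd_pow p hij)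
            intro x hx
            have hxP : x ∈ (P : Subgroup G) := hx.1
            have h1 : (⟨x, hxP⟩ : ↥(P : Subgroup G)) ∈ R' := by
              rw [hR', Subgroup.mem_subgroupOf]
              exact hx
            have h2 := hRQ h1
            rw [hQ', Subgroup.mem_subgroupOf] at h2
            exact h2
          · exfalso
            have hQR : Q' ≤ R' :=
              le_of_card_dvd_of_isCyclic Q' R' (by rw [hi, hj]; exact pow_dvd_pow p hij)
            apply hQnotM
            intro x hx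
            have hxP : x ∈ (P : Subgroup G) := hQP hx
            have h1 : (⟨x, hxP⟩ : ↥(P : Subgroup G)) ∈ Q' := by
              rw [hQ', Subgroup.mem_subgroupOf]
              exact hx
            have h2 := hQR h1
            rw [hR', Subgroup.mem_subgroupOf] at h2
            exact h2.2
        have hmapA : (Q : Subgroup ↥A0).map A0.subtype ≤ A0 := by
          rintro _ ⟨x, -, rfl⟩
          exact x.2
        have hle2 : (P : Subgroup G) ⊓ M ≤ A0 ⊓ M := le_inf (hle.trans hmapA) inf_le_right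
        have h1 : p ^ (Nat.card ↥M).factorization p ∣ Nat.card ↥(A0 ⊓ M) :=
          (pow_factorization_dvd_card_inf M p P).trans (Subgroup.card_dvd_of_le hle2)
        have hI0 : Nat.card ↥(A0 ⊓ M) ≠ 0 := Nat.card_pos.ne'
        have hm0 : Nat.card ↥M ≠ 0 := Nat.card_pos.ne'
        apply le_antisymm
        · exact (Nat.factorization_le_iff_dvd hI0 hm0).2 hIM p
        · exact (hpp.pow_dvd_iff_le_factorization hI0).1 h1
      · -- exponent p: contradiction
        exfalso
        obtain ⟨m0, hm0⟩ := exists_prime_orderOf_dvd_card' (G := ↥M) p hpm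
        have hPM : (P : Subgroup G) ≤ M := by
          intro a ha
          by_cases ha1 : a = 1
          · rw [ha1]; exact M.one_mem
          · have hoa : orderOf a = p := orderOf_eq_prime (hexp a ha) ha1
            exact s3909 a ⟨(m0 : G), m0.2, by rw [Subgroup.orderOf_coe, hm0, hoa]⟩
        have h1 : ¬ p ∣ (P : Subgroup G).index := Sylow.not_dvd_index P
        have h2 : M.index ∣ (P : Subgroup G).index := Subgroup.index_dvd_of_le hPM
        have h3 : M.relIndex H ∣ M.index := Subgroup.relIndex_dvd_index_of_normal _ _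
        exact h1 ((hpn.trans h3).trans h2)
    · -- case (ii)
      rw [if_neg (fun h => hpn h.1)]
      have hQM : (Q : Subgroup ↥A0).map A0.subtype ≤ M := by
        rintro _ ⟨x, hxQ, rfl⟩
        obtain ⟨k, hk⟩ := (IsPGroup.iff_orderOf.1 Q.2) ⟨x, hxQ⟩
        have hk' : orderOf ((x : ↥A0) : G) = p ^ k := by
          rw [Subgroup.orderOf_coe]
          rw [← hk, ← Subgroup.orderOf_coe (⟨x, hxQ⟩ : ↥(Q : Subgroup ↥A0))]
        exact mem_of_orderOf_pow_of_not_dvd M H p hpn (hA0H x.2) hk'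
      have hnd : ¬ p ∣ Nat.card ↥(A0 ⊓ M) := fun h => hkill hQM (h.trans hIA)
      exact Nat.factorization_eq_zero_of_not_dvd hnd
  · -- case (i)
    rw [if_neg (fun h => hpm h.2)]
    exact Nat.factorization_eq_zero_of_not_dvd (fun h => hpm (h.trans hIM))

/-- LEAF L5 modulo nilpotency (leaf L2). -/
theorem card_min_supplement_of_nilpotent {G : Type*} [Group G] [Finite G]
    (s3908 : ∀ (p : ℕ) [Fact p.Prime], p ≠ 2 → ∀ P : Sylow p G,
      IsCyclic ↥(P : Subgroup G) ∨ ∀ x ∈ (P : Subgroup G), x ^ p = 1)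
    (M H A0 : Subgroup G) [M.Normal]
    (s3909 : ∀ a : G, (∃ m ∈ M, orderOf m = orderOf a) → a ∈ M)
    (hM : Odd (Nat.card ↥M))
    (hsup : A0 ⊔ M = H) (hmin : ∀ X : Subgroup G, X ≤ A0 → X ⊔ M = H → X = A0)
    (hnil : Group.IsNilpotent ↥A0) :
    Nat.card ↥A0 = liftCard (Nat.card ↥M) (M.relIndex H) := by
  have key := factorization_card_inf s3908 M H A0 s3909 hM hsup hmin hnil
  rw [card_eq_relIndex_mul M H A0 hsup, liftCard]
  congr 1
  have hI0 : Nat.card ↥(A0 ⊓ M) ≠ 0 := Nat.card_pos.ne'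
  have hm0 : Nat.card ↥M ≠ 0 := Nat.card_pos.ne'
  have hsupp : (Nat.card ↥(A0 ⊓ M)).primeFactors =
      (M.relIndex H).primeFactors ∩ (Nat.card ↥M).primeFactors := by
    ext p
    constructor
    · intro hp
      have hpp : p.Prime := Nat.prime_of_mem_primeFactors hp
      have hpd : p ∣ Nat.card ↥(A0 ⊓ M) := Nat.dvd_of_mem_primeFactors hp
      have hpos : 0 < (Nat.card ↥(A0 ⊓ M)).factorization p :=
        hpp.factorization_pos_of_dvd hI0 hpd
      rw [key p hpp] at hpos
      by_cases hc : p ∣ M.relIndex H ∧ p ∣ Nat.card ↥M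
      · rw [Finset.mem_inter]
        have hn0 : M.relIndex H ≠ 0 := by
          intro h0
          rw [h0] at hc
          have := card_eq_relIndex_mul M H A0 hsup
          rw [h0, zero_mul] at this
          exact (Nat.card_pos (α := ↥A0)).ne' this
        exact ⟨Nat.mem_primeFactors.2 ⟨hpp, hc.1, hn0⟩, Nat.mem_primeFactors.2 ⟨hpp, hc.2, hm0⟩⟩
      · rw [if_neg hc] at hpos
        exact absurd hpos (lt_irrefl 0)
    · intro hp
      rw [Finset.mem_inter] at hp
      have hpp : p.Prime := Nat.prime_of_mem_primeFactors hp.1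
      have hc : p ∣ M.relIndex H ∧ p ∣ Nat.card ↥M :=
        ⟨Nat.dvd_of_mem_primeFactors hp.1, Nat.dvd_of_mem_primeFactors hp.2⟩
      have h1 := key p hpp
      rw [if_pos hc] at h1
      have hpos : 0 < (Nat.card ↥M).factorization p := hpp.factorization_pos_of_dvd hm0 hc.2
      rw [← h1] at hpos
      rw [← Nat.support_factorization, Finsupp.mem_support_iff]
      exact hpos.ne'
  rw [← hsupp]
  conv_lhs => rw [← Nat.prod_factorization_pow_eq_self hI0]
  rw [Nat.prod_factorization_eq_prod_primeFactors]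
  refine Finset.prod_congr rfl fun p hp => ?_
  have hpp : p.Prime := Nat.prime_of_mem_primeFactors hp
  have hp' := hp
  rw [hsupp, Finset.mem_inter] at hp'
  have hc : p ∣ M.relIndex H ∧ p ∣ Nat.card ↥M :=
    ⟨Nat.dvd_of_mem_primeFactors hp'.1, Nat.dvd_of_mem_primeFactors hp'.2⟩
  rw [key p hpp, if_pos hc]

end Cfsg.Agent.Lib.Helper26.BQ
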