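import Cfsg.Agent.Lib.Helper11.Syl22Defs

/-!
# S4346 pack, leaf K-A4 (434605): `#{T : P ⊓ R ≤ T} ≡ 1 mod 3` and `≥ 2`
-/

set_option autoImplicit false

namespace Cfsg.Agent.Lib.Helper26.Syl22A4

open Cfsg.Agent.Lib.Helper11.Syl22

theorem card_fixed {G : Type*} [Group G] [Finite G] (h22 : Nat.card (Sylow 3 G) = 22)
    {P R : Sylow 3 G} (h : Adj P R) :
    Nat.card {T : Sylow 3 G // (P : Subgroup G) ⊓ (R : Subgroup G) ≤ (T : Subgroup G)} % 3 = 1 ∧
    2 ≤ Nat.card {T : Sylow 3 G // (P : Subgroup G) ⊓ (R : Subgroup G) ≤ (T : Subgroup G)} := by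
  have hfact : Fact (Nat.Prime 3) := ⟨Nat.prime_three⟩
  set D : Subgroup G := (P : Subgroup G) ⊓ (R : Subgroup G) with hD
  have hDp : IsPGroup 3 D := P.2.to_le inf_le_left
  -- the fixed-point set of `D` on `Sylow 3 G`
  have hset : MulAction.fixedPoints D (Sylow 3 G) = {T : Sylow 3 G | D ≤ (T : Subgroup G)} := by
    ext T
    exact hDp.sylow_mem_fixedPoints_iff
  have hmod := hDp.card_modEq_card_fixedPoints (Sylow 3 G)
  rw [hset, h22] at hmod
  have hcard : Nat.card {T : Sylow 3 G // D ≤ (T : Subgroup G)} =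
      Nat.card ↥{T : Sylow 3 G | D ≤ (T : Subgroup G)} := rfl
  -- `P ≠ R`
  have hne : P ≠ R := by
    intro hPR
    have h1 : 3 * Nat.card ↥((P : Subgroup G) ⊓ (R : Subgroup G)) = Nat.card ↥(P : Subgroup G) := h
    rw [← hPR, inf_idem] at h1
    have hpos : 0 < Nat.card ↥(P : Subgroup G) := Nat.card_pos
    omega
  refine ⟨?_, ?_⟩
  · rw [hcard]
    have := hmod
    unfold Nat.ModEq at this
    omega
  · have hP : D ≤ (P : Subgroup G) := inf_le_left
    have hR : D ≤ (R : Subgroup G) := inf_le_right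
    have hinj : Function.Injective
        (fun b : Bool => (if b then ⟨P, hP⟩ else ⟨R, hR⟩ :
          {T : Sylow 3 G // D ≤ (T : Subgroup G)})) := by
      intro a b hab
      cases a <;> cases b <;> simp_all [Subtype.ext_iff]
    have := Nat.card_le_card_of_injective _ hinj
    simpa using this

end Cfsg.Agent.Lib.Helper26.Syl22A4
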