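import Cfsg.Agent.Lib.Helper11.ZassDefs
import Cfsg.Agent.Lib.Helper77.PermSmall
import Cfsg.Agent.Lib.Helper03.CentralTransfer

set_option autoImplicit false

/-!
# K-S0690-13 `no_few_points`: a perfect group with cyclic odd Sylow subgroups has more than four
subgroups of order three, if it has any
-/

namespace Cfsg.Agent.Lib.Helper26.Zass

open Cfsg.Agent.Lib.Helper11.Zass

universe u

/-- a homomorphism from a perfect group to a solvable group is trivial. -/
lemma hom_trivial_of_perfect {G H : Type*} [Group G] [Group H] [Group.IsSolvable H]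
    (hperf : commutator G = ⊤) (f : G →* H) (g : G) : f g = 1 := by
  have hr : f.range = ⊥ := by
    by_contra hne
    have hlt := Group.IsSolvable.commutator_lt_of_ne_bot hne
    have : ⁅f.range, f.range⁆ = f.range := by
      rw [MonoidHom.range_eq_map, ← Subgroup.map_commutator, ← commutator_def, hperf]
    rw [this] at hlt
    exact lt_irrefl _ hlt
  have : f g ∈ f.range := ⟨g, rfl⟩
  rw [hr, Subgroup.mem_bot] at this
  exact this

/-- the conjugation action on the subgroups of order three. -/
noncomputable def conjPt {G : Type*} [Group G] (g : G) (A : Pt G) : Pt G :=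
  ⟨A.1.map (MulAut.conj g).toMonoidHom, by
    rw [Subgroup.card_map_of_injective (MulAut.conj g).injective]
    exact A.2⟩

noncomputable instance {G : Type*} [Group G] : MulAction G (Pt G) where
  smul := conjPt
  one_smul A := by
    apply Subtype.ext
    change A.1.map (MulAut.conj (1 : G)).toMonoidHom = A.1
    rw [map_one]
    exact Subgroup.map_id A.1
  mul_smul g h A := by
    apply Subtype.ext
    change A.1.map (MulAut.conj (g * h)).toMonoidHom
      = (A.1.map (MulAut.conj h).toMonoidHom).map (MulAut.conj g).toMonoidHom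
    rw [Subgroup.map_map, map_mul]
    rfl

lemma smul_pt_val {G : Type*} [Group G] (g : G) (A : Pt G) :
    (g • A).1 = A.1.map (MulAut.conj g).toMonoidHom := rfl

/-- **K-S0690-13.** -/
theorem no_few_points {G : Type u} [Group G] [Finite G] (hperf : commutator G = ⊤)
    (hodd : ∀ p : ℕ, p.Prime → p ≠ 2 → ∀ Q : Subgroup G, IsPGroup p Q → IsCyclic Q)
    (hne : Nonempty (Pt G)) (hcard : Nat.card (Pt G) ≤ 4) : False := by
  classical
  have : Fact (Nat.Prime 3) := ⟨Nat.prime_three⟩
  obtain ⟨A⟩ := hne
  -- every point is normal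
  have hsolv : Group.IsSolvable (Equiv.Perm (Pt G)) :=
    Cfsg.Agent.Lib.Helper77.solvable_perm_of_card_le_four hcard
  have hnorm : A.1.Normal := by
    constructor
    intro n hn g
    have h1 := hom_trivial_of_perfect hperf (MulAction.toPermHom G (Pt G)) g
    have h2 : g • A = A := by
      have := congrArg (fun e : Equiv.Perm (Pt G) => e A) h1
      exact this
    have h3 : (g • A).1 = A.1 := congrArg Subtype.val h2
    rw [smul_pt_val] at h3
    rw [← h3]
    exact ⟨n, hn, rfl⟩
  -- `G` centralises `A`
  have hsolvA : Group.IsSolvable (Equiv.Perm ↥A.1) :=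
    Cfsg.Agent.Lib.Helper77.solvable_perm_of_card_le_four (by rw [A.2]; norm_num)
  have hcent : ∀ (g : G) (a : G), a ∈ A.1 → g * a * g⁻¹ = a := by
    intro g a ha
    have h1 := hom_trivial_of_perfect hperf
      ((MulAut.toPerm ↥A.1).comp (MulAut.conjNormal (H := A.1))) g
    have h2 := congrArg (fun e : Equiv.Perm ↥A.1 => (e ⟨a, ha⟩ : G)) h1
    exact h2
  -- an element of order three
  have hntA : Nontrivial ↥A.1 := by
    rw [← Finite.one_lt_card_iff_nontrivial, A.2]
    norm_num
  obtain ⟨⟨x, hxA⟩, hx1⟩ := exists_ne (1 : ↥A.1)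
  have hx1' : x ≠ 1 := fun h => hx1 (Subtype.ext h)
  have hxord : orderOf x = 3 := by
    have hdvd : orderOf (⟨x, hxA⟩ : ↥A.1) ∣ 3 := by
      have h3 := orderOf_dvd_natCard (⟨x, hxA⟩ : ↥A.1)
      rwa [A.2] at h3
    rw [Subgroup.orderOf_mk] at hdvd
    rcases (Nat.dvd_prime Nat.prime_three).mp hdvd with h | h
    · exact absurd (orderOf_eq_one_iff.mp h) hx1'
    · exact h
  have hxZ : x ∈ Subgroup.center G := by
    rw [Subgroup.mem_center_iff]
    intro g
    have := hcent g x hxA
    rw [mul_inv_eq_iff_eq_mul] at this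
    exact this
  -- a Sylow 3-subgroup containing `x`
  have hpg : IsPGroup 3 (Subgroup.zpowers x) := by
    apply IsPGroup.of_card (n := 1)
    rw [Nat.card_zpowers, hxord, pow_one]
  obtain ⟨P, hP⟩ := hpg.exists_le_sylow
  have hxP : x ∈ (P : Subgroup G) := hP (Subgroup.mem_zpowers x)
  have hcyc : IsCyclic ↥(P : Subgroup G) := hodd 3 Nat.prime_three (by norm_num) P.1 P.2
  have hmem := Cfsg.Agent.Lib.Helper03.mem_commutator_sylow_of_mem_center_of_mem_commutator P x hxP
    hxZ (by rw [hperf]; exact Subgroup.mem_top x)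
  have hcomm : commutator ↥(P : Subgroup G) = ⊥ := by
    rw [commutator_def, Subgroup.commutator_eq_bot_iff_le_centralizer]
    intro a _
    rw [Subgroup.mem_centralizer_iff]
    intro b _
    obtain ⟨c, hc⟩ := hcyc.exists_generator
    obtain ⟨i, rfl⟩ := Subgroup.mem_zpowers_iff.mp (hc a)
    obtain ⟨j, rfl⟩ := Subgroup.mem_zpowers_iff.mp (hc b)
    exact (Commute.zpow_zpow_self c j i).eq
  rw [hcomm, Subgroup.mem_bot] at hmem
  exact hx1' (congrArg Subtype.val hmem)

end Cfsg.Agent.Lib.Helper26.Zass
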