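import Cfsg.Agent.Lib.Helper11.ZassDefs

set_option autoImplicit false

/-!
# K-S0690-12 `line_points`: a "line" of order 24 has exactly four points
-/

namespace Cfsg.Agent.Lib.Helper26.Zass

open Cfsg.Agent.Lib.Helper11.Zass

lemma factorization_24_3 : (24 : ℕ).factorization 3 = 1 := by
  have h : (24 : ℕ) = 3 ^ 1 * 8 := by norm_num
  have h8 : (8 : ℕ).factorization 3 = 0 := by
    apply Nat.factorization_eq_zero_of_not_dvd
    norm_num
  rw [h, Nat.factorization_mul (by norm_num) (by norm_num), Finsupp.add_apply,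
    Nat.Prime.factorization_pow Nat.prime_three, h8]
  simp

/-- the points on a subgroup `M` of order 24 correspond to its Sylow 3-subgroups. -/
noncomputable def ptEquivSylow {G : Type*} [Group G] [Finite G] (M : Subgroup G)
    (hM : Nat.card M = 24) : {C : Pt G // C.1 ≤ M} ≃ Sylow 3 ↥M := by
  haveI : Fact (Nat.Prime 3) := ⟨Nat.prime_three⟩
  refine
    { toFun := fun C => Sylow.ofCard (C.1.1.subgroupOf M) ?_
      invFun := fun P => ⟨⟨P.1.map M.subtype, ?_⟩, ?_⟩
      left_inv := ?_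
      right_inv := ?_ }
  · rw [hM, factorization_24_3, pow_one]
    exact (Nat.card_congr (Subgroup.subgroupOfEquivOfLe C.2).toEquiv).trans C.1.2
  · have h1 := P.card_eq_multiplicity
    rw [hM, factorization_24_3, pow_one] at h1
    exact (Nat.card_congr (Subgroup.equivMapOfInjective P.1 M.subtype
      (Subgroup.subtype_injective M)).toEquiv.symm).trans h1
  · exact Subgroup.map_subtype_le _
  · intro C
    apply Subtype.ext
    apply Subtype.ext
    exact Subgroup.map_subgroupOf_eq_of_le C.2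
  · intro P
    apply Sylow.ext
    rw [Sylow.coe_ofCard]
    exact Subgroup.comap_map_eq_self_of_injective (Subgroup.subtype_injective M) P.1

/-- **K-S0690-12.** -/
theorem line_points {G : Type*} [Group G] [Finite G] (A B : Pt G)
    (h : Nat.card (A.1 ⊔ B.1 : Subgroup G) = 24) :
    Nat.card {C : Pt G // C.1 ≤ A.1 ⊔ B.1} = 4 := by
  have : Fact (Nat.Prime 3) := ⟨Nat.prime_three⟩
  rw [Nat.card_congr (ptEquivSylow (A.1 ⊔ B.1) h)]
  have hmod := card_sylow_modEq_one 3 ↥(A.1 ⊔ B.1 : Subgroup G)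
  obtain ⟨P⟩ : Nonempty (Sylow 3 ↥(A.1 ⊔ B.1 : Subgroup G)) := inferInstance
  have hdvd := Sylow.card_dvd_index P
  have hP : Nat.card P = 3 := by
    have h1 := P.card_eq_multiplicity
    rwa [h, factorization_24_3, pow_one] at h1
  have hidx : (P : Subgroup ↥(A.1 ⊔ B.1 : Subgroup G)).index = 8 := by
    have := (P : Subgroup ↥(A.1 ⊔ B.1 : Subgroup G)).card_mul_index
    rw [h, hP] at this
    omega
  rw [hidx] at hdvd
  -- at least two points
  have hAB : A ≠ B := by
    rintro rfl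
    rw [sup_idem, A.2] at h
    norm_num at h
  have hge : 2 ≤ Nat.card (Sylow 3 ↥(A.1 ⊔ B.1 : Subgroup G)) := by
    rw [← Nat.card_congr (ptEquivSylow (A.1 ⊔ B.1) h)]
    have : Nontrivial {C : Pt G // C.1 ≤ A.1 ⊔ B.1} :=
      ⟨⟨⟨A, le_sup_left⟩, ⟨B, le_sup_right⟩, fun hcon => hAB (congrArg Subtype.val hcon)⟩⟩
    exact Finite.one_lt_card
  have hle : Nat.card (Sylow 3 ↥(A.1 ⊔ B.1 : Subgroup G)) ≤ 8 := Nat.le_of_dvd (by norm_num) hdvd
  have hmod' : Nat.card (Sylow 3 ↥(A.1 ⊔ B.1 : Subgroup G)) % 3 = 1 := hmod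
  interval_cases hn : Nat.card (Sylow 3 ↥(A.1 ⊔ B.1 : Subgroup G)) <;> simp_all

end Cfsg.Agent.Lib.Helper26.Zass
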