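import Cfsg.Agent.Lib.Helper11.ZassDefs

set_option autoImplicit false

/-!
# K-S0690-14 `pairs_le`: counting generating pairs of elements of order three
-/

namespace Cfsg.Agent.Lib.Helper26.Zass

open Cfsg.Agent.Lib.Helper11.Zass

lemma card_ne_one_of_card_three {H : Type*} [Group H] [Finite H] (h : Nat.card H = 3) :
    Nat.card {x : H // x ≠ 1} = 2 := by
  classical
  have := Fintype.ofFinite H
  rw [Nat.card_eq_fintype_card] at h ⊢
  rw [Fintype.card_subtype_compl, h, Fintype.card_subtype_eq]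

/-- **K-S0690-14.** -/
theorem pairs_le {G : Type*} [Group G] [Finite G] (D : Subgroup G)
    (hpts : Nat.card (Pt G) = 10)
    (hnon : ∀ A : Pt G, Nat.card {B : Pt G // (A.1 ⊔ B.1 : Subgroup G) = D} ≤ 3) :
    Nat.card {p : G × G // orderOf p.1 = 3 ∧ orderOf p.2 = 3 ∧
      Subgroup.closure {p.1, p.2} = D} ≤ 120 := by
  classical
  have := Fintype.ofFinite (Pt G)
  -- the target of the injection
  let T := Σ A : Pt G, Σ B : {B : Pt G // (A.1 ⊔ B.1 : Subgroup G) = D},
    {x : ↥A.1 // x ≠ 1} × {y : ↥B.1.1 // y ≠ 1}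
  let f : {p : G × G // orderOf p.1 = 3 ∧ orderOf p.2 = 3 ∧
      Subgroup.closure {p.1, p.2} = D} → T := fun p =>
    ⟨⟨Subgroup.zpowers p.1.1, by rw [Nat.card_zpowers]; exact p.2.1⟩,
      ⟨⟨⟨Subgroup.zpowers p.1.2, by rw [Nat.card_zpowers]; exact p.2.2.1⟩, by
        change Subgroup.zpowers p.1.1 ⊔ Subgroup.zpowers p.1.2 = D
        refine Eq.trans ?_ p.2.2.2
        rw [Subgroup.zpowers_eq_closure, Subgroup.zpowers_eq_closure,
          ← Subgroup.closure_union]
        rfl⟩,
      (⟨⟨p.1.1, Subgroup.mem_zpowers _⟩, by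
          intro h1
          have h2 : p.1.1 = 1 := congrArg Subtype.val h1
          have h3 := p.2.1
          rw [h2, orderOf_one] at h3
          norm_num at h3⟩,
        ⟨⟨p.1.2, Subgroup.mem_zpowers _⟩, by
          intro h1
          have h2 : p.1.2 = 1 := congrArg Subtype.val h1
          have h3 := p.2.2.1
          rw [h2, orderOf_one] at h3
          norm_num at h3⟩)⟩⟩
  let e : T → G × G := fun t => (t.2.2.1.1.1, t.2.2.2.1.1)
  have hf : Function.Injective f := by
    have hcomp : e ∘ f = Subtype.val := by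
      funext p
      rfl
    apply Function.Injective.of_comp (f := e)
    rw [hcomp]
    exact Subtype.val_injective
  have hle := Nat.card_le_card_of_injective f hf
  refine hle.trans ?_
  have hT : Nat.card T = ∑ A : Pt G, Nat.card (Σ B : {B : Pt G // (A.1 ⊔ B.1 : Subgroup G) = D},
      {x : ↥A.1 // x ≠ 1} × {y : ↥B.1.1 // y ≠ 1}) := Nat.card_sigma
  rw [hT]
  have hA : ∀ A : Pt G, Nat.card (Σ B : {B : Pt G // (A.1 ⊔ B.1 : Subgroup G) = D},
      {x : ↥A.1 // x ≠ 1} × {y : ↥B.1.1 // y ≠ 1}) ≤ 12 := by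
    intro A
    have := Fintype.ofFinite {B : Pt G // (A.1 ⊔ B.1 : Subgroup G) = D}
    rw [Nat.card_sigma]
    have h4 : ∀ B : {B : Pt G // (A.1 ⊔ B.1 : Subgroup G) = D},
        Nat.card ({x : ↥A.1 // x ≠ 1} × {y : ↥B.1.1 // y ≠ 1}) = 4 := by
      intro B
      rw [Nat.card_prod, card_ne_one_of_card_three A.2, card_ne_one_of_card_three B.1.2]
    simp only [h4]
    rw [Finset.sum_const, smul_eq_mul, Finset.card_univ, ← Nat.card_eq_fintype_card]
    have := hnon A
    omega
  calc ∑ A : Pt G, Nat.card (Σ B : {B : Pt G // (A.1 ⊔ B.1 : Subgroup G) = D},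
        {x : ↥A.1 // x ≠ 1} × {y : ↥B.1.1 // y ≠ 1})
      ≤ ∑ _A : Pt G, 12 := Finset.sum_le_sum (fun A _ => hA A)
    _ = 120 := by
      rw [Finset.sum_const, smul_eq_mul, Finset.card_univ, ← Nat.card_eq_fintype_card, hpts]

end Cfsg.Agent.Lib.Helper26.Zass
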