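import Mathlib
import Cfsg.Agent.Lib.Helper26.Rank2Aut
import Cfsg.Agent.Lib.Helper03.PGroupFrattini
import Cfsg.Agent.Lib.Helper04.BurnsidePQ

/-!
# K-S3117-B4: a finite abelian 2-group with at most four solutions of `z * z = 1` has a solvable
automorphism group.
-/

set_option autoImplicit false

namespace Cfsg.Agent.Lib.Helper26.Aut3

/-- the action of automorphisms on the non-identity elements -/
def toPermNe (Q : Type*) [Group Q] : MulAut Q →* Equiv.Perm {q : Q // q ≠ 1} where
  toFun α := (α.toEquiv).subtypeEquiv (fun q => by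
    change q ≠ 1 ↔ α q ≠ 1
    rw [Ne, Ne, map_eq_one_iff α α.injective])
  map_one' := by ext q; rfl
  map_mul' := fun α β => by ext q; rfl

theorem toPermNe_injective (Q : Type*) [Group Q] : Function.Injective (toPermNe Q) := by
  rw [injective_iff_map_eq_one]
  intro α hα
  ext q
  by_cases hq : q = 1
  · rw [hq, map_one]; rfl
  · have h := congrArg (fun σ : Equiv.Perm {q : Q // q ≠ 1} => ((σ ⟨q, hq⟩ : {q : Q // q ≠ 1}) : Q)) hα
    exact h

theorem dvd_six_two_three {n : ℕ} (h : n ∣ 6) : ∃ a b : ℕ, n = 2 ^ a * 3 ^ b := by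
  have hle : n ≤ 6 := Nat.le_of_dvd (by norm_num) h
  interval_cases n
  · norm_num at h
  · exact ⟨0, 0, by norm_num⟩
  · exact ⟨1, 0, by norm_num⟩
  · exact ⟨0, 1, by norm_num⟩
  · norm_num at h
  · norm_num at h
  · exact ⟨1, 1, by norm_num⟩

/-- a group with at most four elements has a solvable automorphism group -/
theorem solvable_mulAut_of_card_le_four {Q : Type*} [Group Q] [Finite Q] (h : Nat.card Q ≤ 4) :
    Group.IsSolvable (MulAut Q) := by
  classical
  have : Fintype Q := Fintype.ofFinite Q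
  have : Finite (MulAut Q) := Finite.of_injective (fun α : MulAut Q => (α : Q → Q))
    (fun α β hαβ => by ext q; exact congrFun hαβ q)
  have h1 : Nat.card (MulAut Q) ∣ Nat.card (Equiv.Perm {q : Q // q ≠ 1}) :=
    Subgroup.card_dvd_of_injective (toPermNe Q) (toPermNe_injective Q)
  have h2 : Nat.card (Equiv.Perm {q : Q // q ≠ 1}) = (Fintype.card {q : Q // q ≠ 1}).factorial := by
    rw [Nat.card_eq_fintype_card, Fintype.card_perm]
  have h3 : Fintype.card {q : Q // q ≠ 1} ≤ 3 := by
    have h4 : Fintype.card {q : Q // q ≠ 1} < Fintype.card Q :=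
      Fintype.card_subtype_lt (p := fun q : Q => q ≠ 1) (x := 1) (by simp)
    rw [Nat.card_eq_fintype_card] at h
    omega
  have h5 : Nat.card (MulAut Q) ∣ 6 := by
    rw [h2] at h1
    exact h1.trans (Nat.factorial_dvd_factorial h3)
  obtain ⟨a, b, hab⟩ := dvd_six_two_three h5
  exact Cfsg.Agent.Lib.Helper04.burnside_paqb 2 3 a b Nat.prime_two Nat.prime_three hab

theorem solvable_mulAut_of_card_sq_le {Z : Type*} [CommGroup Z] [Finite Z] (hZ : IsPGroup 2 Z)
    (h4 : Nat.card {z : Z // z * z = 1} ≤ 4) : Group.IsSolvable (MulAut Z) := by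
  classical
  have : Fact (Nat.Prime 2) := ⟨Nat.prime_two⟩
  have : Finite (MulAut Z) := Finite.of_injective (fun α : MulAut Z => (α : Z → Z))
    (fun α β hαβ => by ext q; exact congrFun hαβ q)
  -- the squares lie in the Frattini subgroup
  set f : Z →* Z := powMonoidHom 2 with hf
  have hS : f.range ≤ frattini Z := by
    rintro _ ⟨z, rfl⟩
    exact Cfsg.Agent.Lib.Helper03.pow_mem_frattini_of_isPGroup hZ z
  -- `|Z / range| = |ker|`
  have hker : Nat.card f.ker = Nat.card {z : Z // z * z = 1} := by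
    apply Nat.card_congr
    refine Equiv.subtypeEquivRight (fun z => ?_)
    rw [MonoidHom.mem_ker, hf, powMonoidHom_apply, pow_two]
  have hidx : f.range.index = Nat.card f.ker := by
    have e1 : Nat.card f.ker * f.ker.index = Nat.card Z := Subgroup.card_mul_index f.ker
    have e2 : Nat.card f.range * f.range.index = Nat.card Z := Subgroup.card_mul_index f.range
    have e3 : f.ker.index = Nat.card f.range := Subgroup.index_ker f
    have hpos : 0 < Nat.card f.range := Nat.card_pos
    rw [e3, mul_comm] at e1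
    exact Nat.eq_of_mul_eq_mul_left hpos (e2.trans e1.symm)
  have hQ : Nat.card (Z ⧸ frattini Z) ≤ 4 := by
    rw [← Subgroup.index_eq_card]
    have hd : (frattini Z).index ∣ f.range.index := Subgroup.index_dvd_of_le hS
    have hpos : 0 < f.range.index := by
      rw [hidx]; exact Nat.card_pos
    exact (Nat.le_of_dvd hpos hd).trans (by rw [hidx, hker]; exact h4)
  have hsolQ : Group.IsSolvable (MulAut (Z ⧸ frattini Z)) := solvable_mulAut_of_card_le_four hQ
  -- the kernel is a 2-group
  have hK : IsPGroup 2 (Cfsg.Agent.Lib.Helper26.Rank2Aut.frattQ Z).ker :=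
    Cfsg.Agent.Lib.Helper26.Rank2Aut.isPGroup_ker_frattQ hZ
  have : Group.IsNilpotent (Cfsg.Agent.Lib.Helper26.Rank2Aut.frattQ Z).ker := hK.isNilpotent
  have : Group.IsSolvable (Cfsg.Agent.Lib.Helper26.Rank2Aut.frattQ Z).ker := IsNilpotent.to_isSolvable
  refine Group.isSolvable_of_ker_le_range (Cfsg.Agent.Lib.Helper26.Rank2Aut.frattQ Z).ker.subtype
    (Cfsg.Agent.Lib.Helper26.Rank2Aut.frattQ Z) ?_
  intro α hα
  exact ⟨⟨α, hα⟩, rfl⟩

end Cfsg.Agent.Lib.Helper26.Aut3
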