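import Mathlib
import Cfsg.Agent.Lib.Helper81.TIHallK5
import Cfsg.Agent.S0040

/-!
# K-S4151-B (keystone 415102): a `p`-group acting fixed-point-freely on a section is cyclic or
generalized quaternion.
-/

set_option autoImplicit false

namespace Cfsg.Agent.Lib.Helper26.S4151K

open SemidirectProduct

/-- Abstract form: a finite `p`-group `P` acting on a finite nontrivial group `K` such that
non-identity elements of `P` fix only `1` is cyclic or generalized quaternion. -/
theorem cyclic_or_quaternion_of_fpf_action.{u} {P K : Type u} [Group P] [Finite P] [Group K] [Finite K]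
    [Nontrivial K] (p : ℕ) [Fact p.Prime] (hP : IsPGroup p P) (φ : P →* MulAut K)
    (hfpf : ∀ a : P, a ≠ 1 → ∀ k : K, φ a k = k → k = 1) :
    IsCyclic P ∨ ∃ n : ℕ, Nonempty (P ≃* QuaternionGroup (2 ^ n)) := by
  classical
  have hfin : Finite (K ⋊[φ] P) := Finite.of_equiv _ (equivProd (φ := φ)).symm
  let K' : Subgroup (K ⋊[φ] P) := (inl : K →* K ⋊[φ] P).range
  let P' : Subgroup (K ⋊[φ] P) := (inr : P →* K ⋊[φ] P).range
  have hK'n : K'.Normal := by
    show ((inl : K →* K ⋊[φ] P).range).Normal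
    rw [range_inl_eq_ker_rightHom]
    infer_instance
  have hdisj : Disjoint K' P' := by
    rw [Subgroup.disjoint_def]
    rintro x ⟨k, rfl⟩ ⟨a, ha⟩
    have h1 : (inr a : K ⋊[φ] P).right = (inl k : K ⋊[φ] P).right := by rw [ha]
    rw [right_inr, right_inl] at h1
    rw [← ha, h1, map_one]
  have hc : Subgroup.IsComplement' K' P' := by
    apply Subgroup.isComplement'_of_disjoint_and_mul_eq_univ hdisj
    rw [Set.eq_univ_iff_forall]
    intro x
    refine ⟨inl x.left, ⟨x.left, rfl⟩, inr x.right, ⟨x.right, rfl⟩, ?_⟩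
    exact inl_left_mul_inr_right x
  have hK' : K' ≠ ⊥ := by
    intro hbot
    obtain ⟨k, hk⟩ := exists_ne (1 : K)
    have hmem : (inl k : K ⋊[φ] P) ∈ K' := ⟨k, rfl⟩
    rw [hbot, Subgroup.mem_bot] at hmem
    have : (inl k : K ⋊[φ] P) = inl 1 := by rw [hmem, map_one]
    exact hk (inl_injective this)
  have hfix : ∀ h ∈ P', h ≠ 1 → K' ⊓ Subgroup.centralizer {h} = ⊥ := by
    rintro h ⟨a, rfl⟩ hne
    have ha : a ≠ 1 := by
      intro h1
      apply hne
      rw [h1, map_one]
    rw [eq_bot_iff]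
    rintro x ⟨⟨k, rfl⟩, hx⟩
    rw [Subgroup.mem_bot]
    have hx' : (inr a : K ⋊[φ] P) * inl k = inl k * inr a := by
      have := Subgroup.mem_centralizer_iff.mp hx (inr a) (Set.mem_singleton _)
      exact this
    have h2 : (inl (φ a k) : K ⋊[φ] P) = inl k := by
      rw [inl_aut, hx', mul_assoc, ← map_mul, mul_inv_cancel, map_one, mul_one]
    have h3 : φ a k = k := inl_injective h2
    have h4 := hfpf a ha k h3
    rw [h4, map_one]
  -- the Sylow `p`-subgroup `⊤` of `P'`
  let e₁ : P ≃* P' := MonoidHom.ofInjective (inr_injective (φ := φ))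
  have hP' : IsPGroup p P' := hP.of_equiv e₁
  let T : Sylow p P' :=
    { toSubgroup := ⊤
      isPGroup' := by
        intro x
        obtain ⟨k, hk⟩ := hP' x.1
        refine ⟨k, ?_⟩
        apply Subtype.ext
        have := congrArg Subtype.val hk
        simpa using hk
      is_maximal' := fun _ hle => top_le_iff.mp hle }
  have hres := Cfsg.Agent.S0040.result K' P' hc hK' hfix p T
  let e₂ : P ≃* (T : Subgroup P') := e₁.trans Subgroup.topEquiv.symm
  rcases hres with hcyc | ⟨n, ⟨e⟩⟩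
  · left
    exact isCyclic_of_surjective e₂.symm e₂.symm.surjective
  · right
    exact ⟨n, ⟨e₂.trans e⟩⟩

/-- K-S4151-B (keystone 415102). -/
theorem cyclic_or_quaternion_of_section {G : Type*} [Group G] [Finite G] (p : ℕ) [Fact p.Prime] (P M Q₀ : Subgroup G)
    (hP : IsPGroup p P) (hQM : Q₀ ≤ M) (hne : Q₀ ≠ M)
    (hPM : P ≤ Subgroup.normalizer (M : Set G)) (hPQ : P ≤ Subgroup.normalizer (Q₀ : Set G))
    (hMQ : M ≤ Subgroup.normalizer (Q₀ : Set G))
    (hcop : (Nat.card P).Coprime (Nat.card Q₀))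
    (hfix : ∀ x ∈ P, x ≠ 1 → ∀ m ∈ M, x * m = m * x → m ∈ Q₀) :
    IsCyclic P ∨ ∃ n : ℕ, Nonempty (P ≃* QuaternionGroup (2 ^ n)) := by
  obtain ⟨K, hKg, hKf, φ, hKn, hfpf⟩ :=
    Cfsg.Agent.Lib.Helper81.TIHall.fpf_section P M Q₀ hQM hne hPM hPQ hMQ hcop hfix
  exact cyclic_or_quaternion_of_fpf_action p hP φ hfpf

end Cfsg.Agent.Lib.Helper26.S4151K
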