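import Cfsg.Agent.Lib.Helper37.G2InvDefs

/-!
# K-G2I-C2 (keystone 217702, S2177, architect helper37): the two two-term conjugation formulas.
-/

set_option autoImplicit false
set_option linter.unusedSectionVars false
set_option linter.unusedVariables false

namespace Cfsg.Agent.Lib.Helper26.G2Inv

open Cfsg.Agent.Lib.Helper37.G2Inv

variable {F : Type*} [Field F] [CharP F 2] {G : Type*} [Group G] (D : UData F G)

/-- `x 8 c` commutes with `x 10 a * x 11 b` -/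
theorem comm8_w (c a b : F) :
    D.x 8 c * (D.x 10 a * D.x 11 b) = (D.x 10 a * D.x 11 b) * D.x 8 c := by
  rw [← mul_assoc, D.c810, mul_assoc, D.c811, ← mul_assoc]

/-- `x 7 c` commutes with `x 10 a * x 11 b` -/
theorem comm7_w (c a b : F) :
    D.x 7 c * (D.x 10 a * D.x 11 b) = (D.x 10 a * D.x 11 b) * D.x 7 c := by
  rw [← mul_assoc, D.c710, mul_assoc, D.c711, ← mul_assoc]

/-- `x 10 a * x 11 b` is an involution -/
theorem w_sq (a b : F) : (D.x 10 a * D.x 11 b) * (D.x 10 a * D.x 11 b) = 1 := by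
  rw [mul_assoc, ← mul_assoc (D.x 11 b), ← D.c1011, mul_assoc, D.x_sq, mul_one, D.x_sq]

theorem c87 (c t : F) :
    D.x 8 c * D.x 7 t * (D.x 8 c)⁻¹ = D.x 7 t * (D.x 10 (t ^ 2 * c) * D.x 11 (t * c ^ 2)) := by
  rw [D.r78 t c, mul_assoc (D.x 7 t), comm8_w, mul_assoc, mul_assoc, mul_inv_cancel, mul_one]

theorem c78 (c s : F) :
    D.x 7 c * D.x 8 s * (D.x 7 c)⁻¹ = D.x 8 s * (D.x 10 (c ^ 2 * s) * D.x 11 (c * s ^ 2)) := by
  have h := D.r78 c s
  set W : G := D.x 10 (c ^ 2 * s) * D.x 11 (c * s ^ 2) with hW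
  have hWsq : W * W = 1 := w_sq D _ _
  have hcomm : D.x 7 c * W = W * D.x 7 c := comm7_w D _ _ _
  -- `x7 x8 = x8 x7 W`
  have h2 : D.x 7 c * D.x 8 s = D.x 8 s * D.x 7 c * W := by
    rw [h, mul_assoc, hWsq, mul_one]
  rw [h2, mul_assoc (D.x 8 s), hcomm, mul_assoc, mul_assoc, mul_inv_cancel, mul_one]

end Cfsg.Agent.Lib.Helper26.G2Inv
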