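import Mathlib
import Cfsg.Agent.Lib.Helper72.A4ODefs

/-!
# K-A4O pack (S4068), leaf L3: EPO passes to subgroups, quotients, isomorphic groups
-/

set_option autoImplicit false
set_option linter.unusedSectionVars false
set_option linter.unusedVariables false

namespace Cfsg.Agent.Lib.Helper26.A4O

open Cfsg.Agent.Lib.Helper72.A4O

universe u

/-- 406804 A4O-L3 (a) -/
theorem epo_subgroup {G : Type u} [Group G] (hep : EPO G) (H : Subgroup G) : EPO H := by
  intro h hh
  rw [← Subgroup.orderOf_coe]
  exact hep (h : G) (fun h1 => hh (Subtype.ext h1))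

/-- 406804 A4O-L3 (b) -/
theorem epo_quotient {G : Type u} [Group G] [Finite G] (hep : EPO G) (N : Subgroup G) [N.Normal] :
    EPO (G ⧸ N) := by
  intro x hx
  obtain ⟨g, rfl⟩ := QuotientGroup.mk_surjective x
  have hg : g ≠ 1 := by
    rintro rfl
    exact hx rfl
  have hp := hep g hg
  have hdvd : orderOf (QuotientGroup.mk' N g) ∣ orderOf g := orderOf_map_dvd _ g
  rcases (Nat.dvd_prime hp).1 hdvd with h1 | h1
  · exact absurd (orderOf_eq_one_iff.1 h1) hx
  · have : orderOf ((g : G) : G ⧸ N) = orderOf g := h1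
    rw [this]
    exact hp

/-- 406804 A4O-L3 (c) -/
theorem epo_of_equiv {G : Type u} {H : Type*} [Group G] [Group H] (hep : EPO G) (e : G ≃* H) :
    EPO H := by
  intro h hh
  rw [← MulEquiv.orderOf_eq e.symm h]
  apply hep
  intro h1
  apply hh
  have := congrArg e h1
  simpa using this

end Cfsg.Agent.Lib.Helper26.A4O
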