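import Mathlib
import Cfsg.Agent.Lib.Helper60.AICDefs
import Cfsg.Agent.S1230
import Cfsg.Agent.Lib.Helper28.PGL2
import Cfsg.Agent.Lib.Helper28.SL2Char2
import Cfsg.Agent.Lib.Helper07.SL2Tori
import Cfsg.Agent.Lib.Helper03.CentralTransfer
import Cfsg.Agent.Lib.Helper46.ClassicalEmb
import Cfsg.Agent.Lib.Helper01.AICQ

/-!
# S2202, keystone K-F: from `G ⧸ Z(G)` a BSW group to `G ≃* SL₂(F) × A`.
-/

set_option autoImplicit false

namespace Cfsg.Agent.Lib.Helper26.AIC

open Subgroup Cfsg.Agent.Lib.Helper60.AIC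

universe u

/-- A noncyclic `2`-group has at least four elements. -/
theorem four_le_card_of_not_isCyclic {G : Type u} [Group G] [Finite G] (S : Sylow 2 G)
    (hnc : ¬ IsCyclic (S : Subgroup G)) :
    ∃ k : ℕ, 2 ≤ k ∧ Nat.card (S : Subgroup G) = 2 ^ k := by
  obtain ⟨k, hk⟩ := (IsPGroup.iff_card (p := 2) (G := (S : Subgroup G))).mp S.isPGroup'
  refine ⟨k, ?_, hk⟩
  by_contra hlt
  apply hnc
  have hk1 : k = 0 ∨ k = 1 := by omega
  rcases hk1 with rfl | rfl
  · rw [pow_zero] at hk
    have : Subsingleton (S : Subgroup G) := (Nat.card_eq_one_iff_unique.mp hk).1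
    exact isCyclic_of_subsingleton
  · rw [pow_one] at hk
    have : Fact (Nat.Prime 2) := ⟨Nat.prime_two⟩
    exact isCyclic_of_prime_card hk

/-- A finite field whose cardinality is a power of two has characteristic two. -/
theorem ringChar_eq_two_of_card {F : Type} [Field F] [Fintype F] {k : ℕ}
    (hk : Fintype.card F = 2 ^ k) : ringChar F = 2 := by
  obtain ⟨n, hp, hn⟩ := FiniteField.card F (ringChar F)
  rw [hk] at hn
  have h1 : ringChar F ∣ 2 ^ k := by
    rw [hn]
    exact dvd_pow_self _ n.ne_zero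
  exact (Nat.prime_dvd_prime_iff_eq hp Nat.prime_two).mp (hp.dvd_of_dvd_pow h1)

/-- A `p`-subgroup (p odd) of a group `Q ≃* SL₂(F)`, `char F = 2`, is cyclic. -/
theorem isCyclic_range_of_odd {F : Type} [Field F] [Fintype F] [CharP F 2]
    {P : Type u} [Group P] [Finite P] {p : ℕ} [Fact p.Prime] (hp2 : p ≠ 2) (hP : IsPGroup p P)
    (g : P →* Matrix.SpecialLinearGroup (Fin 2) F) : IsCyclic g.range := by
  have hr : IsPGroup p g.range := hP.of_surjective g.rangeRestrict g.rangeRestrict_surjective
  obtain ⟨R, hR⟩ := hr.exists_le_sylow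
  have : Fact (Nat.Prime 2) := ⟨Nat.prime_two⟩
  have : IsCyclic (R : Subgroup (Matrix.SpecialLinearGroup (Fin 2) F)) :=
    Cfsg.Agent.Lib.Helper07.sylow_SL_two_isCyclic (F := F) 2 p hp2 hp2 R
  exact Subgroup.isCyclic_of_le hR


/-- Sylow `p`-subgroups (`p` odd) of a central extension of `SL₂(F)`, `char F = 2`, by `Z(G)` are
abelian. -/
theorem sylow_isMulCommutative_of_quotient {G : Type u} [Group G] [Finite G]
    {F : Type} [Field F] [Fintype F] [CharP F 2]
    (e : G ⧸ center G ≃* Matrix.SpecialLinearGroup (Fin 2) F) {p : ℕ} [Fact p.Prime]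
    (hp2 : p ≠ 2) (P : Sylow p G) : IsMulCommutative (P : Subgroup G) := by
  let g : (P : Subgroup G) →* Matrix.SpecialLinearGroup (Fin 2) F :=
    e.toMonoidHom.comp ((QuotientGroup.mk' (center G)).comp (P : Subgroup G).subtype)
  have hcyc : IsCyclic g.range := isCyclic_range_of_odd hp2 P.isPGroup' g
  apply MonoidHom.isMulCommutative_of_isCyclic_of_ker_le_center g.rangeRestrict
  rw [MonoidHom.ker_rangeRestrict]
  intro x hx
  rw [MonoidHom.mem_ker] at hx
  have h1 : e (QuotientGroup.mk' (center G) (x : G)) = 1 := hx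
  have h2 : QuotientGroup.mk' (center G) (x : G) = 1 := by
    have := congrArg e.symm h1
    simpa using this
  have h3 : (x : G) ∈ center G := by
    rw [← QuotientGroup.ker_mk' (center G), MonoidHom.mem_ker]
    exact h2
  rw [Subgroup.mem_center_iff]
  intro y
  apply Subtype.ext
  have := (Subgroup.mem_center_iff.mp h3) (y : G)
  simpa using this

/-- K-F with K-Q taken as a hypothesis. -/
theorem final_iso_of_quotient {G : Type u} [Group G] [Finite G] (S : Sylow 2 G)
    (hnc : ¬ IsCyclic (S : Subgroup G))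
    (hQ : BSWHyp (G ⧸ center G) ∧ Odd (Nat.card (center G)) ∧
      ∃ T : Sylow 2 (G ⧸ center G), ¬ IsCyclic (T : Subgroup (G ⧸ center G)) ∧
        ¬ (T : Subgroup (G ⧸ center G)).Normal ∧ Nat.card T = Nat.card S) :
    ∃ (F : Type) (_ : Field F) (_ : Fintype F) (A : Type) (_ : CommGroup A) (_ : Finite A),
      CharP F 2 ∧ Odd (Nat.card A) ∧
        Nonempty (G ≃* Matrix.SpecialLinearGroup (Fin 2) F × A) := by
  obtain ⟨hBSW, hZodd, T, hTnc, hTnn, hTcard⟩ := hQ
  obtain ⟨F, instF, instFt, hFcard, ⟨e1⟩⟩ := Cfsg.Agent.S1230.result T hTnc hTnn hBSW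
  obtain ⟨k, hk2, hk⟩ := four_le_card_of_not_isCyclic S hnc
  have hFk : Fintype.card F = 2 ^ k := by rw [hFcard, hTcard, hk]
  have hchar : ringChar F = 2 := ringChar_eq_two_of_card hFk
  have hCharP : CharP F 2 := ringChar.of_eq hchar
  obtain ⟨e2⟩ := Cfsg.Agent.Lib.Helper28.nonempty_psl_mulEquiv_pgl_of_char_two (F := F) hchar
  obtain ⟨e3⟩ := Cfsg.Agent.Lib.Helper28.nonempty_sl_mulEquiv_pgl_of_char_two (F := F) hchar
  let e : G ⧸ center G ≃* Matrix.SpecialLinearGroup (Fin 2) F := (e1.trans e2).trans e3.symm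
  have h4 : 4 ≤ Fintype.card F := by
    rw [hFk]
    calc 4 = 2 ^ 2 := rfl
      _ ≤ 2 ^ k := Nat.pow_le_pow_right (by norm_num) hk2
  have hperfSL : commutator (Matrix.SpecialLinearGroup (Fin 2) F) = ⊤ :=
    Cfsg.Agent.Lib.Helper46.sl2_perfect h4
  -- `G ⧸ Z` is perfect
  have hperfQ : commutator (G ⧸ center G) = ⊤ := by
    have h1 : (commutator (Matrix.SpecialLinearGroup (Fin 2) F)).map e.symm.toMonoidHom =
        commutator (G ⧸ center G) := by
      rw [_root_.commutator_def, _root_.commutator_def, Subgroup.map_commutator,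
        Subgroup.map_top_of_surjective _ e.symm.surjective]
    rw [← h1, hperfSL, Subgroup.map_top_of_surjective _ e.symm.surjective]
  have hsup : commutator G ⊔ center G = ⊤ := by
    have h1 : (commutator G).map (QuotientGroup.mk' (center G)) = commutator (G ⧸ center G) := by
      rw [_root_.commutator_def, _root_.commutator_def, Subgroup.map_commutator,
        Subgroup.map_top_of_surjective _ (QuotientGroup.mk'_surjective _)]
    rw [eq_top_iff]
    intro g _
    have h2 : QuotientGroup.mk' (center G) g ∈ (commutator G).map (QuotientGroup.mk' (center G)) := by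
      rw [h1, hperfQ]; exact Subgroup.mem_top _
    obtain ⟨c, hc, hcg⟩ := Subgroup.mem_map.mp h2
    have h3 : c⁻¹ * g ∈ center G := by
      rw [← QuotientGroup.ker_mk' (center G), MonoidHom.mem_ker, map_mul, map_inv, hcg]
      simp
    have h4 : g = c * (c⁻¹ * g) := by group
    rw [h4]
    exact Subgroup.mul_mem_sup hc h3
  have hinf : center G ⊓ commutator G = ⊥ := by
    rw [Subgroup.eq_bot_iff_forall]
    intro z hz
    by_contra hz1
    obtain ⟨hzZ, hzC⟩ := Subgroup.mem_inf.mp hz
    have hord : orderOf z ≠ 1 := fun h => hz1 (orderOf_eq_one_iff.mp h)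
    have hord0 : orderOf z ≠ 0 := (orderOf_pos z).ne'
    set p := (orderOf z).minFac with hp
    have hpp : p.Prime := Nat.minFac_prime hord
    have : Fact p.Prime := ⟨hpp⟩
    have hpdvd : p ∣ orderOf z := Nat.minFac_dvd _
    set z' := z ^ (orderOf z / p) with hz'
    have hoz' : orderOf z' = p := orderOf_pow_orderOf_div hord0 hpdvd
    have hz'Z : z' ∈ center G := Subgroup.pow_mem _ hzZ _
    have hz'C : z' ∈ commutator G := Subgroup.pow_mem _ hzC _
    have hp2 : p ≠ 2 := by
      intro h2
      have h5 : orderOf (⟨z', hz'Z⟩ : center G) = p := by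
        rw [← hoz']; exact Subgroup.orderOf_mk z' hz'Z
      have h6 : p ∣ Nat.card (center G) := by
        rw [← h5]; exact orderOf_dvd_natCard _
      rw [h2] at h6
      exact (Nat.not_even_iff_odd.mpr hZodd) (even_iff_two_dvd.mpr h6)
    have hzp : IsPGroup p (Subgroup.zpowers z') := by
      apply IsPGroup.of_card (n := 1)
      rw [Nat.card_zpowers, hoz', pow_one]
    obtain ⟨P, hP⟩ := hzp.exists_le_sylow
    have hz'P : z' ∈ (P : Subgroup G) := hP (Subgroup.mem_zpowers z')
    have h7 := Cfsg.Agent.Lib.Helper03.mem_commutator_sylow_of_mem_center_of_mem_commutator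
      P z' hz'P hz'Z hz'C
    have hPc : IsMulCommutative (P : Subgroup G) :=
      sylow_isMulCommutative_of_quotient e hp2 P
    have h8 : commutator (P : Subgroup G) = ⊥ := by
      rw [_root_.commutator_def, Subgroup.commutator_eq_bot_iff_le_centralizer]
      intro a _
      rw [Subgroup.mem_centralizer_iff]
      intro b _
      exact hPc.is_comm.comm b a
    rw [h8, Subgroup.mem_bot] at h7
    have h9 : z' = 1 := congrArg Subtype.val h7
    rw [h9, orderOf_one] at hoz'
    exact hpp.one_lt.ne hoz'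
  -- cardinalities
  have hZidx : (center G).index = Nat.card (commutator G) := by
    rw [← Subgroup.relIndex_top_right, ← hsup, Subgroup.relIndex_sup_right,
      ← Subgroup.inf_relIndex_right, hinf, Subgroup.relIndex_bot_left]
  have hcardG : Nat.card (center G) * Nat.card (commutator G) = Nat.card G := by
    rw [← hZidx]; exact Subgroup.card_mul_index _
  have hcpos : 0 < Nat.card (commutator G) := Nat.card_pos
  have hCidx : (commutator G).index = Nat.card (center G) := by
    have h1 := Subgroup.card_mul_index (commutator G)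
    rw [← hcardG, mul_comm] at h1
    exact Nat.eq_of_mul_eq_mul_right hcpos h1
  -- the isomorphism
  let φ : G →* (G ⧸ center G) × Abelianization G :=
    (QuotientGroup.mk' (center G)).prod Abelianization.of
  have hφinj : Function.Injective φ := by
    rw [← MonoidHom.ker_eq_bot_iff, MonoidHom.ker_prod, QuotientGroup.ker_mk',
      Abelianization.ker_of, hinf]
  have hAbcard : Nat.card (Abelianization G) = Nat.card (center G) := by
    rw [← hCidx]; exact (Subgroup.index_eq_card _).symm
  have hφbij : Function.Bijective φ := by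
    apply hφinj.bijective_of_nat_card_le
    rw [Nat.card_prod, hAbcard, ← Subgroup.index_eq_card, hZidx, mul_comm, hcardG]
  let ψ : G ≃* (G ⧸ center G) × Abelianization G := MulEquiv.ofBijective φ hφbij
  refine ⟨F, instF, instFt, Shrink.{0} (Abelianization G), inferInstance, inferInstance,
    hCharP, ?_, ⟨ψ.trans (MulEquiv.prodCongr e (Shrink.mulEquiv).symm)⟩⟩
  have : Nat.card (Shrink.{0} (Abelianization G)) = Nat.card (Abelianization G) :=
    Nat.card_congr (equivShrink _).symm
  rw [this, hAbcard]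
  exact hZodd

/-- K-F: the final isomorphism. -/
theorem final_iso {G : Type u} [Group G] [Finite G] (hG : Hyp G) (hc : Concl G) (S : Sylow 2 G)
    (hnc : ¬ IsCyclic (S : Subgroup G)) (hnn : ¬ (S : Subgroup G).Normal) :
    ∃ (F : Type) (_ : Field F) (_ : Fintype F) (A : Type) (_ : CommGroup A) (_ : Finite A),
      CharP F 2 ∧ Odd (Nat.card A) ∧
        Nonempty (G ≃* Matrix.SpecialLinearGroup (Fin 2) F × A) :=
  final_iso_of_quotient S hnc
    (Cfsg.Agent.Lib.Helper01.AIC.bswHyp_quotient_center hG hc S hnc hnn)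

end Cfsg.Agent.Lib.Helper26.AIC
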