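import Mathlib

/-!
# K-147P FP-A (keystone 147201): a nontrivial finite `q`-group has a nonzero additive character
with values in `ZMod q`.
-/

set_option autoImplicit false

namespace Cfsg.Agent.Lib.Helper26.BG147P

/-- a nontrivial finite `q`-group has a nonzero additive character with values in `ZMod q`. -/
theorem exists_char_ne_zero {N : Type*} [Group N] [Finite N] [Nontrivial N] {q : ℕ} [Fact q.Prime]
    (hN : IsPGroup q N) : ∃ χ : Additive N →+ ZMod q, χ ≠ 0 := by
  classical
  have hq : q.Prime := Fact.out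
  obtain ⟨n, hn⟩ := hN.exists_card_eq
  have hn0 : n ≠ 0 := by
    rintro rfl
    have h1 : 1 < Nat.card N := Finite.one_lt_card
    rw [hn, pow_zero] at h1
    omega
  obtain ⟨m, rfl⟩ := Nat.exists_eq_succ_of_ne_zero hn0
  obtain ⟨H, hH⟩ := Sylow.exists_subgroup_card_pow_prime q (G := N) (n := m)
    (by rw [hn]; exact pow_dvd_pow q (Nat.le_succ m))
  have hidx : H.index = q := by
    have h1 := H.card_mul_index
    rw [hH, hn, pow_succ] at h1
    exact Nat.eq_of_mul_eq_mul_left (pow_pos hq.pos m) h1
  have hmin : (Nat.card N).minFac = q := by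
    rw [hn]
    exact (Nat.Prime.pow_minFac hq (Nat.succ_ne_zero m))
  have hnorm : H.Normal := Subgroup.normal_of_index_eq_minFac_card (by rw [hidx, hmin])
  have hcard : Nat.card (N ⧸ H) = q := by
    rw [← Subgroup.index_eq_card]; exact hidx
  have hcardZ : Nat.card (Multiplicative (ZMod q)) = q := by
    rw [Nat.card_congr Multiplicative.toAdd, Nat.card_zmod]
  let e : (N ⧸ H) ≃* Multiplicative (ZMod q) := mulEquivOfPrimeCardEq (p := q) hcard hcardZ
  let f : N →* Multiplicative (ZMod q) := e.toMonoidHom.comp (QuotientGroup.mk' H)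
  have hf : Function.Surjective f := e.surjective.comp (QuotientGroup.mk'_surjective H)
  refine ⟨MonoidHom.toAdditiveLeft f, ?_⟩
  intro h0
  obtain ⟨x, hx⟩ := hf (Multiplicative.ofAdd 1)
  have h1 : (MonoidHom.toAdditiveLeft f) (Additive.ofMul x) = 0 := by rw [h0]; rfl
  have h2 : (MonoidHom.toAdditiveLeft f) (Additive.ofMul x) = Multiplicative.toAdd (f x) := rfl
  rw [h2, hx] at h1
  have : (1 : ZMod q) = 0 := h1
  have : Nontrivial (ZMod q) := ZMod.nontrivial_iff.mpr hq.one_lt.ne'
  exact one_ne_zero ‹(1 : ZMod q) = 0›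
end Cfsg.Agent.Lib.Helper26.BG147P
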