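import Mathlib
import Cfsg.Agent.Lib.Helper30.BG159Defs2
import Cfsg.Agent.S1363

/-!
# K-1376-E (keystone 137605, S1376, architect helper30): `compl_inf_centralizer`, `C_E(x) = 1`.
-/

set_option autoImplicit false

namespace Cfsg.Agent.Lib.Helper26.BG159

open Cfsg Subgroup Cfsg.Agent.Lib.Helper30.BG159

variable {G : Type*} [Group G] [Finite G]

/-- K-1376-E -/
theorem compl_inf_centralizer (hG : IsMinSimpleOddOrder G) {M N Ns K U : Subgroup G} {x : G}
    (h : Cfg M N Ns K U x)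
    (hfpf : ∀ k ∈ K, k ≠ 1 → ∀ y ∈ sigmaCore M, k * y = y * k → y = 1) :
    ∀ e ∈ M ⊓ Ns, e * x = x * e → e = 1 := by
  intro e he hex
  have hx1 : x ≠ 1 := by
    intro hx
    have := h.hxp
    rw [hx, orderOf_one] at this
    exact Nat.not_prime_one this
  -- `e ∈ C_G(x) ≤ N`
  have heC : e ∈ centralizer ({x} : Set G) := mem_centralizer_singleton_iff.mpr hex
  have heN : e ∈ N := h.hCxN heC
  have heMN : e ∈ U ⊔ K := by rw [← h.hMN]; exact ⟨he.1, heN⟩
  -- `e = u * k`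
  have hnorm : K ≤ normalizer (U : Set G) := h.hKU.normal
  obtain ⟨u, hu, k, hk, rfl⟩ : ∃ u ∈ U, ∃ k ∈ K, u * k = e := by
    have hmem : e ∈ ((U ⊔ K : Subgroup G) : Set G) := heMN
    rw [coe_mul_of_right_le_normalizer_left U K hnorm] at hmem
    exact hmem
  -- `U` is abelian
  have hUab : IsMulCommutative U := (Cfsg.Agent.S1363.result hG N h.hN K U h.hKU h.hK1).1
  have hux : u * x = x * u := by
    have := mul_comm' (⟨u, hu⟩ : U) ⟨x, h.hxU⟩
    exact congrArg Subtype.val this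
  -- `k` centralizes `x`
  have hkx : k * x = x * k := by
    have hux' : u⁻¹ * x = x * u⁻¹ := by
      rw [inv_mul_eq_iff_eq_mul, ← mul_assoc, hux, mul_assoc, mul_inv_cancel, mul_one]
    calc k * x = u⁻¹ * ((u * k) * x) := by group
      _ = u⁻¹ * (x * (u * k)) := by rw [hex]
      _ = (u⁻¹ * x) * (u * k) := by group
      _ = (x * u⁻¹) * (u * k) := by rw [hux']
      _ = x * k := by group
  have hk1 : k = 1 := by
    by_contra hk1
    exact hx1 (hfpf k hk hk1 x h.hxσ hkx)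
  subst hk1
  rw [mul_one] at he ⊢
  have huσ : u ∈ sigmaCore M := h.hUσ hu
  have hbot : (M ⊓ Ns) ⊓ sigmaCore M = ⊥ := h.hE.2.2.1
  have : u ∈ (M ⊓ Ns) ⊓ sigmaCore M := ⟨he, huσ⟩
  rw [hbot] at this
  exact mem_bot.mp this

end Cfsg.Agent.Lib.Helper26.BG159
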