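import Mathlib
import Cfsg.Prelude.Def_Transfer
import Cfsg.Agent.Lib.Helper65.BQL2
import Cfsg.Agent.Lib.Helper26.BQL5a

/-!
# K-BQ pack (S3911), leaf L5: `card_min_supplement`

Glue of `card_min_supplement_of_nilpotent` (`BQL5a`) with leaf L2
(`Helper65.BQ.nilpotent_of_min_supplement`).
-/

set_option autoImplicit false
set_option linter.unusedVariables false
open Cfsg

namespace Cfsg.Agent.Lib.Helper26.BQ

/-- LEAF L5. -/
theorem card_min_supplement {G : Type*} [Group G] [Finite G]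
    (s3908 : ∀ (p : ℕ) [Fact p.Prime], p ≠ 2 → ∀ P : Sylow p G,
      IsCyclic ↥(P : Subgroup G) ∨ ∀ x ∈ (P : Subgroup G), x ^ p = 1)
    (M H A0 : Subgroup G) [M.Normal]
    (s3909 : ∀ a : G, (∃ m ∈ M, orderOf m = orderOf a) → a ∈ M)
    (hM : Odd (Nat.card ↥M)) (hMH : M ≤ H)
    (hsup : A0 ⊔ M = H) (hmin : ∀ X : Subgroup G, X ≤ A0 → X ⊔ M = H → X = A0)
    (hab : ∀ x ∈ H, ∀ y ∈ H, x * y * x⁻¹ * y⁻¹ ∈ M) :
    Nat.card ↥A0 = liftCard (Nat.card ↥M) (M.relIndex H) :=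
  card_min_supplement_of_nilpotent s3908 M H A0 s3909 hM hsup hmin
    (Cfsg.Agent.Lib.Helper65.BQ.nilpotent_of_min_supplement M H A0 hsup hmin hab)

end Cfsg.Agent.Lib.Helper26.BQ
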