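import Mathlib
import Cfsg.Agent.Lib.Helper70.BQSDefs

/-!
# K-BQS pack (S3912), leaf B8: `smallComm_of_card_dvd_eight`
-/

set_option autoImplicit false

namespace Cfsg.Agent.Lib.Helper26.BQS

open Cfsg Cfsg.Agent.Lib.Helper70.BQS

/-- a finite `2`-group of order less than `8` is commutative -/
theorem mul_comm_of_card_lt_eight {T : Type*} [Group T] [Finite T] (hT : IsPGroup 2 T)
    (h : Nat.card T < 8) (a b : T) : a * b = b * a := by
  obtain ⟨j, hj⟩ := hT.exists_card_eq
  have hj2 : j ≤ 2 := by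
    by_contra hc
    have h3 : 3 ≤ j := by omega
    have : 2 ^ 3 ≤ 2 ^ j := Nat.pow_le_pow_right (by norm_num) h3
    omega
  interval_cases j
  · have : Subsingleton T := (Nat.card_eq_one_iff_unique.1 (by simpa using hj)).1
    rw [Subsingleton.elim a b]
  · have : Fact (Nat.Prime 2) := ⟨Nat.prime_two⟩
    have hc : IsCyclic T := isCyclic_of_prime_card (p := 2) (by simpa using hj)
    obtain ⟨g, hg⟩ := hc.exists_generator
    obtain ⟨i, rfl⟩ := hg a
    obtain ⟨k, rfl⟩ := hg b
    exact (Commute.zpow_zpow_self g i k).eq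
  · have : Fact (Nat.Prime 2) := ⟨Nat.prime_two⟩
    have hc := IsPGroup.isMulCommutative_of_card_eq_prime_sq (p := 2) hj
    exact hc.is_comm.comm a b

/-- B8 (EASY). -/
theorem smallComm_of_card_dvd_eight {G : Type*} [Group G] [Finite G] (S : Sylow 2 G)
    (h : Nat.card ↥(S : Subgroup G) ∣ 8) : SmallComm S := by
  intro T hT hlt
  have h8 : Nat.card ↥(S : Subgroup G) ≤ 8 := Nat.le_of_dvd (by norm_num) h
  exact ⟨⟨fun a b => mul_comm_of_card_lt_eight hT (lt_of_lt_of_le hlt h8) a b⟩⟩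

end Cfsg.Agent.Lib.Helper26.BQS
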