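import Mathlib

/-!
# Sign of the action on cosets (a permutation form of Thompson's transfer lemma)

If `y` has order `2 ^ j` (`j ≥ 1`), `M` has index `2 ^ j * m` with `m` odd, and no nontrivial power of `y`
is conjugate into `M`, then `y` acts on the cosets of `M` as an odd permutation.
-/

set_option autoImplicit false

namespace Cfsg.Agent.Lib.Helper26.CosetSign

open Equiv

theorem sign_eq_neg_one {Ω : Type*} [Fintype Ω] [DecidableEq Ω] (σ : Perm Ω) (j m : ℕ)
    (hj : 1 ≤ j) (hm : Odd m) (hcard : Fintype.card Ω = 2 ^ j * m)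
    (hord : orderOf σ = 2 ^ j) (hsemi : ∀ (i : ℕ) (x : Ω), (σ ^ i) x = x → σ ^ i = 1) :
    Perm.sign σ = -1 := by
  have hall : ∀ n ∈ σ.cycleType, n = 2 ^ j := by
    intro n hn
    have hdvd : n ∣ 2 ^ j := hord ▸ Perm.dvd_of_mem_cycleType hn
    rw [Perm.cycleType_def] at hn
    obtain ⟨c, hc, rfl⟩ := Multiset.mem_map.mp hn
    have hc0 : c ∈ σ.cycleFactorsFinset := Finset.mem_val.mp hc
    obtain ⟨hcyc, hcs⟩ := Perm.mem_cycleFactorsFinset_iff.mp hc0
    obtain ⟨a, ha⟩ := hcyc.nonempty_support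
    have hca : c = σ.cycleOf a := Perm.cycle_is_cycleOf ha hc0
    have h1 : (σ ^ c.support.card) a = a := by
      rw [← Perm.cycleOf_pow_apply_self, ← hca, ← hcyc.orderOf, pow_orderOf_eq_one]
      rfl
    have h2 := hsemi _ _ h1
    have h3 : 2 ^ j ∣ c.support.card := hord ▸ orderOf_dvd_of_pow_eq_one h2
    exact Nat.dvd_antisymm hdvd h3
  have hsupp : σ.support = Finset.univ := by
    ext x
    simp only [Perm.mem_support, Finset.mem_univ, iff_true]
    intro hx
    have h2 := hsemi 1 x (by simpa using hx)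
    rw [pow_one] at h2
    rw [h2, orderOf_one] at hord
    have : 2 ≤ 2 ^ j := by
      calc 2 = 2 ^ 1 := by norm_num
        _ ≤ 2 ^ j := Nat.pow_le_pow_right (by norm_num) hj
    omega
  have hsum : σ.cycleType.sum = 2 ^ j * m := by
    rw [Perm.sum_cycleType, hsupp, Finset.card_univ, hcard]
  have hrep : σ.cycleType = Multiset.replicate (Multiset.card σ.cycleType) (2 ^ j) :=
    Multiset.eq_replicate_card.mpr hall
  have hk : Multiset.card σ.cycleType = m := by
    rw [hrep, Multiset.sum_replicate, smul_eq_mul, mul_comm] at hsum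
    exact Nat.eq_of_mul_eq_mul_left (by positivity) hsum
  rw [Perm.sign_of_cycleType, hsum, hk]
  apply Odd.neg_one_pow
  have : Even (2 ^ j * m) := by
    apply Even.mul_right
    exact (Nat.even_pow' (by omega)).mpr even_two
  exact Even.add_odd this hm

/-- The sign character of the action on the cosets of `M`. -/
theorem exists_hom {H : Type*} [Group H] [Finite H] (M : Subgroup H) :
    ∃ φ : H →* ℤˣ, ∀ (y : H) (j m : ℕ), 1 ≤ j → Odd m → M.index = 2 ^ j * m → orderOf y = 2 ^ j →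
      (∀ (i : ℕ) (g : H), g⁻¹ * y ^ i * g ∈ M → y ^ i = 1) → φ y = -1 := by
  classical
  let _ := Fintype.ofFinite (H ⧸ M)
  refine ⟨Perm.sign.comp (MulAction.toPermHom H (H ⧸ M)), ?_⟩
  intro y j m hj hm hidx hy hfree
  have hfix : ∀ (i : ℕ) (x : H ⧸ M), (MulAction.toPermHom H (H ⧸ M) y ^ i) x = x → y ^ i = 1 := by
    intro i x hx
    obtain ⟨g, rfl⟩ := QuotientGroup.mk_surjective x
    rw [← map_pow] at hx
    change ((y ^ i) • (g : H ⧸ M)) = g at hx
    rw [MulAction.Quotient.smul_mk, QuotientGroup.eq] at hx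
    apply hfree i g
    have := M.inv_mem hx
    simpa [mul_assoc] using this
  show Perm.sign (MulAction.toPermHom H (H ⧸ M) y) = -1
  apply sign_eq_neg_one _ j m hj hm
  · rw [← Nat.card_eq_fintype_card, ← Subgroup.index_eq_card, hidx]
  · apply Nat.dvd_antisymm
    · rw [← hy]
      exact orderOf_map_dvd _ y
    · rw [← hy]
      apply orderOf_dvd_of_pow_eq_one
      apply hfix _ ((1 : H) : H ⧸ M)
      rw [pow_orderOf_eq_one]
      rfl
  · intro i x hx
    rw [← map_pow, hfix i x hx, map_one]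

theorem int_units_eq_one_of_odd (u : ℤˣ) (n : ℕ) (hn : Odd n) (h : u ^ n = 1) : u = 1 := by
  rcases Int.units_eq_one_or u with h1 | h1
  · exact h1
  · rw [h1, hn.neg_one_pow] at h
    exact absurd h (by decide)

theorem index_ker_eq_two {H : Type*} [Group H] (φ : H →* ℤˣ) (y : H) (hy : φ y = -1) :
    φ.ker.index = 2 := by
  rw [Subgroup.index_eq_two_iff]
  refine ⟨y, fun b => ?_⟩
  simp only [MonoidHom.mem_ker, map_mul, hy]
  rcases Int.units_eq_one_or (φ b) with h1 | h1
  · rw [h1]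
    right
    exact ⟨rfl, by decide⟩
  · rw [h1]
    left
    exact ⟨by decide, by decide⟩

/-- The chain: peel off a cyclic 2-group acting semiregularly on the cosets of `L`. -/
theorem chain {G : Type*} [Group G] [Finite G] (L : Subgroup G)
    (hL : ∀ H : Subgroup G, (∀ g : G, Odd (orderOf g) → g ∈ H) → L ≤ H) (j : ℕ) :
    ∀ (H : Subgroup G) (y : G) (m : ℕ), y ∈ H → (∀ g : G, Odd (orderOf g) → g ∈ H) →
      Odd m → L.relIndex H = 2 ^ j * m → orderOf y = 2 ^ j →
      (∀ (i : ℕ) (g : G), g⁻¹ * y ^ i * g ∈ L → y ^ i = 1) →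
      ∃ H' : Subgroup G, H' ≤ H ∧ (∀ g : G, Odd (orderOf g) → g ∈ H') ∧ Odd (L.relIndex H') := by
  induction j with
  | zero =>
    intro H y m _ hodd hm hrel _ _
    refine ⟨H, le_rfl, hodd, ?_⟩
    rw [hrel]
    simpa using hm
  | succ j ih =>
    intro H y m hyH hodd hm hrel hy hfree
    obtain ⟨φ, hφ⟩ := exists_hom (L.subgroupOf H)
    have hφy : φ ⟨y, hyH⟩ = -1 := by
      apply hφ ⟨y, hyH⟩ (j + 1) m (by omega) hm hrel
      · rw [Subgroup.orderOf_mk, hy]
      · intro i g hg
        rw [Subgroup.mem_subgroupOf] at hg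
        have := hfree i (g : G) (by simpa using hg)
        apply Subtype.ext
        simpa using this
    have hidx : φ.ker.index = 2 := index_ker_eq_two φ _ hφy
    set H₁ : Subgroup G := φ.ker.map H.subtype with hH₁
    have hH₁H : H₁ ≤ H := Subgroup.map_subtype_le _
    have hmem : ∀ g : G, ∀ hg : g ∈ H, φ ⟨g, hg⟩ = 1 → g ∈ H₁ := by
      intro g hg h1
      exact ⟨⟨g, hg⟩, h1, rfl⟩
    have hodd₁ : ∀ g : G, Odd (orderOf g) → g ∈ H₁ := by
      intro g hg
      have hgH := hodd g hg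
      apply hmem g hgH
      apply int_units_eq_one_of_odd _ _ hg
      rw [← map_pow]
      have : (⟨g, hgH⟩ : ↥H) ^ orderOf g = 1 := by
        apply Subtype.ext
        simp [pow_orderOf_eq_one]
      rw [this, map_one]
    have hLH₁ : L ≤ H₁ := hL H₁ hodd₁
    have hy2 : y ^ 2 ∈ H₁ := by
      apply hmem (y ^ 2) (H.pow_mem hyH 2)
      have : (⟨y ^ 2, H.pow_mem hyH 2⟩ : ↥H) = ⟨y, hyH⟩ ^ 2 := rfl
      rw [this, map_pow, hφy]
      decide
    have hrel₁ : L.relIndex H₁ = 2 ^ j * m := by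
      have h1 := Subgroup.relIndex_mul_relIndex L H₁ H hLH₁ hH₁H
      have h2 : H₁.relIndex H = 2 := by
        rw [Subgroup.relIndex, hH₁, Subgroup.subgroupOf,
          Subgroup.comap_map_eq_self_of_injective H.subtype_injective]
        exact hidx
      rw [h2, hrel, pow_succ] at h1
      have : L.relIndex H₁ * 2 = 2 ^ j * m * 2 := by rw [h1]; ring
      exact Nat.eq_of_mul_eq_mul_right (by norm_num) this
    have hy2ord : orderOf (y ^ 2) = 2 ^ j := by
      rw [orderOf_pow_of_dvd (by norm_num) (by rw [hy, pow_succ]; exact Dvd.intro_left _ rfl), hy,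
        pow_succ]
      simp
    have hfree₁ : ∀ (i : ℕ) (g : G), g⁻¹ * (y ^ 2) ^ i * g ∈ L → (y ^ 2) ^ i = 1 := by
      intro i g hg
      rw [← pow_mul] at hg ⊢
      exact hfree _ g hg
    obtain ⟨H', hH'1, hH'2, hH'3⟩ := ih H₁ (y ^ 2) m hy2 hodd₁ hm hrel₁ hy2ord hfree₁
    exact ⟨H', hH'1.trans hH₁H, hH'2, hH'3⟩

end Cfsg.Agent.Lib.Helper26.CosetSign
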