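import Mathlib

set_option autoImplicit false

namespace Cfsg.Agent.Lib.Helper26

/-- dihedral relation: if `z*z=1`, `w*w=1`, `r = z*w` then `z * r^j * z = (r^j)⁻¹`. -/
theorem dih_conj_pow_eq {G : Type*} [Group G] (z w : G) (hz : z * z = 1) (hw : w * w = 1) (j : ℕ) :
    z * (z * w) ^ j * z = ((z * w) ^ j)⁻¹ := by
  have hzi : z⁻¹ = z := inv_eq_of_mul_eq_one_left hz
  have hwi : w⁻¹ = w := inv_eq_of_mul_eq_one_left hw
  have h1 : z * (z * w) * z⁻¹ = (z * w)⁻¹ := by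
    rw [mul_inv_rev, hzi, hwi, ← mul_assoc z z, hz, one_mul]
  calc z * (z * w) ^ j * z = z * (z * w) ^ j * z⁻¹ := by rw [hzi]
    _ = (z * (z * w) * z⁻¹) ^ j := (conj_pow).symm
    _ = ((z * w) ^ j)⁻¹ := by rw [h1, inv_pow]

theorem dih_z_mul_inv_pow {G : Type*} [Group G] (z w : G) (hz : z * z = 1) (hw : w * w = 1) (j : ℕ) :
    z * ((z * w) ^ j)⁻¹ = (z * w) ^ j * z := by
  rw [← dih_conj_pow_eq z w hz hw j]
  simp only [mul_assoc]
  rw [← mul_assoc z z, hz, one_mul]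

theorem dih_z_mul_pow {G : Type*} [Group G] (z w : G) (hz : z * z = 1) (hw : w * w = 1) (j : ℕ) :
    z * (z * w) ^ j = ((z * w) ^ j)⁻¹ * z := by
  rw [← dih_conj_pow_eq z w hz hw j]
  simp only [mul_assoc]
  rw [hz, mul_one]

/-- `w * r^j * w = (r^j)⁻¹` -/
theorem dih_conj_pow_eq' {G : Type*} [Group G] (z w : G) (hz : z * z = 1) (hw : w * w = 1) (j : ℕ) :
    w * (z * w) ^ j * w = ((z * w) ^ j)⁻¹ := by
  have hzi : z⁻¹ = z := inv_eq_of_mul_eq_one_left hz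
  have hwi : w⁻¹ = w := inv_eq_of_mul_eq_one_left hw
  have h1 : w * (z * w) * w⁻¹ = (z * w)⁻¹ := by
    rw [mul_inv_rev, hzi, hwi]; simp only [mul_assoc]; rw [hw, mul_one]
  calc w * (z * w) ^ j * w = w * (z * w) ^ j * w⁻¹ := by rw [hwi]
    _ = (w * (z * w) * w⁻¹) ^ j := (conj_pow).symm
    _ = ((z * w) ^ j)⁻¹ := by rw [h1, inv_pow]

/-- `r^j * z * (r^j)⁻¹ = r^(2j) * z` -/
theorem dih_conj_by_pow {G : Type*} [Group G] (z w : G) (hz : z * z = 1) (hw : w * w = 1) (j : ℕ) :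
    (z * w) ^ j * z * ((z * w) ^ j)⁻¹ = (z * w) ^ (2 * j) * z := by
  rw [mul_assoc, dih_z_mul_inv_pow z w hz hw, ← mul_assoc, two_mul, pow_add]

/-- `(r^j z) * w * (r^j z)⁻¹ = r^(2j+1) * z` -/
theorem dih_conj_by_pow_odd {G : Type*} [Group G] (z w : G) (hz : z * z = 1) (hw : w * w = 1) (j : ℕ) :
    ((z * w) ^ j * z) * w * ((z * w) ^ j * z)⁻¹ = (z * w) ^ (2 * j + 1) * z := by
  have hzi : z⁻¹ = z := inv_eq_of_mul_eq_one_left hz
  calc ((z * w) ^ j * z) * w * ((z * w) ^ j * z)⁻¹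
      = (z * w) ^ j * (z * w) * (z * ((z * w) ^ j)⁻¹) := by
        rw [mul_inv_rev, hzi]; simp only [mul_assoc]
    _ = (z * w) ^ (2 * j + 1) * z := by
        rw [dih_z_mul_inv_pow z w hz hw, ← mul_assoc, ← pow_succ, ← pow_add]
        congr 2; omega

/-- Every "reflection" `r^m * z` is conjugate to `z` or to `w`. -/
theorem dih_reflection_conj {G : Type*} [Group G] (z w : G) (hz : z * z = 1) (hw : w * w = 1) (m : ℕ) :
    (∃ k : G, (z * w) ^ m * z = k * z * k⁻¹) ∨ (∃ k : G, (z * w) ^ m * z = k * w * k⁻¹) := by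
  rcases Nat.even_or_odd' m with ⟨j, hj | hj⟩
  · left
    exact ⟨(z * w) ^ j, by rw [dih_conj_by_pow z w hz hw, hj]⟩
  · right
    exact ⟨(z * w) ^ j * z, by rw [dih_conj_by_pow_odd z w hz hw, hj]⟩

/-- If the order of `z*w` is odd, `w` is conjugate to `z` by a power of `z*w`. -/
theorem dih_odd_conj {G : Type*} [Group G] (z w : G) (hz : z * z = 1) (hw : w * w = 1) (m : ℕ)
    (hm : orderOf (z * w) = 2 * m + 1) :
    (z * w) ^ m * z * ((z * w) ^ m)⁻¹ = w := by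
  have hzi : z⁻¹ = z := inv_eq_of_mul_eq_one_left hz
  have hwi : w⁻¹ = w := inv_eq_of_mul_eq_one_left hw
  rw [dih_conj_by_pow z w hz hw]
  have : (z * w) ^ (2 * m) * (z * w) = 1 := by
    rw [← pow_succ, ← hm, pow_orderOf_eq_one]
  have h2 : (z * w) ^ (2 * m) = (z * w)⁻¹ := eq_inv_of_mul_eq_one_left this
  rw [h2, mul_inv_rev, hwi, hzi, mul_assoc, hz, mul_one]

/-- If the order of `z*w` is `2m` with `m>0`, then `u = (z*w)^m` is an involution commuting with `z` and `w`. -/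
theorem dih_even_central {G : Type*} [Group G] (z w : G) (hz : z * z = 1) (hw : w * w = 1) (m : ℕ)
    (hm0 : 0 < m) (hm : orderOf (z * w) = 2 * m) :
    (z * w) ^ m ≠ 1 ∧ (z * w) ^ m * (z * w) ^ m = 1 ∧ z * (z * w) ^ m = (z * w) ^ m * z ∧
      w * (z * w) ^ m = (z * w) ^ m * w := by
  have hu1 : (z * w) ^ m ≠ 1 := pow_ne_one_of_lt_orderOf (by omega) (by omega)
  have hu2 : (z * w) ^ m * (z * w) ^ m = 1 := by
    rw [← pow_add, ← two_mul, ← hm, pow_orderOf_eq_one]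
  have hui : ((z * w) ^ m)⁻¹ = (z * w) ^ m := inv_eq_of_mul_eq_one_left hu2
  refine ⟨hu1, hu2, ?_, ?_⟩
  · have := dih_z_mul_inv_pow z w hz hw m
    rw [hui] at this
    exact this
  · have := dih_conj_pow_eq' z w hz hw m
    rw [hui] at this
    calc w * (z * w) ^ m = w * (z * w) ^ m * w * w := by rw [mul_assoc _ w w, hw, mul_one]
      _ = (z * w) ^ m * w := by rw [this]

end Cfsg.Agent.Lib.Helper26
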