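import Cfsg.Agent.Lib.Helper60.FHAdj

set_option autoImplicit false

open Cfsg Cfsg.Agent.Lib.Helper08 Cfsg.Agent.Lib.Helper60.FH Matrix

namespace Cfsg.Agent.Lib.Helper26.FH

section adj

variable {G : Type*} [Group G] (P : Cfsg.BNPair G)

theorem dc_s_inv {s : G} (hs : s ∈ P.S) {g : G} (h : DC P s g) : DC P s g⁻¹ :=
  (Eqv_dc_iff P (Eqv_inv_S P hs)).1 (DC_inv P h)

theorem not_dc_of_mem_B {s : G} (hs : s ∈ P.S) {g : G} (hg : g ∈ P.B) : ¬ DC P s g := by
  intro h
  exact S_not_mem_B P hs ((DC_of_mem P hg).1 (DC_symm P h))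

/-- `B ∪ B s B` is closed under products -/
theorem ps_mul {s : G} (hs : s ∈ P.S) {g h : G} (hg : DC P s g) (hh : DC P s h) :
    g * h ∈ P.B ∨ DC P s (g * h) := by
  obtain ⟨b1, hb1, b2, hb2, rfl⟩ := hg
  obtain ⟨c1, hc1, c2, hc2, rfl⟩ := hh
  have hb : b2 * c1 ∈ P.B := P.B.mul_mem hb2 hc1
  have e : b1 * s * b2 * (c1 * s * c2) = b1 * (s * (b2 * c1) * s) * c2 := by group
  rw [e]
  rcases axL P hs (S_mem_N P hs) hb with h | h
  · left
    have := (DC_of_mem P (sq_mem_B P hs)).1 h
    exact P.B.mul_mem (P.B.mul_mem hb1 this) hc2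
  · right
    exact DC_mul_right P hc2 (DC_mul_left P hb1 h)

theorem dc_out_iff' (n g : G) :
    DC P n (QuotientGroup.mk g : G ⧸ P.B).out ↔ DC P n g := by
  obtain ⟨h, hh⟩ := QuotientGroup.mk_out_eq_mul P.B g
  rw [hh]
  constructor
  · intro H
    have := DC_mul_right P (P.B.inv_mem h.2) H
    simpa [mul_assoc] using this
  · intro H
    exact DC_mul_right P h.2 H

theorem adj_mk_out (g x : G) (y : G ⧸ P.B) [Decidable (DC P g (x⁻¹ * y.out))] :
    adj P g (QuotientGroup.mk x) y = if DC P g (x⁻¹ * y.out) then 1 else 0 := by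
  conv_lhs => rw [← QuotientGroup.out_eq' y]
  rw [adj_apply_mk]

theorem adj_out_mk (g z : G) (y : G ⧸ P.B) [Decidable (DC P g (y.out⁻¹ * z))] :
    adj P g y (QuotientGroup.mk z) = if DC P g (y.out⁻¹ * z) then 1 else 0 := by
  conv_lhs => rw [← QuotientGroup.out_eq' y]
  rw [adj_apply_mk]

theorem adj_smul (g a : G) (x y : G ⧸ P.B) : adj P g (a • x) (a • y) = adj P g x y := by
  induction x using QuotientGroup.induction_on with
  | H x =>
  induction y using QuotientGroup.induction_on with
  | H y =>
  rw [MulAction.Quotient.smul_mk, MulAction.Quotient.smul_mk]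
  have e : (a * x)⁻¹ * (a * y) = x⁻¹ * y := by group
  by_cases h : DC P g (x⁻¹ * y)
  · rw [adj_apply_mk_of_dc P h, adj_apply_mk_of_dc P (by rwa [smul_eq_mul, smul_eq_mul, e])]
  · rw [adj_apply_mk_of_not_dc P h,
      adj_apply_mk_of_not_dc P (by rwa [smul_eq_mul, smul_eq_mul, e])]

variable [Fintype (G ⧸ P.B)] [DecidableEq (G ⧸ P.B)]

omit [DecidableEq (G ⧸ P.B)] in
theorem mul_adj_smul (g h a : G) (x z : G ⧸ P.B) :
    (adj P g * adj P h) (a • x) (a • z) = (adj P g * adj P h) x z := by
  simp only [Matrix.mul_apply]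
  refine (Fintype.sum_equiv (MulAction.toPerm a) _ _ ?_).symm
  intro y
  simp only [MulAction.toPerm_apply, adj_smul]

/-- K-S1142-C (quadratic relation). -/
theorem adj_sq {s : G} (hs : s ∈ P.S) :
    ∃ q : ℕ, 2 ≤ q ∧
      adj P s * adj P s = (q : ℝ) • (1 : Matrix (G ⧸ P.B) (G ⧸ P.B) ℝ) + ((q : ℝ) - 1) • adj P s := by
  classical
  set C : Finset (G ⧸ P.B) := Finset.univ.filter (fun y => DC P s y.out) with hC
  have hmemC : ∀ g : G, (QuotientGroup.mk g : G ⧸ P.B) ∈ C ↔ DC P s g := by
    intro g
    rw [hC, Finset.mem_filter]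
    simp only [Finset.mem_univ, true_and]
    exact dc_out_iff' P s g
  have hq1 : 1 ≤ C.card := Finset.card_pos.2 ⟨_, (hmemC s).2 (DC_self P s)⟩
  refine ⟨C.card, ?_, ?_⟩
  · obtain ⟨b, hb, hbs⟩ := exists_conj_not_mem P hs
    have h1 : (QuotientGroup.mk s : G ⧸ P.B) ∈ C := (hmemC s).2 (DC_self P s)
    have h2 : (QuotientGroup.mk (b * s) : G ⧸ P.B) ∈ C :=
      (hmemC (b * s)).2 (DC_mul_left P hb (DC_self P s))
    have hne : (QuotientGroup.mk s : G ⧸ P.B) ≠ QuotientGroup.mk (b * s) := by
      intro h
      rw [QuotientGroup.eq] at h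
      apply hbs
      have e : s * b * s = (s * s) * (s⁻¹ * (b * s)) := by group
      rw [e]
      exact P.B.mul_mem (sq_mem_B P hs) h
    have : ({QuotientGroup.mk s, QuotientGroup.mk (b * s)} : Finset (G ⧸ P.B)) ⊆ C := by
      intro y hy
      rw [Finset.mem_insert, Finset.mem_singleton] at hy
      rcases hy with rfl | rfl
      · exact h1
      · exact h2
    have hc := Finset.card_le_card this
    rwa [Finset.card_pair hne] at hc
  · -- the base row
    have key : ∀ z : G ⧸ P.B, (adj P s * adj P s) (QuotientGroup.mk 1) z =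
        ((C.card : ℝ) • (1 : Matrix (G ⧸ P.B) (G ⧸ P.B) ℝ) + ((C.card : ℝ) - 1) • adj P s)
          (QuotientGroup.mk 1) z := by
      intro z
      induction z using QuotientGroup.induction_on with
      | H g =>
      have hsum : (adj P s * adj P s) (QuotientGroup.mk 1) (QuotientGroup.mk g) =
          ((Finset.univ.filter (fun y : G ⧸ P.B => DC P s y.out ∧ DC P s (y.out⁻¹ * g))).card : ℝ) := by
        rw [Matrix.mul_apply, Finset.card_filter]
        push_cast
        refine Finset.sum_congr rfl ?_
        intro y _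
        rw [adj_mk_out, adj_out_mk]
        simp only [inv_one, one_mul]
        by_cases h1 : DC P s y.out <;> by_cases h2 : DC P s (y.out⁻¹ * g) <;> simp [h1, h2]
      rw [hsum]
      simp only [Matrix.add_apply, Matrix.smul_apply, Matrix.one_apply, smul_eq_mul]
      by_cases hgB : g ∈ P.B
      · -- g ∈ B
        have h1g : (QuotientGroup.mk 1 : G ⧸ P.B) = QuotientGroup.mk g := by
          rw [QuotientGroup.eq]; simpa using hgB
        have hndc : ¬ DC P s ((1 : G)⁻¹ * g) := by
          simpa using not_dc_of_mem_B P hs hgB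
        rw [if_pos h1g, adj_apply_mk_of_not_dc P hndc]
        have : Finset.univ.filter (fun y : G ⧸ P.B => DC P s y.out ∧ DC P s (y.out⁻¹ * g)) = C := by
          rw [hC]
          refine Finset.filter_congr ?_
          intro y _
          constructor
          · exact fun h => h.1
          · intro h
            refine ⟨h, ?_⟩
            exact DC_mul_right P hgB (dc_s_inv P hs h)
        rw [this]
        ring
      · by_cases hdc : DC P s g
        · have h1g : ¬ (QuotientGroup.mk 1 : G ⧸ P.B) = QuotientGroup.mk g := by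
            rw [QuotientGroup.eq]; simpa using hgB
          have hdc' : DC P s ((1 : G)⁻¹ * g) := by simpa using hdc
          rw [if_neg h1g, adj_apply_mk_of_dc P hdc']
          have : Finset.univ.filter (fun y : G ⧸ P.B => DC P s y.out ∧ DC P s (y.out⁻¹ * g)) =
              C.erase (QuotientGroup.mk g) := by
            ext y
            rw [Finset.mem_filter, Finset.mem_erase, hC, Finset.mem_filter]
            simp only [Finset.mem_univ, true_and]
            constructor
            · rintro ⟨h1, h2⟩
              refine ⟨?_, h1⟩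
              intro hy
              have : y.out⁻¹ * g ∈ P.B := by
                rw [← QuotientGroup.eq, QuotientGroup.out_eq', hy]
              exact not_dc_of_mem_B P hs this h2
            · rintro ⟨hy, h1⟩
              refine ⟨h1, ?_⟩
              rcases ps_mul P hs (dc_s_inv P hs h1) hdc with h | h
              · exfalso
                apply hy
                rw [← QuotientGroup.out_eq' y, QuotientGroup.eq]
                exact h
              · exact h
          rw [this, Finset.card_erase_of_mem ((hmemC g).2 hdc)]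
          rw [Nat.cast_sub hq1]
          simp
        · have h1g : ¬ (QuotientGroup.mk 1 : G ⧸ P.B) = QuotientGroup.mk g := by
            rw [QuotientGroup.eq]; simpa using hgB
          have hdc' : ¬ DC P s ((1 : G)⁻¹ * g) := by simpa using hdc
          rw [if_neg h1g, adj_apply_mk_of_not_dc P hdc']
          have : Finset.univ.filter (fun y : G ⧸ P.B => DC P s y.out ∧ DC P s (y.out⁻¹ * g)) = ∅ := by
            rw [Finset.filter_eq_empty_iff]
            rintro y _ ⟨h1, h2⟩
            rcases ps_mul P hs h1 h2 with h | h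
            · apply hgB
              simpa using h
            · apply hdc
              simpa using h
          rw [this]
          simp
    -- general rows by invariance
    ext x z
    induction x using QuotientGroup.induction_on with
    | H gx =>
    have hx : (QuotientGroup.mk gx : G ⧸ P.B) = gx • (QuotientGroup.mk 1 : G ⧸ P.B) := by
      rw [MulAction.Quotient.smul_mk, smul_eq_mul, mul_one]
    have hz : z = gx • (gx⁻¹ • z) := (smul_inv_smul gx z).symm
    rw [hx, hz, mul_adj_smul, key]
    simp only [Matrix.add_apply, Matrix.smul_apply, Matrix.one_apply, smul_eq_mul, adj_smul,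
      smul_left_cancel_iff]

end adj

end Cfsg.Agent.Lib.Helper26.FH
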