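import Mathlib
import Cfsg.Agent.Lib.Helper26.KKGrp
import Cfsg.Agent.Lib.Helper22.KKAL

/-!
# K-S3779-AL, homogeneous layer

For a group `G` with `γ i = (⊤ : Subgroup G).lowerCentralSeries i`:
* `Q G i`   : the factor `γ i / γ (i+1)` (a commutative group), `cls i x hx : Q G i` the class of `x ∈ γ i`;
* `br i j`  : `Q G i → Q G j → Q G (i+j+1)` induced by the group commutator, biadditive (`br_mul_left`,
  `br_mul_right`), alternating (`br_self`, `cls_comm_swap`), Jacobi (`cls_jacobi`, cast free, on classes);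
* `Qmap α i`: the endomorphism of `Q G i` induced by `α : MulAut G`; compatible with `br`, functorial,
  fixed point free when `α` is, and `(Qmap α i)^[p] = id` when `α ^ p = 1`;
* `Q_succ_closure` : `Q G (i+1)` is generated by the brackets `br i 0 a b`;
* `lcs_eq_succ_of_subsingleton` : `Q G c` trivial implies `γ c = γ (c+1)`.
-/

set_option autoImplicit false

namespace Cfsg.Agent.Lib.Helper26.KK

universe u

open scoped commutatorElement

variable (G : Type u) [Group G]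

/-- `γ i` -/
abbrev lcsG (i : ℕ) : Subgroup G := (⊤ : Subgroup G).lowerCentralSeries i

/-- the factor `γ i / γ (i+1)` -/
def Q (i : ℕ) : Type u := ↥(lcsG G i) ⧸ (lcsG G (i + 1)).subgroupOf (lcsG G i)

instance Q.instGroup (i : ℕ) : Group (Q G i) :=
  inferInstanceAs (Group (↥(lcsG G i) ⧸ (lcsG G (i + 1)).subgroupOf (lcsG G i)))

variable {G}

/-- the class of `x ∈ γ i` in `γ i / γ (i+1)` -/
def cls (i : ℕ) (x : G) (hx : x ∈ lcsG G i) : Q G i :=
  (QuotientGroup.mk (⟨x, hx⟩ : ↥(lcsG G i)) : ↥(lcsG G i) ⧸ (lcsG G (i + 1)).subgroupOf (lcsG G i))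

theorem cls_surj {i : ℕ} (a : Q G i) : ∃ (x : G) (hx : x ∈ lcsG G i), cls i x hx = a := by
  obtain ⟨⟨x, hx⟩, rfl⟩ := QuotientGroup.mk_surjective a
  exact ⟨x, hx, rfl⟩

theorem cls_mul {i : ℕ} {x y : G} (hx : x ∈ lcsG G i) (hy : y ∈ lcsG G i) :
    cls i (x * y) (mul_mem hx hy) = cls i x hx * cls i y hy := rfl

theorem cls_one (i : ℕ) : cls i (1 : G) (one_mem _) = 1 := rfl

theorem cls_inv {i : ℕ} {x : G} (hx : x ∈ lcsG G i) :
    cls i x⁻¹ (inv_mem hx) = (cls i x hx)⁻¹ := rfl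

theorem cls_eq_iff {i : ℕ} {x y : G} (hx : x ∈ lcsG G i) (hy : y ∈ lcsG G i) :
    cls i x hx = cls i y hy ↔ x⁻¹ * y ∈ lcsG G (i + 1) := by
  change ((QuotientGroup.mk (⟨x, hx⟩ : ↥(lcsG G i)) :
      ↥(lcsG G i) ⧸ (lcsG G (i + 1)).subgroupOf (lcsG G i)) = QuotientGroup.mk ⟨y, hy⟩) ↔ _
  rw [QuotientGroup.eq, Subgroup.mem_subgroupOf]
  rfl

theorem cls_eq_one_iff {i : ℕ} {x : G} (hx : x ∈ lcsG G i) :
    cls i x hx = 1 ↔ x ∈ lcsG G (i + 1) := by
  change ((QuotientGroup.mk (⟨x, hx⟩ : ↥(lcsG G i)) :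
      ↥(lcsG G i) ⧸ (lcsG G (i + 1)).subgroupOf (lcsG G i)) = 1) ↔ _
  rw [QuotientGroup.eq_one_iff, Subgroup.mem_subgroupOf]

/-- equality of classes from the `a * b⁻¹` form used in `KKGrp` -/
theorem cls_eq_of_mul_inv_mem {i : ℕ} {x y : G} (hx : x ∈ lcsG G i) (hy : y ∈ lcsG G i)
    (h : x * y⁻¹ ∈ lcsG G (i + 1)) : cls i x hx = cls i y hy := by
  rw [cls_eq_iff]
  have h1 : (x * y⁻¹)⁻¹ ∈ lcsG G (i + 1) := inv_mem h
  have h2 : x⁻¹ * (x * y⁻¹)⁻¹ * x⁻¹⁻¹ ∈ lcsG G (i + 1) :=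
    (inferInstance : (lcsG G (i + 1)).Normal).conj_mem _ h1 x⁻¹
  have e : x⁻¹ * (x * y⁻¹)⁻¹ * x⁻¹⁻¹ = x⁻¹ * y := by group
  rwa [e] at h2

theorem cls_congr {i : ℕ} {x y : G} (h : x = y) (hx : x ∈ lcsG G i) (hy : y ∈ lcsG G i) :
    cls i x hx = cls i y hy := by
  subst h; rfl

instance Q.instCommGroup (i : ℕ) : CommGroup (Q G i) :=
  { Q.instGroup G i with
    mul_comm := by
      intro a b
      obtain ⟨x, hx, rfl⟩ := cls_surj a
      obtain ⟨y, hy, rfl⟩ := cls_surj b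
      rw [← cls_mul, ← cls_mul, cls_eq_iff]
      have h : ⁅y⁻¹, x⁻¹⁆ ∈ lcsG G (i + i + 1) := comm_mem_lcs (inv_mem hy) (inv_mem hx)
      have e : (x * y)⁻¹ * (y * x) = ⁅y⁻¹, x⁻¹⁆ := by
        simp only [commutatorElement_def]; group
      rw [e]
      exact lcs_mem_of_le (by omega) h }

/-! ### the bracket -/

theorem cls_comm_mul_left {i j : ℕ} {x x' y : G} (hx : x ∈ lcsG G i) (hx' : x' ∈ lcsG G i)
    (hy : y ∈ lcsG G j) :
    cls (i + j + 1) ⁅x * x', y⁆ (comm_mem_lcs (mul_mem hx hx') hy)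
      = cls (i + j + 1) ⁅x, y⁆ (comm_mem_lcs hx hy) * cls (i + j + 1) ⁅x', y⁆ (comm_mem_lcs hx' hy) := by
  rw [← cls_mul]
  exact cls_eq_of_mul_inv_mem _ _ (comm_mul_left_mod hx hx' hy)

theorem cls_comm_mul_right {i j : ℕ} {x y y' : G} (hx : x ∈ lcsG G i) (hy : y ∈ lcsG G j)
    (hy' : y' ∈ lcsG G j) :
    cls (i + j + 1) ⁅x, y * y'⁆ (comm_mem_lcs hx (mul_mem hy hy'))
      = cls (i + j + 1) ⁅x, y⁆ (comm_mem_lcs hx hy) * cls (i + j + 1) ⁅x, y'⁆ (comm_mem_lcs hx hy') := by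
  rw [← cls_mul]
  exact cls_eq_of_mul_inv_mem _ _ (comm_mul_right_mod hx hy hy')

theorem cls_comm_eq_one_left {i j : ℕ} {x y : G} (hx : x ∈ lcsG G (i + 1)) (hy : y ∈ lcsG G j) :
    cls (i + j + 1) ⁅x, y⁆ (comm_mem_lcs (lcs_mem_of_le (Nat.le_succ i) hx) hy) = 1 := by
  rw [cls_eq_one_iff]
  exact lcs_mem_of_le (by omega) (comm_mem_lcs hx hy)

theorem cls_comm_eq_one_right {i j : ℕ} {x y : G} (hx : x ∈ lcsG G i) (hy : y ∈ lcsG G (j + 1)) :
    cls (i + j + 1) ⁅x, y⁆ (comm_mem_lcs hx (lcs_mem_of_le (Nat.le_succ j) hy)) = 1 := by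
  rw [cls_eq_one_iff]
  exact lcs_mem_of_le (by omega) (comm_mem_lcs hx hy)

/-- the class of `⁅x, y⁆` only depends on the classes of `x` and `y` -/
theorem cls_comm_congr {i j : ℕ} {x x' y y' : G} (hx : x ∈ lcsG G i) (hx' : x' ∈ lcsG G i)
    (hy : y ∈ lcsG G j) (hy' : y' ∈ lcsG G j)
    (h1 : x⁻¹ * x' ∈ lcsG G (i + 1)) (h2 : y⁻¹ * y' ∈ lcsG G (j + 1)) :
    cls (i + j + 1) ⁅x, y⁆ (comm_mem_lcs hx hy) = cls (i + j + 1) ⁅x', y'⁆ (comm_mem_lcs hx' hy') := by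
  have hn : x⁻¹ * x' ∈ lcsG G i := lcs_mem_of_le (Nat.le_succ i) h1
  have hm : y⁻¹ * y' ∈ lcsG G j := lcs_mem_of_le (Nat.le_succ j) h2
  have ex : x' = x * (x⁻¹ * x') := by group
  have ey : y' = y * (y⁻¹ * y') := by group
  have s1 : cls (i + j + 1) ⁅x', y'⁆ (comm_mem_lcs hx' hy')
      = cls (i + j + 1) ⁅x * (x⁻¹ * x'), y'⁆ (comm_mem_lcs (mul_mem hx hn) hy') :=
    cls_congr (by rw [← ex]) _ _
  have s2 : cls (i + j + 1) ⁅x, y'⁆ (comm_mem_lcs hx hy')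
      = cls (i + j + 1) ⁅x, y * (y⁻¹ * y')⁆ (comm_mem_lcs hx (mul_mem hy hm)) :=
    cls_congr (by rw [← ey]) _ _
  rw [s1, cls_comm_mul_left hx hn hy', cls_comm_eq_one_left h1 hy', mul_one, s2,
    cls_comm_mul_right hx hy hm, cls_comm_eq_one_right hx h2, mul_one]

/-- the bracket `γ i / γ (i+1) × γ j / γ (j+1) → γ (i+j+1) / γ (i+j+2)` -/
def br (i j : ℕ) (a : Q G i) (b : Q G j) : Q G (i + j + 1) :=
  Quotient.liftOn₂' a b
    (fun x y => cls (i + j + 1) ⁅(x : G), (y : G)⁆ (comm_mem_lcs x.2 y.2))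
    (by
      intro x y x' y' h1 h2
      rw [QuotientGroup.leftRel_apply, Subgroup.mem_subgroupOf] at h1 h2
      exact cls_comm_congr x.2 x'.2 y.2 y'.2 h1 h2)

theorem br_cls {i j : ℕ} {x y : G} (hx : x ∈ lcsG G i) (hy : y ∈ lcsG G j) :
    br i j (cls i x hx) (cls j y hy) = cls (i + j + 1) ⁅x, y⁆ (comm_mem_lcs hx hy) := rfl

theorem br_mul_left {i j : ℕ} (a a' : Q G i) (b : Q G j) :
    br i j (a * a') b = br i j a b * br i j a' b := by
  obtain ⟨x, hx, rfl⟩ := cls_surj a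
  obtain ⟨x', hx', rfl⟩ := cls_surj a'
  obtain ⟨y, hy, rfl⟩ := cls_surj b
  rw [← cls_mul, br_cls, br_cls, br_cls]
  exact cls_comm_mul_left hx hx' hy

theorem br_mul_right {i j : ℕ} (a : Q G i) (b b' : Q G j) :
    br i j a (b * b') = br i j a b * br i j a b' := by
  obtain ⟨x, hx, rfl⟩ := cls_surj a
  obtain ⟨y, hy, rfl⟩ := cls_surj b
  obtain ⟨y', hy', rfl⟩ := cls_surj b'
  rw [← cls_mul, br_cls, br_cls, br_cls]
  exact cls_comm_mul_right hx hy hy'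

theorem br_one_left {i j : ℕ} (b : Q G j) : br i j (1 : Q G i) b = 1 := by
  have h := br_mul_left (1 : Q G i) 1 b
  rw [mul_one] at h
  exact (mul_eq_left.mp h.symm)

theorem br_one_right {i j : ℕ} (a : Q G i) : br i j a (1 : Q G j) = 1 := by
  have h := br_mul_right a (1 : Q G j) 1
  rw [mul_one] at h
  exact (mul_eq_left.mp h.symm)

theorem br_inv_left {i j : ℕ} (a : Q G i) (b : Q G j) : br i j a⁻¹ b = (br i j a b)⁻¹ := by
  have h := br_mul_left a a⁻¹ b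
  rw [mul_inv_cancel, br_one_left] at h
  exact (eq_inv_of_mul_eq_one_right h.symm)

theorem br_inv_right {i j : ℕ} (a : Q G i) (b : Q G j) : br i j a b⁻¹ = (br i j a b)⁻¹ := by
  have h := br_mul_right a b b⁻¹
  rw [mul_inv_cancel, br_one_right] at h
  exact (eq_inv_of_mul_eq_one_right h.symm)

/-- the bracket as a bi-homomorphism -/
def brHom (i j : ℕ) : Q G i →* Q G j →* Q G (i + j + 1) where
  toFun a :=
    { toFun := fun b => br i j a b
      map_one' := br_one_right a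
      map_mul' := fun b b' => br_mul_right a b b' }
  map_one' := by
    ext b
    exact br_one_left b
  map_mul' := by
    intro a a'
    ext b
    exact br_mul_left a a' b

theorem brHom_apply {i j : ℕ} (a : Q G i) (b : Q G j) : brHom i j a b = br i j a b := rfl

/-- alternating -/
theorem br_self {i : ℕ} (a : Q G i) : br i i a a = 1 := by
  obtain ⟨x, hx, rfl⟩ := cls_surj a
  rw [br_cls]
  exact (cls_congr (commutatorElement_self x) _ (one_mem _)).trans (cls_one _)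

/-- skew symmetry on classes (same index `n` on both sides, so cast free) -/
theorem cls_comm_swap {n : ℕ} {x y : G} (h1 : ⁅x, y⁆ ∈ lcsG G n) (h2 : ⁅y, x⁆ ∈ lcsG G n) :
    cls n ⁅y, x⁆ h2 = (cls n ⁅x, y⁆ h1)⁻¹ := by
  rw [← cls_inv]
  exact cls_congr (commutatorElement_inv x y).symm _ _

/-- Jacobi identity on classes (cast free): for `x ∈ γ i`, `y ∈ γ j`, `z ∈ γ k` and `n = i+j+k+2`,
`⁅x,⁅y,z⁆⁆ ≡ ⁅⁅x,y⁆,z⁆ ⁅y,⁅x,z⁆⁆` modulo `γ (n+1)`. -/
theorem cls_jacobi {i j k n : ℕ} (hn : n = i + j + k + 2) {x y z : G} (hx : x ∈ lcsG G i)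
    (hy : y ∈ lcsG G j) (hz : z ∈ lcsG G k)
    (h1 : ⁅x, ⁅y, z⁆⁆ ∈ lcsG G n) (h2 : ⁅⁅x, y⁆, z⁆ ∈ lcsG G n) (h3 : ⁅y, ⁅x, z⁆⁆ ∈ lcsG G n) :
    cls n ⁅x, ⁅y, z⁆⁆ h1 = cls n ⁅⁅x, y⁆, z⁆ h2 * cls n ⁅y, ⁅x, z⁆⁆ h3 := by
  subst hn
  rw [← cls_mul]
  exact cls_eq_of_mul_inv_mem _ _ (jacobi_mod hx hy hz)

/-- membership facts for the three Jacobi terms -/
theorem jacobi_mem₁ {i j k : ℕ} {x y z : G} (hx : x ∈ lcsG G i) (hy : y ∈ lcsG G j)
    (hz : z ∈ lcsG G k) : ⁅x, ⁅y, z⁆⁆ ∈ lcsG G (i + j + k + 2) :=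
  lcs_mem_of_le (by omega) (comm_mem_lcs hx (comm_mem_lcs hy hz))

theorem jacobi_mem₂ {i j k : ℕ} {x y z : G} (hx : x ∈ lcsG G i) (hy : y ∈ lcsG G j)
    (hz : z ∈ lcsG G k) : ⁅⁅x, y⁆, z⁆ ∈ lcsG G (i + j + k + 2) :=
  lcs_mem_of_le (by omega) (comm_mem_lcs (comm_mem_lcs hx hy) hz)

theorem jacobi_mem₃ {i j k : ℕ} {x y z : G} (hx : x ∈ lcsG G i) (hy : y ∈ lcsG G j)
    (hz : z ∈ lcsG G k) : ⁅y, ⁅x, z⁆⁆ ∈ lcsG G (i + j + k + 2) :=
  lcs_mem_of_le (by omega) (comm_mem_lcs hy (comm_mem_lcs hx hz))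

/-! ### index casts -/

/-- transport along an equality of indices -/
def QCast {m n : ℕ} (h : m = n) : Q G m ≃* Q G n := h ▸ MulEquiv.refl _

theorem QCast_cls {m n : ℕ} (h : m = n) {x : G} (hx : x ∈ lcsG G m) :
    QCast h (cls m x hx) = cls n x (h ▸ hx) := by
  subst h; rfl

theorem QCast_rfl {m : ℕ} (a : Q G m) : QCast (rfl : m = m) a = a := rfl

/-- Jacobi with `br` and explicit index casts into `Q G (i+j+k+2)` -/
theorem br_jacobi {i j k : ℕ} (a : Q G i) (b : Q G j) (c : Q G k) :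
    QCast (show i + (j + k + 1) + 1 = i + j + k + 2 by omega) (br i (j + k + 1) a (br j k b c))
      = QCast (show i + j + 1 + k + 1 = i + j + k + 2 by omega) (br (i + j + 1) k (br i j a b) c)
        * QCast (show j + (i + k + 1) + 1 = i + j + k + 2 by omega) (br j (i + k + 1) b (br i k a c)) := by
  obtain ⟨x, hx, rfl⟩ := cls_surj a
  obtain ⟨y, hy, rfl⟩ := cls_surj b
  obtain ⟨z, hz, rfl⟩ := cls_surj c
  simp only [br_cls, QCast_cls]
  exact cls_jacobi rfl hx hy hz _ _ _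

/-! ### the induced endomorphisms -/

/-- the endomorphism of `γ i / γ (i+1)` induced by an automorphism of `G` -/
def Qmap (α : MulAut G) (i : ℕ) : Q G i →* Q G i :=
  QuotientGroup.map ((lcsG G (i + 1)).subgroupOf (lcsG G i)) ((lcsG G (i + 1)).subgroupOf (lcsG G i))
    ({ toFun := fun x => ⟨α x.1, Cfsg.Agent.Lib.Helper22.KK.lcs_map_mulAut α i x.2⟩
       map_one' := by apply Subtype.ext; simp
       map_mul' := by intro x y; apply Subtype.ext; simp } : ↥(lcsG G i) →* ↥(lcsG G i))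
    (by
      intro x hx
      rw [Subgroup.mem_comap, Subgroup.mem_subgroupOf]
      rw [Subgroup.mem_subgroupOf] at hx
      exact Cfsg.Agent.Lib.Helper22.KK.lcs_map_mulAut α (i + 1) hx)

theorem Qmap_cls (α : MulAut G) {i : ℕ} {x : G} (hx : x ∈ lcsG G i) :
    Qmap α i (cls i x hx) = cls i (α x) (Cfsg.Agent.Lib.Helper22.KK.lcs_map_mulAut α i hx) := rfl

theorem Qmap_br (α : MulAut G) {i j : ℕ} (a : Q G i) (b : Q G j) :
    Qmap α (i + j + 1) (br i j a b) = br i j (Qmap α i a) (Qmap α j b) := by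
  obtain ⟨x, hx, rfl⟩ := cls_surj a
  obtain ⟨y, hy, rfl⟩ := cls_surj b
  rw [br_cls, Qmap_cls, Qmap_cls, Qmap_cls, br_cls]
  exact cls_congr (map_commutatorElement α x y) _ _

theorem Qmap_one_apply {i : ℕ} (a : Q G i) : Qmap (1 : MulAut G) i a = a := by
  obtain ⟨x, hx, rfl⟩ := cls_surj a
  rw [Qmap_cls]
  exact cls_congr rfl _ _

theorem Qmap_mul_apply (α β : MulAut G) {i : ℕ} (a : Q G i) :
    Qmap (α * β) i a = Qmap α i (Qmap β i a) := by
  obtain ⟨x, hx, rfl⟩ := cls_surj a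
  rw [Qmap_cls, Qmap_cls, Qmap_cls]
  exact cls_congr rfl _ _

theorem Qmap_pow_apply (α : MulAut G) (n : ℕ) {i : ℕ} (a : Q G i) :
    Qmap (α ^ n) i a = (⇑(Qmap α i))^[n] a := by
  induction n with
  | zero => rw [pow_zero, Qmap_one_apply]; rfl
  | succ n ih =>
    rw [pow_succ', Qmap_mul_apply, ih, Function.iterate_succ_apply']

theorem Qmap_iterate_eq (α : MulAut G) {p : ℕ} (hα : α ^ p = 1) {i : ℕ} (a : Q G i) :
    (⇑(Qmap α i))^[p] a = a := by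
  rw [← Qmap_pow_apply, hα, Qmap_one_apply]

/-- a fixed point free automorphism induces fixed point free maps on the factors -/
theorem Qmap_fixed [Finite G] (α : MulAut G) (hfpf : ∀ g : G, α g = g → g = 1) {i : ℕ} (a : Q G i)
    (h : Qmap α i a = a) : a = 1 := by
  obtain ⟨x, hx, rfl⟩ := cls_surj a
  rw [Qmap_cls, cls_eq_iff] at h
  rw [cls_eq_one_iff]
  exact Cfsg.Agent.Lib.Helper22.KK.mem_lcs_of_fixed_mod α hfpf (i + 1) h

/-- the factors have order prime to `p` -/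
theorem card_Q_coprime [Finite G] (p : ℕ) (hp : p.Prime) (α : MulAut G) (hα : α ^ p = 1)
    (hfpf : ∀ g : G, α g = g → g = 1) (i : ℕ) : (Nat.card (Q G i)).Coprime p :=
  Cfsg.Agent.Lib.Helper22.KK.card_quotient_coprime p hp α hα hfpf (lcsG G i)
    ((lcsG G (i + 1)).subgroupOf (lcsG G i))

instance Q.instFinite [Finite G] (i : ℕ) : Finite (Q G i) :=
  inferInstanceAs (Finite (↥(lcsG G i) ⧸ (lcsG G (i + 1)).subgroupOf (lcsG G i)))

/-! ### generation and class transfer -/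

/-- `γ (i+1) / γ (i+2)` is generated by the brackets of `γ i / γ (i+1)` with `G / γ 1` -/
theorem Q_succ_closure (i : ℕ) :
    Subgroup.closure {c : Q G (i + 0 + 1) | ∃ (a : Q G i) (b : Q G 0), br i 0 a b = c} = ⊤ := by
  rw [eq_top_iff]
  intro c hc
  clear hc
  obtain ⟨w, hw, rfl⟩ := cls_surj c
  -- `w ∈ γ (i+1) = ⁅γ i, ⊤⁆`
  have hw' : w ∈ ⁅(⊤ : Subgroup G).lowerCentralSeries i, (⊤ : Subgroup G)⁆ := hw
  rw [Subgroup.commutator_def] at hw'
  revert hw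
  refine Subgroup.closure_induction (p := fun w _ => ∀ hw : w ∈ lcsG G (i + 0 + 1),
    cls (i + 0 + 1) w hw ∈ Subgroup.closure
      {c : Q G (i + 0 + 1) | ∃ (a : Q G i) (b : Q G 0), br i 0 a b = c}) ?_ ?_ ?_ ?_ hw'
  · rintro _ ⟨x, hx, g, _, rfl⟩ hw
    apply Subgroup.subset_closure
    exact ⟨cls i x hx, cls 0 g (by simp), rfl⟩
  · intro hw
    rw [show cls (i + 0 + 1) (1 : G) hw = 1 from cls_one _]
    exact one_mem _
  · intro u v hu hv ihu ihv hw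
    have hu' : u ∈ lcsG G (i + 0 + 1) := by
      change u ∈ ⁅(⊤ : Subgroup G).lowerCentralSeries i, (⊤ : Subgroup G)⁆
      rw [Subgroup.commutator_def]; exact hu
    have hv' : v ∈ lcsG G (i + 0 + 1) := by
      change v ∈ ⁅(⊤ : Subgroup G).lowerCentralSeries i, (⊤ : Subgroup G)⁆
      rw [Subgroup.commutator_def]; exact hv
    rw [show cls (i + 0 + 1) (u * v) hw = cls _ u hu' * cls _ v hv' from rfl]
    exact mul_mem (ihu hu') (ihv hv')
  · intro u hu ihu hw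
    have hu' : u ∈ lcsG G (i + 0 + 1) := by
      change u ∈ ⁅(⊤ : Subgroup G).lowerCentralSeries i, (⊤ : Subgroup G)⁆
      rw [Subgroup.commutator_def]; exact hu
    rw [show cls (i + 0 + 1) u⁻¹ hw = (cls _ u hu')⁻¹ from rfl]
    exact inv_mem (ihu hu')

/-- if the factor `γ c / γ (c+1)` is trivial then `γ c = γ (c+1)` -/
theorem lcs_eq_succ_of_forall_eq_one (c : ℕ) (h : ∀ a : Q G c, a = 1) :
    lcsG G c = lcsG G (c + 1) := by
  apply le_antisymm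
  · intro x hx
    exact (cls_eq_one_iff hx).mp (h _)
  · exact Subgroup.lowerCentralSeries_antitone _ (Nat.le_succ c)

/-- hence, in a nilpotent group, `γ c = ⊥` -/
theorem lcs_eq_bot_of_forall_eq_one (hnil : Group.IsNilpotent G) (c : ℕ) (h : ∀ a : Q G c, a = 1) :
    (⊤ : Subgroup G).lowerCentralSeries c = ⊥ :=
  Cfsg.Agent.Lib.Helper22.KK.lcs_eq_bot_of_eq_succ hnil c (lcs_eq_succ_of_forall_eq_one c h)

end Cfsg.Agent.Lib.Helper26.KK
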