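import Mathlib
import Cfsg.Prelude.Def_Classical
import Cfsg.Agent.Lib.Helper07.H90B

/-!
# Lang-type theorem for orthogonal similarity groups (odd dimension), part (a)

Gram matrices: `qOf A v = v ⬝ᵥ A *ᵥ v`; uniqueness of the symmetric Gram matrix in characteristic
`≠ 2`; the Gram matrix `gramOdd` of `Cfsg.quadFormOdd`; twisted products and Hilbert 90 for
matrices over an arbitrary finite index type.
-/

set_option autoImplicit false
set_option linter.unusedSectionVars false
set_option linter.unusedVariables false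

namespace Cfsg.Agent.Lib.Helper26.LangGO

open Matrix

section gram

variable {ι : Type*} [Fintype ι] [DecidableEq ι] {F : Type*} [Field F]

/-- the quadratic function of a (Gram) matrix. -/
def qOf (A : Matrix ι ι F) (v : ι → F) : F := v ⬝ᵥ (A *ᵥ v)

lemma qOf_mulVec (A Y : Matrix ι ι F) (v : ι → F) :
    qOf A (Y *ᵥ v) = qOf (Yᵀ * A * Y) v := by
  unfold qOf
  rw [← Matrix.mulVec_mulVec, ← Matrix.mulVec_mulVec, Matrix.dotProduct_mulVec (v := v),
    Matrix.vecMul_transpose]

lemma qOf_smul (c : F) (A : Matrix ι ι F) (v : ι → F) : qOf (c • A) v = c * qOf A v := by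
  unfold qOf
  rw [Matrix.smul_mulVec, dotProduct_smul, smul_eq_mul]

lemma qOf_single (A : Matrix ι ι F) (i : ι) : qOf A (Pi.single i 1) = A i i := by
  unfold qOf
  rw [single_dotProduct, one_mul, Matrix.mulVec_single_one]
  rfl

lemma qOf_single_add (A : Matrix ι ι F) (i j : ι) :
    qOf A (Pi.single i 1 + Pi.single j 1) = A i i + A i j + A j i + A j j := by
  unfold qOf
  rw [Matrix.mulVec_add, add_dotProduct, dotProduct_add, dotProduct_add, single_dotProduct,
    single_dotProduct, single_dotProduct, single_dotProduct, Matrix.mulVec_single_one,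
    Matrix.mulVec_single_one]
  simp only [one_mul, Matrix.col_apply]
  ring

/-- in characteristic `≠ 2` a symmetric matrix is determined by its quadratic function. -/
lemma eq_zero_of_qOf (h2 : (2 : F) ≠ 0) (S : Matrix ι ι F) (hS : S.IsSymm)
    (h : ∀ v, qOf S v = 0) : S = 0 := by
  have hd : ∀ i, S i i = 0 := fun i => by
    have := h (Pi.single i 1)
    rwa [qOf_single] at this
  ext i j
  have h1 := h (Pi.single i 1 + Pi.single j 1)
  rw [qOf_single_add, hd i, hd j] at h1
  have h3 : S j i = S i j := by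
    have := congrFun (congrFun hS i) j
    rwa [Matrix.transpose_apply] at this
  rw [h3] at h1
  have h4 : (2 : F) * S i j = 0 := by linear_combination h1
  rcases mul_eq_zero.mp h4 with h5 | h5
  · exact absurd h5 h2
  · simpa using h5

lemma qOf_sub (S T : Matrix ι ι F) (v : ι → F) : qOf (S - T) v = qOf S v - qOf T v := by
  unfold qOf
  rw [Matrix.sub_mulVec, dotProduct_sub]

lemma eq_of_qOf (h2 : (2 : F) ≠ 0) (S T : Matrix ι ι F) (hS : S.IsSymm) (hT : T.IsSymm)
    (h : ∀ v, qOf S v = qOf T v) : S = T := by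
  have := eq_zero_of_qOf h2 (S - T) (hS.sub hT) (fun v => by rw [qOf_sub, h v, sub_self])
  exact sub_eq_zero.mp this

end gram

section odd

variable {F : Type*} [Field F] (m : ℕ)

/-- the Gram matrix of `Cfsg.quadFormOdd m F` (characteristic `≠ 2`). -/
def gramOdd (F : Type*) [Field F] :
    Matrix (Unit ⊕ (Fin m ⊕ Fin m)) (Unit ⊕ (Fin m ⊕ Fin m)) F :=
  Matrix.fromBlocks 1 0 0 ((2 : F)⁻¹ • Matrix.fromBlocks 0 1 1 0)

/-- its inverse. -/
def gramOddInv (F : Type*) [Field F] :
    Matrix (Unit ⊕ (Fin m ⊕ Fin m)) (Unit ⊕ (Fin m ⊕ Fin m)) F :=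
  Matrix.fromBlocks 1 0 0 ((2 : F) • Matrix.fromBlocks 0 1 1 0)

lemma gramOdd_mul_inv (h2 : (2 : F) ≠ 0) : gramOdd m F * gramOddInv m F = 1 := by
  unfold gramOdd gramOddInv
  rw [Matrix.fromBlocks_multiply]
  simp only [Matrix.mul_zero, Matrix.zero_mul, add_zero, zero_add,
    Matrix.smul_mul, Matrix.mul_smul, Matrix.fromBlocks_multiply, Matrix.mul_one, smul_smul,
    mul_inv_cancel₀ h2, inv_mul_cancel₀ h2, one_smul, smul_zero, Matrix.fromBlocks_one]

lemma isUnit_gramOdd (h2 : (2 : F) ≠ 0) : IsUnit (gramOdd m F) :=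
  IsUnit.of_mul_eq_one _ (gramOdd_mul_inv m h2)

lemma gramOdd_isSymm : (gramOdd m F).IsSymm := by
  unfold gramOdd Matrix.IsSymm
  rw [Matrix.fromBlocks_transpose]
  simp only [Matrix.transpose_one, Matrix.transpose_zero, Matrix.transpose_smul,
    Matrix.fromBlocks_transpose]

lemma gramOdd_map {K : Type*} [Field K] (f : F →+* K) :
    (gramOdd m F).map f = gramOdd m K := by
  unfold gramOdd
  ext (i | i | i) (j | j | j) <;>
    simp [Matrix.fromBlocks, Matrix.one_apply, apply_ite f, map_inv₀, map_ofNat]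

lemma quadFormOdd_eq_qOf (h2 : (2 : F) ≠ 0) (v : Unit ⊕ (Fin m ⊕ Fin m) → F) :
    Cfsg.quadFormOdd m F v = qOf (gramOdd m F) v := by
  unfold qOf gramOdd Cfsg.quadFormOdd
  have hv : v = Sum.elim (v ∘ Sum.inl) (Sum.elim (v ∘ Sum.inr ∘ Sum.inl) (v ∘ Sum.inr ∘ Sum.inr)) := by
    ext (i | i | i) <;> rfl
  conv_rhs => rw [hv]
  rw [Matrix.fromBlocks_mulVec]
  simp only [Sum.elim_comp_inl, Sum.elim_comp_inr, Matrix.one_mulVec, Matrix.zero_mulVec,
    add_zero, zero_add, Matrix.smul_mulVec, Matrix.fromBlocks_mulVec]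
  rw [sumElim_dotProduct_sumElim, dotProduct_smul, sumElim_dotProduct_sumElim]
  simp only [dotProduct, Function.comp, Finset.univ_unique, Finset.sum_singleton, smul_eq_mul,
    PUnit.default_eq_unit]
  have hsw : ∑ x : Fin m, v (Sum.inr (Sum.inr x)) * v (Sum.inr (Sum.inl x)) =
      ∑ x : Fin m, v (Sum.inr (Sum.inl x)) * v (Sum.inr (Sum.inr x)) :=
    Finset.sum_congr rfl (fun x _ => mul_comm _ _)
  rw [hsw]
  field_simp
  ring

end odd

section h90

variable {ι : Type*} [Fintype ι] [DecidableEq ι] {F : Type*} [Field F]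

/-- partial twisted products `g σ(g) ⋯ σ^{k-1}(g)` for matrices on a general index type. -/
def twP (σ : RingAut F) (g : Matrix ι ι F) : ℕ → Matrix ι ι F
  | 0 => 1
  | (k + 1) => g * (twP σ g k).map σ

lemma twP_zero (σ : RingAut F) (g : Matrix ι ι F) : twP σ g 0 = 1 := rfl

lemma twP_succ (σ : RingAut F) (g : Matrix ι ι F) (k : ℕ) :
    twP σ g (k + 1) = g * (twP σ g k).map σ := rfl

lemma map_mul_ra (σ : RingAut F) (A B : Matrix ι ι F) : (A * B).map σ = A.map σ * B.map σ :=
  Matrix.map_mul (f := (σ : F →+* F))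

lemma map_one_ra (σ : RingAut F) : (1 : Matrix ι ι F).map σ = 1 := by
  ext i j
  simp [Matrix.map_apply, Matrix.one_apply, apply_ite]

lemma twP_reindex {n : ℕ} (e : ι ≃ Fin n) (σ : RingAut F) (g : Matrix ι ι F) (k : ℕ) :
    Cfsg.Agent.Lib.Helper07.twProd σ (g.submatrix e.symm e.symm) k
      = (twP σ g k).submatrix e.symm e.symm := by
  induction k with
  | zero =>
    rw [Cfsg.Agent.Lib.Helper07.twProd_zero, twP_zero, Matrix.submatrix_one_equiv]
  | succ k ih =>
    rw [Cfsg.Agent.Lib.Helper07.twProd_succ, twP_succ, ih, ← Matrix.submatrix_map,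
      Matrix.submatrix_mul_equiv]

/-- Hilbert 90 for `GL` over a general finite index type. -/
theorem h90_general (σ : RingAut F) {r : ℕ} (hr : orderOf σ = r) (hr0 : 0 < r)
    (g : Matrix ι ι F) (hg : twP σ g r = 1) :
    ∃ Y : Matrix ι ι F, IsUnit Y ∧ g * Y.map σ = Y := by
  let e : ι ≃ Fin (Fintype.card ι) := Fintype.equivFin ι
  have hg' : Cfsg.Agent.Lib.Helper07.twProd σ (g.submatrix e.symm e.symm) r = 1 := by
    rw [twP_reindex, hg, Matrix.submatrix_one_equiv]
  obtain ⟨Y', hY'u, hY'⟩ := Cfsg.Agent.Lib.Helper07.h90_matrix σ hr hr0 _ hg'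
  refine ⟨Y'.submatrix e e, ?_, ?_⟩
  · rw [Matrix.isUnit_iff_isUnit_det] at hY'u ⊢
    rwa [Matrix.det_submatrix_equiv_self]
  · have h1 : g = (g.submatrix e.symm e.symm).submatrix e e := by
      rw [Matrix.submatrix_submatrix]
      simp
    conv_lhs => rw [h1]
    rw [← Matrix.submatrix_map, Matrix.submatrix_mul_equiv, hY']

end h90

end Cfsg.Agent.Lib.Helper26.LangGO
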