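import Mathlib
import Cfsg.Prelude.Def_Classical
import Cfsg.Agent.Lib.Helper26.LangGOa
import Cfsg.Agent.Lib.Helper50.WittMain

/-!
# Lang-type theorem for orthogonal similarity groups (odd dimension), part (b)

Classification of invertible symmetric matrices of odd size over a finite field of odd
characteristic up to congruence and scalars, and the Lang-type theorem for similarities of
`Cfsg.quadFormOdd` with respect to a field automorphism.
-/

set_option autoImplicit false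
set_option linter.unusedSectionVars false
set_option linter.unusedVariables false

namespace Cfsg.Agent.Lib.Helper26.LangGO

open Matrix

section classify

variable {K : Type*} [Field K] (m : ℕ)

/-- diagonal rescaling turning `oddForm m c` into `c • quadFormOdd`. -/
def dOdd (c : K) : Unit ⊕ (Fin m ⊕ Fin m) → K :=
  Sum.elim (fun _ => 1) (Sum.elim (fun _ => 1) (fun _ => c⁻¹))

lemma oddForm_eq (h2 : (2 : K) ≠ 0) (c : K) (hc : c ≠ 0) (w : Unit ⊕ (Fin m ⊕ Fin m) → K) :
    Cfsg.Agent.Lib.Helper50.oddForm m c w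
      = c * qOf (gramOdd m K) (Matrix.diagonal (dOdd m c) *ᵥ w) := by
  rw [← quadFormOdd_eq_qOf m h2]
  unfold Cfsg.Agent.Lib.Helper50.oddForm Cfsg.quadFormOdd
  simp only [Matrix.mulVec_diagonal, dOdd, Sum.elim_inl, Sum.elim_inr, one_mul]
  rw [mul_add, Finset.mul_sum]
  congr 1
  refine Finset.sum_congr rfl fun i _ => ?_
  field_simp

lemma isUnit_diagonal_dOdd (c : K) (hc : c ≠ 0) : IsUnit (Matrix.diagonal (dOdd m c)) := by
  rw [Matrix.isUnit_iff_isUnit_det, Matrix.det_diagonal, isUnit_iff_ne_zero,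
    Finset.prod_ne_zero_iff]
  rintro (i | i | i) _ <;> simp [dOdd, hc]

lemma dot_symm {ι : Type*} [Fintype ι] (H : Matrix ι ι K) (hH : H.IsSymm) (v w : ι → K) :
    w ⬝ᵥ (H *ᵥ v) = v ⬝ᵥ (H *ᵥ w) := by
  rw [Matrix.dotProduct_mulVec, ← Matrix.mulVec_transpose, hH.eq, dotProduct_comm]

lemma isSymm_congr {ι : Type*} [Fintype ι] (A P : Matrix ι ι K) (hA : A.IsSymm) :
    (Pᵀ * A * P).IsSymm := by
  unfold Matrix.IsSymm
  rw [Matrix.transpose_mul, Matrix.transpose_mul, Matrix.transpose_transpose, hA.eq,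
    Matrix.mul_assoc]

variable [Finite K]

/-- invertible symmetric matrices of odd size over a finite field of odd characteristic are
congruent to a scalar multiple of the standard Gram matrix. -/
theorem sym_classify_odd (h2 : (2 : K) ≠ 0)
    (H : Matrix (Unit ⊕ (Fin m ⊕ Fin m)) (Unit ⊕ (Fin m ⊕ Fin m)) K) (hH : H.IsSymm)
    (hu : IsUnit H) :
    ∃ (P : Matrix (Unit ⊕ (Fin m ⊕ Fin m)) (Unit ⊕ (Fin m ⊕ Fin m)) K) (c : K),
      IsUnit P ∧ c ≠ 0 ∧ H = c • (Pᵀ * gramOdd m K * P) := by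
  classical
  let QH : QuadraticForm K (Unit ⊕ (Fin m ⊕ Fin m) → K) := Matrix.toQuadraticForm' H
  have hQH : ∀ v, QH v = qOf H v := fun v => by
    show LinearMap.BilinMap.toQuadraticMap (Matrix.toLinearMap₂' K H) v = _
    rw [LinearMap.BilinMap.toQuadraticMap_apply, Matrix.toLinearMap₂'_apply']
    rfl
  have hpolar : ∀ v w, QuadraticMap.polar QH v w = 2 * (v ⬝ᵥ (H *ᵥ w)) := by
    intro v w
    unfold QuadraticMap.polar
    rw [hQH, hQH, hQH]
    unfold qOf
    rw [Matrix.mulVec_add, add_dotProduct, dotProduct_add, dotProduct_add, dot_symm H hH w v]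
    ring
  have hQND : Cfsg.Agent.Lib.Helper50.QND QH := by
    intro v hv
    have h0 : ∀ w, v ⬝ᵥ (H *ᵥ w) = 0 := by
      intro w
      have := hv w
      rw [hpolar] at this
      rcases mul_eq_zero.mp this with h | h
      · exact absurd h h2
      · exact h
    have h1 : v ᵥ* H = 0 := by
      ext j
      have := h0 (Pi.single j 1)
      rw [Matrix.dotProduct_mulVec, dotProduct_single, mul_one] at this
      exact this
    obtain ⟨u, rfl⟩ := hu
    have : v ᵥ* u.val ᵥ* (u⁻¹).val = 0 := by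
      rw [h1, Matrix.zero_vecMul]
    rwa [Matrix.vecMul_vecMul, Units.mul_inv, Matrix.vecMul_one] at this
  have hfr : Module.finrank K (Unit ⊕ (Fin m ⊕ Fin m) → K) = 2 * m + 1 := by
    rw [Module.finrank_fintype_fun_eq_card]
    simp
    omega
  rcases Cfsg.Agent.Lib.Helper50.witt_type (2 * m + 1) QH hfr hQND with
    ⟨m', hm', -⟩ | ⟨m', ζ, hm', -, -⟩ | ⟨m', c, hm', hc, φ, hφ⟩
  · omega
  · omega
  · obtain rfl : m = m' := by omega
    set P₁ : Matrix (Unit ⊕ (Fin m ⊕ Fin m)) (Unit ⊕ (Fin m ⊕ Fin m)) K :=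
      LinearMap.toMatrix' (φ : (Unit ⊕ (Fin m ⊕ Fin m) → K) →ₗ[K] _) with hP₁
    have hP₁v : ∀ v, P₁ *ᵥ v = φ v := fun v => by
      rw [hP₁, LinearMap.toMatrix'_mulVec]
      rfl
    have hP₁u : IsUnit P₁ := by
      rw [Matrix.isUnit_iff_isUnit_det, hP₁, LinearMap.det_toMatrix']
      exact LinearEquiv.isUnit_det' φ
    refine ⟨Matrix.diagonal (dOdd m c) * P₁, c, (isUnit_diagonal_dOdd m c hc).mul hP₁u, hc, ?_⟩
    apply eq_of_qOf h2 _ _ hH
    · exact (isSymm_congr _ _ (gramOdd_isSymm m)).smul c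
    · intro v
      rw [qOf_smul, ← qOf_mulVec, ← Matrix.mulVec_mulVec, hP₁v, ← oddForm_eq m h2 c hc, hφ, hQH]

end classify

section lang

variable {F : Type*} [Field F] (m : ℕ)

/-- the fixed field of a field automorphism. -/
def fixF (σ : RingAut F) : Subfield F where
  carrier := {a | σ a = a}
  mul_mem' := by
    intro a b ha hb
    simp only [Set.mem_ofPred_eq] at *
    rw [map_mul, ha, hb]
  one_mem' := map_one σ
  add_mem' := by
    intro a b ha hb
    simp only [Set.mem_ofPred_eq] at *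
    rw [map_add, ha, hb]
  zero_mem' := map_zero σ
  neg_mem' := by
    intro a ha
    simp only [Set.mem_ofPred_eq] at *
    rw [map_neg, ha]
  inv_mem' := by
    intro a ha
    simp only [Set.mem_ofPred_eq] at *
    rw [map_inv₀, ha]

lemma mem_fixF (σ : RingAut F) (a : F) : a ∈ fixF σ ↔ σ a = a := Iff.rfl

lemma map_smul_ra {ι : Type*} (σ : RingAut F) (c : F) (A : Matrix ι ι F) :
    (c • A).map σ = σ c • A.map σ := by
  ext i j
  simp [Matrix.map_apply]

lemma map_transpose_ra {ι : Type*} (σ : RingAut F) (A : Matrix ι ι F) :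
    (Aᵀ).map σ = (A.map σ)ᵀ := rfl

lemma gramOdd_map_ra (σ : RingAut F) : (gramOdd m F).map σ = gramOdd m F :=
  gramOdd_map m (σ : F →+* F)

/-- the multiplier of a twisted product. -/
lemma twP_gram (σ : RingAut F) (M : Matrix (Unit ⊕ (Fin m ⊕ Fin m)) (Unit ⊕ (Fin m ⊕ Fin m)) F)
    (μ : F) (hM : Mᵀ * gramOdd m F * M = μ • gramOdd m F) (k : ℕ) :
    (twP σ M k)ᵀ * gramOdd m F * twP σ M k
      = Cfsg.Agent.Lib.Helper07.nrmF σ k μ • gramOdd m F := by
  induction k with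
  | zero =>
    rw [twP_zero, Matrix.transpose_one, Matrix.one_mul, Matrix.mul_one]
    unfold Cfsg.Agent.Lib.Helper07.nrmF
    simp
  | succ k ih =>
    rw [twP_succ, Matrix.transpose_mul]
    have e1 : ((twP σ M k).map σ)ᵀ * Mᵀ * gramOdd m F * (M * (twP σ M k).map σ)
        = ((twP σ M k).map σ)ᵀ * (Mᵀ * gramOdd m F * M) * (twP σ M k).map σ := by
      simp only [Matrix.mul_assoc]
    rw [e1, hM, Matrix.mul_smul, Matrix.smul_mul]
    have e2 : ((twP σ M k).map σ)ᵀ * gramOdd m F * (twP σ M k).map σ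
        = ((twP σ M k)ᵀ * gramOdd m F * twP σ M k).map σ := by
      rw [map_mul_ra, map_mul_ra, gramOdd_map_ra, map_transpose_ra]
    rw [e2, ih, map_smul_ra, gramOdd_map_ra, smul_smul, Cfsg.Agent.Lib.Helper07.nrmF_succ]

variable [Finite F]

/-- **Lang-type theorem** for similarities of the odd-dimensional form: a similarity `M` whose
`σ`-twisted `r`-fold product is trivial (`r` the order of `σ`) is of the form `Y σ(Y)⁻¹` for a
similarity `Y`. -/
theorem lang_GO_odd (h2 : (2 : F) ≠ 0) (σ : RingAut F) {r : ℕ} (hr : orderOf σ = r) (hr0 : 0 < r)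
    (M : Matrix (Unit ⊕ (Fin m ⊕ Fin m)) (Unit ⊕ (Fin m ⊕ Fin m)) F) (μ : F)
    (hM : Mᵀ * gramOdd m F * M = μ • gramOdd m F) (htw : twP σ M r = 1) :
    ∃ (Y : Matrix (Unit ⊕ (Fin m ⊕ Fin m)) (Unit ⊕ (Fin m ⊕ Fin m)) F) (c : F),
      IsUnit Y ∧ c ≠ 0 ∧ Yᵀ * gramOdd m F * Y = c • gramOdd m F ∧ M * Y.map σ = Y := by
  classical
  set A := gramOdd m F with hA
  have hAu : IsUnit A := isUnit_gramOdd m h2
  have hAs : A.IsSymm := gramOdd_isSymm m
  -- the norm of the multiplier is one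
  have hN : Cfsg.Agent.Lib.Helper07.nrmF σ r μ = 1 := by
    have h := twP_gram m σ M μ hM r
    rw [htw, Matrix.transpose_one, Matrix.one_mul, Matrix.mul_one] at h
    have h1 := congrFun (congrFun h (Sum.inl ())) (Sum.inl ())
    rw [Matrix.smul_apply, smul_eq_mul] at h1
    have h3 : gramOdd m F (Sum.inl ()) (Sum.inl ()) = 1 := by
      simp [gramOdd, Matrix.fromBlocks]
    rw [h3, mul_one] at h1
    exact h1.symm
  obtain ⟨b, hb0, hb⟩ := Cfsg.Agent.Lib.Helper07.h90_scalar σ hr hr0 μ hN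
  obtain ⟨Y₀, hY₀u, hY₀⟩ := h90_general σ hr hr0 M htw
  -- the twisted Gram matrix
  set X := (Y₀.map σ)ᵀ * A * (Y₀.map σ) with hX
  have hYAY : Y₀ᵀ * A * Y₀ = μ • X := by
    conv_lhs => rw [← hY₀]
    rw [Matrix.transpose_mul]
    have e1 : (Y₀.map σ)ᵀ * Mᵀ * A * (M * Y₀.map σ)
        = (Y₀.map σ)ᵀ * (Mᵀ * A * M) * Y₀.map σ := by
      simp only [Matrix.mul_assoc]
    rw [e1, hM, Matrix.mul_smul, Matrix.smul_mul]
  set H := b⁻¹ • (Y₀ᵀ * A * Y₀) with hH
  have hHfix : H.map σ = H := by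
    rw [hH, map_smul_ra, map_mul_ra, map_mul_ra, map_transpose_ra, gramOdd_map_ra, ← hX, hYAY,
      smul_smul, map_inv₀]
    congr 1
    symm
    apply eq_inv_of_mul_eq_one_left
    rw [mul_assoc, hb, inv_mul_cancel₀ hb0]
  have hHs : H.IsSymm := (isSymm_congr _ _ hAs).smul _
  have hHu : IsUnit H := by
    rw [hH]
    have h1 : IsUnit (Y₀ᵀ * A * Y₀) := by
      have hY₀t : IsUnit Y₀ᵀ := by
        rw [Matrix.isUnit_iff_isUnit_det, Matrix.det_transpose]
        exact (Matrix.isUnit_iff_isUnit_det _).mp hY₀u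
      exact (hY₀t.mul hAu).mul hY₀u
    rw [Matrix.isUnit_iff_isUnit_det] at h1 ⊢
    rw [Matrix.det_smul]
    exact (isUnit_iff_ne_zero.mpr (pow_ne_zero _ (inv_ne_zero hb0))).mul h1
  -- descend to the fixed field
  let K := fixF σ
  let up : K →+* F := (fixF σ).subtype
  let H₀ : Matrix (Unit ⊕ (Fin m ⊕ Fin m)) (Unit ⊕ (Fin m ⊕ Fin m)) K := fun i j =>
    ⟨H i j, by
      have := congrFun (congrFun hHfix i) j
      rwa [Matrix.map_apply] at this⟩
  have hH₀ : H₀.map up = H := rfl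
  have hH₀s : H₀.IsSymm := by
    ext i j
    have := congrFun (congrFun hHs i) j
    exact this
  have hH₀u : IsUnit H₀ := by
    rw [Matrix.isUnit_iff_isUnit_det, isUnit_iff_ne_zero]
    rw [Matrix.isUnit_iff_isUnit_det, isUnit_iff_ne_zero, ← hH₀] at hHu
    intro h0
    apply hHu
    have := RingHom.map_det up H₀
    rw [RingHom.mapMatrix_apply] at this
    rw [← this, h0, map_zero]
  have h2K : (2 : K) ≠ 0 := by
    intro h
    apply h2
    have := congrArg up h
    rw [map_ofNat, map_zero] at this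
    exact this
  obtain ⟨P₀, c₀, hP₀u, hc₀, hP₀⟩ := sym_classify_odd (K := K) m h2K H₀ hH₀s hH₀u
  obtain ⟨u, hu⟩ := hP₀u
  set Q₀ : Matrix (Unit ⊕ (Fin m ⊕ Fin m)) (Unit ⊕ (Fin m ⊕ Fin m)) K :=
    (u⁻¹).val with hQ₀
  have hPQ₀ : P₀ * Q₀ = 1 := by rw [← hu, hQ₀, Units.mul_inv]
  have hQP₀ : Q₀ * P₀ = 1 := by rw [← hu, hQ₀, Units.inv_mul]
  set P := P₀.map up with hP
  set Q := Q₀.map up with hQ
  have hPQ : P * Q = 1 := by
    rw [hP, hQ, ← Matrix.map_mul, hPQ₀]
    exact Matrix.map_one up (map_zero up) (map_one up)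
  have hQP : Q * P = 1 := by
    rw [hP, hQ, ← Matrix.map_mul, hQP₀]
    exact Matrix.map_one up (map_zero up) (map_one up)
  have hQfix : Q.map σ = Q := by
    ext i j
    exact (Q₀ i j).2
  have hHP : H = (c₀ : F) • (Pᵀ * A * P) := by
    rw [← hH₀, hP₀]
    ext i j
    simp only [Matrix.map_apply, Matrix.smul_apply, smul_eq_mul]
    have e : (Pᵀ * A * P) = ((P₀ᵀ * gramOdd m K * P₀).map up) := by
      rw [Matrix.map_mul, Matrix.map_mul, gramOdd_map m up]
      rfl
    rw [e, Matrix.map_apply]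
    rfl
  have hc : (c₀ : F) ≠ 0 := fun h => hc₀ (Subtype.ext h)
  refine ⟨Y₀ * Q, b * c₀, hY₀u.mul (IsUnit.of_mul_eq_one _ hQP), mul_ne_zero hb0 hc, ?_, ?_⟩
  · have e1 : Y₀ᵀ * A * Y₀ = b • H := by
      rw [hH, smul_smul, mul_inv_cancel₀ hb0, one_smul]
    have e2 : (Y₀ * Q)ᵀ * A * (Y₀ * Q) = Qᵀ * (Y₀ᵀ * A * Y₀) * Q := by
      rw [Matrix.transpose_mul]
      simp only [Matrix.mul_assoc]
    rw [e2, e1, hHP, smul_smul, Matrix.mul_smul, Matrix.smul_mul]
    congr 1
    have e3 : Qᵀ * (Pᵀ * A * P) * Q = (P * Q)ᵀ * A * (P * Q) := by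
      rw [Matrix.transpose_mul]
      simp only [Matrix.mul_assoc]
    rw [e3, hPQ, Matrix.transpose_one, Matrix.one_mul, Matrix.mul_one]
  · rw [map_mul_ra, hQfix, ← Matrix.mul_assoc, hY₀]

end lang

end Cfsg.Agent.Lib.Helper26.LangGO
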