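import Cfsg.Agent.Lib.Helper26.LangGOb
import Cfsg.Agent.Lib.Helper50.FieldAutPO2

set_option autoImplicit false

/-!
# Cosets of a field automorphism in `Inndiag(PΩ) ⋊ ⟨φ⟩`: generic part

For a form `Q` compatible with the field automorphisms: the powers of `autPO g * fieldAutPO σ`
are `autPO (twisted product) * fieldAutPO (σ^k)`; and, granted a Lang-type statement for the
similarity group, an element of the coset `PGO · φ_σ` whose `r`-th power is trivial
(`r = orderOf σ`) is conjugate to `φ_σ` under the image of the similarity group.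
-/

namespace Cfsg.Agent.Lib.Helper26.LangGO

open Matrix Cfsg.Agent.Lib.Helper08 Cfsg.Agent.Lib.Helper50 Cfsg.Agent.Lib.Helper07

universe u

section mat

variable {ι : Type*} [Fintype ι] [DecidableEq ι] {F : Type*} [Field F]

lemma twP_smul (σ : RingAut F) (c : F) (g : Matrix ι ι F) (k : ℕ) :
    twP σ (c • g) k = nrmF σ k c • twP σ g k := by
  induction k with
  | zero => simp [nrmF, twP_zero]
  | succ k ih =>
    rw [twP_succ, ih, nrmF_succ, twP_succ, map_smul_ra, Matrix.smul_mul, Matrix.mul_smul,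
      smul_smul]

omit [Fintype ι] [DecidableEq ι] in
lemma map_map_ra (σ τ : RingAut F) (A : Matrix ι ι F) : (A.map τ).map σ = A.map (σ * τ) := by
  ext i j
  rfl

omit [Fintype ι] [DecidableEq ι] in
lemma map_one_ra' (A : Matrix ι ι F) : A.map (1 : RingAut F) = A := by
  ext i j
  rfl

/-- the other recursion for the twisted products. -/
lemma twP_succ_right (σ : RingAut F) (g : Matrix ι ι F) (k : ℕ) :
    twP σ g (k + 1) = twP σ g k * g.map (σ ^ k) := by
  induction k with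
  | zero =>
    rw [twP_succ, twP_zero, map_one_ra, Matrix.mul_one, Matrix.one_mul, pow_zero, map_one_ra']
  | succ k ih =>
    rw [twP_succ, ih, map_mul_ra, ← Matrix.mul_assoc, ← twP_succ, ← ih, map_map_ra, ← pow_succ',
      ih]

/-- a scalar twisted norm is fixed by `σ`. -/
lemma twP_scalar_fixed [Nonempty ι] (σ : RingAut F) {r : ℕ} (hσ : σ ^ r = 1) (g : Matrix ι ι F)
    (hg : IsUnit g) (l : F) (h : twP σ g r = l • 1) : σ l = l := by
  have h1 : g * (twP σ g r).map σ = twP σ g r * g := by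
    rw [← twP_succ, twP_succ_right, hσ, map_one_ra']
  rw [h, map_smul_ra, map_one_ra, Matrix.mul_smul, Matrix.mul_one, Matrix.smul_mul,
    Matrix.one_mul] at h1
  have hg0 : g ≠ 0 := by
    intro h0
    rw [h0] at hg
    exact not_isUnit_zero hg
  obtain ⟨i, j, hij⟩ : ∃ i j, g i j ≠ 0 := by
    by_contra hcon
    push Not at hcon
    exact hg0 (by ext i j; exact hcon i j)
  have h2 := congrFun (congrFun h1 i) j
  rw [Matrix.smul_apply, Matrix.smul_apply, smul_eq_mul, smul_eq_mul] at h2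
  exact mul_right_cancel₀ hij h2

end mat

section generic

variable {F : Type u} [Field F] {ι : Type} [Fintype ι] [DecidableEq ι] (Q : (ι → F) → F)

/-- twisted products in the similarity group. -/
def twG (σ : ↥(compatAut Q)) (g : ↥(Cfsg.Geo.quadSimilarityGroup (F := F) Q)) :
    ℕ → ↥(Cfsg.Geo.quadSimilarityGroup (F := F) Q)
  | 0 => 1
  | (k + 1) => g * sigmaGO Q σ (twG σ g k)

lemma twG_val (σ : ↥(compatAut Q)) (g : ↥(Cfsg.Geo.quadSimilarityGroup (F := F) Q)) (k : ℕ) :
    (((twG Q σ g k : ↥(Cfsg.Geo.quadSimilarityGroup (F := F) Q)) : GL ι F) : Matrix ι ι F)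
      = twP σ.1 ((g : GL ι F) : Matrix ι ι F) k := by
  induction k with
  | zero => rfl
  | succ k ih =>
    rw [twP_succ, ← ih]
    rfl

/-- powers of an element of the coset of a field automorphism. -/
lemma pow_coset (σ : ↥(compatAut Q)) (g : ↥(Cfsg.Geo.quadSimilarityGroup (F := F) Q)) (k : ℕ) :
    (autPO Q g * fieldAutPO Q σ) ^ k = autPO Q (twG Q σ g k) * fieldAutPO Q (σ ^ k) := by
  induction k with
  | zero =>
    rw [pow_zero, pow_zero, map_one]
    change 1 = autPO Q 1 * 1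
    rw [map_one, mul_one]
  | succ k ih =>
    rw [pow_succ', ih, pow_succ' σ, map_mul]
    change _ = autPO Q (g * sigmaGO Q σ (twG Q σ g k)) * _
    rw [map_mul]
    calc autPO Q g * fieldAutPO Q σ * (autPO Q (twG Q σ g k) * fieldAutPO Q (σ ^ k))
        = autPO Q g * (fieldAutPO Q σ * autPO Q (twG Q σ g k)) * fieldAutPO Q (σ ^ k) := by
          simp only [mul_assoc]
      _ = autPO Q g * (autPO Q (sigmaGO Q σ (twG Q σ g k)) * fieldAutPO Q σ)
            * fieldAutPO Q (σ ^ k) := by rw [fieldAutPO_mul_autPO]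
      _ = _ := by simp only [mul_assoc]

lemma conj_fieldAutPO (σ : ↥(compatAut Q)) (Y : ↥(Cfsg.Geo.quadSimilarityGroup (F := F) Q)) :
    autPO Q Y * fieldAutPO Q σ * (autPO Q Y)⁻¹
      = autPO Q (Y * (sigmaGO Q σ Y)⁻¹) * fieldAutPO Q σ := by
  rw [map_mul, map_inv, ← fieldAutPO_conj Q σ Y]
  group

end generic

section main

variable {F : Type u} [Field F] [Fintype F] {ι : Type} [Fintype ι] [DecidableEq ι]

omit [Fintype F] in
/-- scalar matrices are similarities of a quadratic form. -/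
lemma exists_scalar_sim (Q : QuadraticForm F (ι → F)) (c : F) (hc : c ≠ 0) :
    ∃ z : ↥(Cfsg.Geo.quadSimilarityGroup (F := F) ⇑Q),
      ((z : GL ι F) : Matrix ι ι F) = c • 1 := by
  have hu : IsUnit (c • (1 : Matrix ι ι F)) := by
    rw [Matrix.isUnit_iff_isUnit_det, Matrix.det_smul, Matrix.det_one, mul_one]
    exact (pow_ne_zero _ hc).isUnit
  refine ⟨⟨hu.unit, Units.mk0 (c * c) (mul_ne_zero hc hc), fun v => ?_⟩, rfl⟩
  change Q ((c • (1 : Matrix ι ι F)) *ᵥ v) = c * c * Q v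
  rw [Matrix.smul_mulVec, Matrix.one_mulVec, QuadraticMap.map_smul, smul_eq_mul]

/-- **Generic coset theorem.** Granted the Lang-type statement `hLang` for the similarity group
of `Q`, an element `autPO g * fieldAutPO σ` whose `r`-th power is trivial, `r = orderOf σ`, is
conjugate to `fieldAutPO σ` under the image of the similarity group. -/
theorem coset_conj_of_lang (Q : QuadraticForm F (ι → F)) (h2 : (2 : F) ≠ 0)
    (hQ : (QuadraticMap.polarBilin Q).Nondegenerate)
    (e f : Fin 3 → ι → F) (HT : HypTriple Q e f)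
    (hLang : ∀ (σ : ↥(compatAut ⇑Q)) (r : ℕ), orderOf σ = r → 0 < r →
      ∀ g : ↥(Cfsg.Geo.quadSimilarityGroup (F := F) ⇑Q),
        twP σ.1 ((g : GL ι F) : Matrix ι ι F) r = 1 →
        ∃ Y : ↥(Cfsg.Geo.quadSimilarityGroup (F := F) ⇑Q),
          ((g : GL ι F) : Matrix ι ι F) * (((Y : GL ι F) : Matrix ι ι F)).map σ.1
            = ((Y : GL ι F) : Matrix ι ι F))
    (σ : ↥(compatAut ⇑Q)) {r : ℕ} (hr : 0 < r) (hσ : orderOf σ = r)
    (g : ↥(Cfsg.Geo.quadSimilarityGroup (F := F) ⇑Q))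
    (hpow : (autPO ⇑Q g * fieldAutPO ⇑Q σ) ^ r = 1) :
    ∃ Y : ↥(Cfsg.Geo.quadSimilarityGroup (F := F) ⇑Q),
      autPO ⇑Q g * fieldAutPO ⇑Q σ = autPO ⇑Q Y * fieldAutPO ⇑Q σ * (autPO ⇑Q Y)⁻¹ := by
  have RP := reflPairs_of_two_ne_zero Q h2
  have hne : Nonempty ι := by
    by_contra hcon
    rw [not_nonempty_iff] at hcon
    have h1 := HT.ef 0 0
    have h0 : e 0 = 0 := Subsingleton.elim _ _
    rw [h0, QuadraticMap.polar_zero_left] at h1
    simp at h1
  have hσr : σ ^ r = 1 := by rw [← hσ]; exact pow_orderOf_eq_one σ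
  have hσr' : (σ.1 : RingAut F) ^ r = 1 := by
    have := congrArg Subtype.val hσr
    rwa [Subgroup.coe_pow] at this
  have hσ' : orderOf (σ.1 : RingAut F) = r := by rw [← hσ]; exact Subgroup.orderOf_coe σ
  -- the twisted norm acts trivially
  have h1 : autPO ⇑Q (twG ⇑Q σ g r) = 1 := by
    have := pow_coset ⇑Q σ g r
    rw [hpow, hσr, map_one, mul_one] at this
    exact this.symm
  obtain ⟨l, hl⟩ := (autPO_eq_one_iff Q hQ h2 e f HT RP _).mp h1
  rw [twG_val] at hl
  have hgu : IsUnit ((g : GL ι F) : Matrix ι ι F) := (g : GL ι F).isUnit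
  have hlfix : σ.1 l = l := twP_scalar_fixed σ.1 hσr' _ hgu l hl
  have hl0 : l ≠ 0 := by
    rintro rfl
    rw [zero_smul, ← twG_val] at hl
    have hu : IsUnit (((twG ⇑Q σ g r : ↥(Cfsg.Geo.quadSimilarityGroup (F := F) ⇑Q)) : GL ι F) :
        Matrix ι ι F) := Units.isUnit _
    rw [hl] at hu
    exact not_isUnit_zero hu
  -- rescale
  obtain ⟨c, hc0, hc⟩ := nrmF_surjective σ.1 hσ' hr l⁻¹ (inv_ne_zero hl0)
    (by rw [map_inv₀, hlfix])
  obtain ⟨z, hz⟩ := exists_scalar_sim Q c hc0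
  have hzg : (((z * g : ↥(Cfsg.Geo.quadSimilarityGroup (F := F) ⇑Q)) : GL ι F) : Matrix ι ι F)
      = c • ((g : GL ι F) : Matrix ι ι F) := by
    rw [Subgroup.coe_mul, Units.val_mul, hz, Matrix.smul_mul, Matrix.one_mul]
  have htw : twP σ.1 (((z * g : ↥(Cfsg.Geo.quadSimilarityGroup (F := F) ⇑Q)) : GL ι F) :
      Matrix ι ι F) r = 1 := by
    rw [hzg, twP_smul, hc, hl, smul_smul, inv_mul_cancel₀ hl0, one_smul]
  obtain ⟨Y, hY⟩ := hLang σ r hσ hr (z * g) htw
  have hYeq : z * g * sigmaGO ⇑Q σ Y = Y := by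
    apply Subtype.ext
    apply Units.ext
    rw [Subgroup.coe_mul, Units.val_mul]
    exact hY
  have hz1 : autPO ⇑Q z = 1 := (autPO_eq_one_iff Q hQ h2 e f HT RP z).mpr ⟨c, hz⟩
  refine ⟨Y, ?_⟩
  rw [conj_fieldAutPO]
  have : Y * (sigmaGO ⇑Q σ Y)⁻¹ = z * g := mul_inv_eq_iff_eq_mul.mpr hYeq.symm
  rw [this, map_mul, hz1, one_mul]

end main

end Cfsg.Agent.Lib.Helper26.LangGO
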