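import Cfsg.Agent.Lib.Helper26.LangGOc
import Cfsg.Agent.Lib.Helper08.OmegaStd
import Cfsg.Agent.Lib.Helper07.OrthT

set_option autoImplicit false

/-!
# `Ω_{2m+1}(F)`: the coset of a field automorphism of prime order

An element of `Inndiag · x`, `x` a field automorphism of prime order `r`, has order `r` iff it is
`Inndiag`-conjugate to `x`.
-/

namespace Cfsg.Agent.Lib.Helper26.LangGO

open Matrix Cfsg.Agent.Lib.Helper08 Cfsg.Agent.Lib.Helper50 Cfsg.Agent.Lib.Helper07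

universe u

section odd

variable {F : Type u} [Field F] (m : ℕ)

lemma compat_odd (σ : RingAut F) : σ ∈ compatAut (Cfsg.quadFormOdd m F) := by
  intro v
  simp [Cfsg.quadFormOdd, map_add, map_pow, map_sum, map_mul]

lemma gram_of_sim (h2 : (2 : F) ≠ 0)
    (g : Matrix (Unit ⊕ (Fin m ⊕ Fin m)) (Unit ⊕ (Fin m ⊕ Fin m)) F) (c : F)
    (hg : ∀ v, Cfsg.quadFormOdd m F (g *ᵥ v) = c * Cfsg.quadFormOdd m F v) :
    gᵀ * gramOdd m F * g = c • gramOdd m F := by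
  apply eq_of_qOf h2
  · exact isSymm_congr _ _ (gramOdd_isSymm m)
  · have := gramOdd_isSymm (F := F) m
    unfold Matrix.IsSymm at this ⊢
    rw [Matrix.transpose_smul, this]
  · intro v
    rw [← qOf_mulVec, ← quadFormOdd_eq_qOf m h2, hg, qOf_smul, quadFormOdd_eq_qOf m h2]

lemma sim_of_gram (h2 : (2 : F) ≠ 0)
    (Y : Matrix (Unit ⊕ (Fin m ⊕ Fin m)) (Unit ⊕ (Fin m ⊕ Fin m)) F) (c : F)
    (hY : Yᵀ * gramOdd m F * Y = c • gramOdd m F) (v : Unit ⊕ (Fin m ⊕ Fin m) → F) :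
    Cfsg.quadFormOdd m F (Y *ᵥ v) = c * Cfsg.quadFormOdd m F v := by
  rw [quadFormOdd_eq_qOf m h2, qOf_mulVec, hY, qOf_smul, quadFormOdd_eq_qOf m h2]

variable [Fintype F]

/-- the Lang-type statement for the similarity group of the odd-dimensional form. -/
lemma lang_odd (h2 : (2 : F) ≠ 0) (σ : ↥(compatAut (Cfsg.quadFormOdd m F))) (r : ℕ)
    (hσ : orderOf σ = r) (hr : 0 < r)
    (g : ↥(Cfsg.Geo.quadSimilarityGroup (F := F) (Cfsg.quadFormOdd m F)))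
    (htw : twP σ.1 ((g : GL (Unit ⊕ (Fin m ⊕ Fin m)) F) : Matrix (Unit ⊕ (Fin m ⊕ Fin m)) (Unit ⊕ (Fin m ⊕ Fin m)) F) r = 1) :
    ∃ Y : ↥(Cfsg.Geo.quadSimilarityGroup (F := F) (Cfsg.quadFormOdd m F)),
      ((g : GL (Unit ⊕ (Fin m ⊕ Fin m)) F) : Matrix (Unit ⊕ (Fin m ⊕ Fin m)) (Unit ⊕ (Fin m ⊕ Fin m)) F) *
        (((Y : GL (Unit ⊕ (Fin m ⊕ Fin m)) F) : Matrix (Unit ⊕ (Fin m ⊕ Fin m)) (Unit ⊕ (Fin m ⊕ Fin m)) F)).map σ.1
        = ((Y : GL (Unit ⊕ (Fin m ⊕ Fin m)) F) : Matrix (Unit ⊕ (Fin m ⊕ Fin m)) (Unit ⊕ (Fin m ⊕ Fin m)) F) := by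
  obtain ⟨μ, hμ⟩ := g.2
  have hσ' : orderOf (σ.1 : RingAut F) = r := by rw [← hσ]; exact Subgroup.orderOf_coe σ
  have hM := gram_of_sim m h2 _ (μ : F) hμ
  obtain ⟨Y, c, hYu, hc0, hYG, hYeq⟩ := lang_GO_odd m h2 σ.1 hσ' hr _ (μ : F) hM htw
  refine ⟨⟨hYu.unit, Units.mk0 c hc0, fun v => ?_⟩, hYeq⟩
  exact sim_of_gram m h2 Y c hYG v

end odd

section final

variable {F : Type u} [Field F] [Fintype F]

lemma orderOf_conj_eq {G : Type*} [Group G] (a y : G) : orderOf (a * y * a⁻¹) = orderOf y :=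
  (MulAut.conj a).orderOf_eq y

/-- **`Ω_{2m+1}(F)`, coset of a field automorphism of prime order.** -/
theorem omega_odd_coset_conj (hodd : Odd (Fintype.card F)) {m : ℕ} (hm : 3 ≤ m)
    (x δ : MulAut (Cfsg.POmega F (Cfsg.quadFormOdd m F)))
    (hx : Cfsg.IsFieldAutClassPOmega (Cfsg.quadFormOdd m F) x) {r : ℕ} (hr : r.Prime)
    (hxr : orderOf x = r) (hδ : δ ∈ Cfsg.inndiagPOmegaOdd m F) :
    orderOf (δ * x) = r ↔ Cfsg.IsConjUnder (Cfsg.inndiagPOmegaOdd m F) x (δ * x) := by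
  have h2 : (2 : F) ≠ 0 := two_ne_zero_of_odd_card rfl hodd
  have hQ : (QuadraticMap.polarBilin (qdataOdd m h2).qf).Nondegenerate := (qdataOdd m h2).qf_nondeg
  have HT := hypTriple_odd (F := F) m hm h2
  have hinn : Cfsg.inndiagPOmegaOdd m F = (autPO (Cfsg.quadFormOdd m F)).range := pgoAut_eq _
  have hall : ∀ σ : RingAut F, σ ∈ compatAut (Cfsg.quadFormOdd m F) := compat_odd m
  have htop : (autPO (Cfsg.quadFormOdd m F)).range ⊔ (fieldAutPO (Cfsg.quadFormOdd m F)).range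
      = ⊤ := by
    rw [← gammaPOmega_eq _ hall]
    exact OG.gamma_odd_eq_top hodd hm
  have hnorm := autPO_range_normal_of_top _ htop
  have hn : 5 ≤ Fintype.card (Unit ⊕ (Fin m ⊕ Fin m)) := by
    rw [Fintype.card_sum, Fintype.card_sum, Fintype.card_fin, Fintype.card_unit]; omega
  have hfixS : ∀ (σ : RingAut F) (a i : Unit ⊕ (Fin m ⊕ Fin m)),
      σ ((Pi.single a (1 : F) : Unit ⊕ (Fin m ⊕ Fin m) → F) i) =
        (Pi.single a (1 : F) : Unit ⊕ (Fin m ⊕ Fin m) → F) i := by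
    intro σ a i
    rw [Pi.single_apply]
    split_ifs
    · exact map_one σ
    · exact map_zero σ
  obtain ⟨α, φ, σ, -, hφ, hαx⟩ := hx
  have hφ' : φ = fieldAutPO (Cfsg.quadFormOdd m F) ⟨σ, hall σ⟩ :=
    (isFieldAut_iff _ σ (hall σ) φ).mp hφ
  have hxφ : x = α⁻¹ * φ * α := by rw [← hαx]; group
  have hφr : orderOf φ = r := by rw [← hαx, orderOf_conj_eq, hxr]
  have hσr : orderOf (⟨σ, hall σ⟩ : ↥(compatAut (Cfsg.quadFormOdd m F))) = r := by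
    have := orderOf_fieldAutPO h2 (qdataOdd m h2).qf hQ hn _ _ HT
      (fun τ i => hfixS τ.1 _ i) (fun τ i => hfixS τ.1 _ i) ⟨σ, hall σ⟩
    rw [← hφr, hφ']
    exact this.symm
  have hδ' : α * δ * α⁻¹ ∈ (autPO (Cfsg.quadFormOdd m F)).range :=
    hnorm.conj_mem δ (hinn ▸ hδ) α
  obtain ⟨g, hg⟩ := hδ'
  have key : α * (δ * x) * α⁻¹ = autPO (Cfsg.quadFormOdd m F) g * φ := by
    rw [hg, ← hαx]; group
  constructor
  · intro horder
    have hpow : (autPO (Cfsg.quadFormOdd m F) g *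
        fieldAutPO (Cfsg.quadFormOdd m F) ⟨σ, hall σ⟩) ^ r = 1 := by
      rw [← hφ', ← key, ← horder, ← orderOf_conj_eq α (δ * x)]
      exact pow_orderOf_eq_one _
    obtain ⟨Y, hY⟩ := coset_conj_of_lang (qdataOdd m h2).qf h2 hQ _ _ HT
      (fun τ k hτ hk g' htw => lang_odd m h2 τ k hτ hk g' htw) ⟨σ, hall σ⟩ hr.pos hσr g hpow
    refine ⟨α⁻¹ * autPO (Cfsg.quadFormOdd m F) Y * α, ?_, ?_⟩
    · rw [hinn]
      have := hnorm.conj_mem (autPO (Cfsg.quadFormOdd m F) Y) ⟨Y, rfl⟩ α⁻¹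
      rwa [inv_inv] at this
    · have e1 : δ * x = α⁻¹ * (α * (δ * x) * α⁻¹) * α := by group
      rw [e1, key, hφ']
      have hY' : autPO (Cfsg.quadFormOdd m F) g *
          fieldAutPO (Cfsg.quadFormOdd m F) ⟨σ, hall σ⟩ =
          autPO (Cfsg.quadFormOdd m F) Y * fieldAutPO (Cfsg.quadFormOdd m F) ⟨σ, hall σ⟩ *
            (autPO (Cfsg.quadFormOdd m F) Y)⁻¹ := hY
      rw [hY', hxφ, hφ']
      group
  · rintro ⟨h, -, heq⟩
    rw [heq, orderOf_conj_eq, hxr]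

end final

end Cfsg.Agent.Lib.Helper26.LangGO
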