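import Cfsg.Agent.Lib.Helper26.LangGOb
import Cfsg.Agent.Lib.Helper50.WittSplit

set_option autoImplicit false
set_option linter.unusedSectionVars false

/-!
# Lang / descent core at quadratic-form level (any characteristic)

`F` a field, `σ` a field automorphism, `F₀ = fixF σ`.  For a quadratic form `Q` on `ι → F`
commuting with `σ`:

* `descForm σ Q h` : the restriction of `Q` to the `F₀`-points, a quadratic form over `F₀`;
* `IsDesc Q σ N Y c Q₀` : `Y` trivialises the cocycle `N` (`N σ(Y) = Y`) and `Q ∘ Y = c · Q₀` on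
  `F₀`-points ("`Q₀` is the `F₀`-form of the twisted group of `N`");
* `lang_descent` : existence of such data when the twisted norm of the similarity `N` is `1`;
* `lang_conj` : an `F₀`-similarity between two descended forms gives a similarity `Z` of `Q`
  with `N₂ σ(Z) = Z N₁`.
-/

namespace Cfsg.Agent.Lib.Helper26.LangGO

open Matrix QuadraticMap Cfsg.Agent.Lib.Helper50 Cfsg.Agent.Lib.Helper07

section desc

variable {ι : Type*} [Fintype ι] [DecidableEq ι] {F : Type*} [Field F] (σ : RingAut F)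

/-- coordinatewise coercion of a vector over the fixed field. -/
def upV (v : ι → fixF σ) : ι → F := fun i => (v i : F)

omit [Fintype ι] [DecidableEq ι] in
lemma upV_add (v w : ι → fixF σ) : upV σ (v + w) = upV σ v + upV σ w := rfl

omit [Fintype ι] [DecidableEq ι] in
lemma upV_smul (a : fixF σ) (v : ι → fixF σ) : upV σ (a • v) = (a : F) • upV σ v := rfl

omit [Fintype ι] [DecidableEq ι] in
lemma map_upV (v : ι → fixF σ) : (fun i => σ (upV σ v i)) = upV σ v :=
  funext fun i => (v i).2

omit [Fintype ι] [DecidableEq ι] in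
lemma upV_injective : Function.Injective (upV σ (ι := ι)) := by
  intro v w h
  funext i
  exact Subtype.ext (congrFun h i)

omit [DecidableEq ι] in
lemma upV_mulVec (P : Matrix ι ι (fixF σ)) (v : ι → fixF σ) :
    upV σ (P *ᵥ v) = P.map (fixF σ).subtype *ᵥ upV σ v := by
  funext i
  simp [upV, Matrix.mulVec, dotProduct]

lemma upV_single (i : ι) : upV σ (Pi.single i (1 : fixF σ)) = Pi.single i (1 : F) := by
  funext j
  by_cases h : j = i
  · subst h; simp [upV]
  · simp [upV, h]

omit [DecidableEq ι] in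
lemma map_mulVec_ra (A : Matrix ι ι F) (v : ι → F) :
    A.map σ *ᵥ (fun i => σ (v i)) = fun i => σ ((A *ᵥ v) i) := by
  funext i
  simp [Matrix.mulVec, dotProduct, map_sum, map_mul]

/-- the restriction of a `σ`-compatible quadratic form to the points over the fixed field. -/
def descForm (Q : QuadraticForm F (ι → F)) (h : ∀ v, Q (fun i => σ (v i)) = σ (Q v)) :
    QuadraticForm (fixF σ) (ι → fixF σ) :=
  QuadraticMap.ofPolar
    (fun v => (⟨Q (upV σ v), by
      change σ (Q (upV σ v)) = Q (upV σ v)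
      rw [← h, map_upV]⟩ : fixF σ))
    (by
      intro a x
      apply Subtype.ext
      change Q (upV σ (a • x)) = ((a * a : fixF σ) : F) * Q (upV σ x)
      rw [upV_smul, QuadraticMap.map_smul, smul_eq_mul]
      rfl)
    (by
      intro x x' y
      apply Subtype.ext
      change Q (upV σ (x + x' + y)) - Q (upV σ (x + x')) - Q (upV σ y)
        = (Q (upV σ (x + y)) - Q (upV σ x) - Q (upV σ y))
          + (Q (upV σ (x' + y)) - Q (upV σ x') - Q (upV σ y))
      have := QuadraticMap.polar_add_left Q (upV σ x) (upV σ x') (upV σ y)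
      unfold QuadraticMap.polar at this
      simp only [upV_add]
      exact this)
    (by
      intro a x y
      apply Subtype.ext
      change Q (upV σ (a • x + y)) - Q (upV σ (a • x)) - Q (upV σ y)
        = (a : F) * (Q (upV σ (x + y)) - Q (upV σ x) - Q (upV σ y))
      have := QuadraticMap.polar_smul_left Q (a : F) (upV σ x) (upV σ y)
      unfold QuadraticMap.polar at this
      simp only [upV_add, upV_smul]
      rw [this, smul_eq_mul])

lemma descForm_apply (Q : QuadraticForm F (ι → F)) (h : ∀ v, Q (fun i => σ (v i)) = σ (Q v))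
    (v : ι → fixF σ) : ((descForm σ Q h v : fixF σ) : F) = Q (upV σ v) := rfl

lemma descForm_polar (Q : QuadraticForm F (ι → F)) (h : ∀ v, Q (fun i => σ (v i)) = σ (Q v))
    (v w : ι → fixF σ) :
    ((QuadraticMap.polar (descForm σ Q h) v w : fixF σ) : F)
      = QuadraticMap.polar Q (upV σ v) (upV σ w) := rfl

/-- a linear functional vanishing on the standard basis vanishes. -/
lemma linear_eq_zero_of_single (f : (ι → F) →ₗ[F] F) (h : ∀ i, f (Pi.single i 1) = 0) :
    f = 0 := by
  apply LinearMap.pi_ext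
  intro i x
  have : (Pi.single i x : ι → F) = x • Pi.single i (1 : F) := by
    rw [← Pi.single_smul, smul_eq_mul, mul_one]
  rw [this, map_smul, h i, smul_zero, LinearMap.zero_apply]

/-- nondegeneracy descends. -/
lemma descForm_QND (Q : QuadraticForm F (ι → F)) (h : ∀ v, Q (fun i => σ (v i)) = σ (Q v))
    (hQ : QND Q) : QND (descForm σ Q h) := by
  intro v hv
  apply upV_injective σ
  have h0 : upV σ (0 : ι → fixF σ) = 0 := rfl
  rw [h0]
  apply hQ
  have hf : QuadraticMap.polarBilin Q (upV σ v) = 0 := by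
    apply linear_eq_zero_of_single
    intro i
    rw [QuadraticMap.polarBilin_apply_apply, ← upV_single σ i, ← descForm_polar σ Q h, hv]
    rfl
  intro w
  have := LinearMap.congr_fun hf w
  rwa [QuadraticMap.polarBilin_apply_apply] at this

/-- a quadratic form over `F` is determined by its values on the points over the fixed field. -/
lemma eq_of_eq_on_fixed (Q₁ Q₂ : QuadraticForm F (ι → F))
    (h : ∀ v : ι → fixF σ, Q₁ (upV σ v) = Q₂ (upV σ v)) : Q₁ = Q₂ := by
  have key : ∀ D : QuadraticForm F (ι → F), (∀ v : ι → fixF σ, D (upV σ v) = 0) →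
      ∀ x, D x = 0 := by
    intro D hD
    have hpol : ∀ x y, QuadraticMap.polar D x y = 0 := by
      have hB : QuadraticMap.polarBilin D = 0 := by
        apply LinearMap.pi_ext
        intro i a
        have e1 : (Pi.single i a : ι → F) = a • Pi.single i (1 : F) := by
          rw [← Pi.single_smul, smul_eq_mul, mul_one]
        rw [e1, map_smul]
        have : QuadraticMap.polarBilin D (Pi.single i (1 : F)) = 0 := by
          apply linear_eq_zero_of_single
          intro j
          rw [QuadraticMap.polarBilin_apply_apply]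
          unfold QuadraticMap.polar
          rw [← upV_single σ i, ← upV_single σ j, ← upV_add, hD, hD, hD]
          ring
        rw [this, smul_zero, LinearMap.zero_apply]
      intro x y
      have := LinearMap.congr_fun (LinearMap.congr_fun hB x) y
      rwa [QuadraticMap.polarBilin_apply_apply] at this
    have hadd : ∀ x y, D (x + y) = D x + D y := by
      intro x y
      have := hpol x y
      unfold QuadraticMap.polar at this
      linear_combination this
    have hsingle : ∀ (i : ι) (a : F), D (Pi.single i a) = 0 := by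
      intro i a
      have e1 : (Pi.single i a : ι → F) = a • Pi.single i (1 : F) := by
        rw [← Pi.single_smul, smul_eq_mul, mul_one]
      rw [e1, QuadraticMap.map_smul, ← upV_single σ i, hD, smul_zero]
    intro x
    have hsum : ∀ s : Finset ι, D (∑ i ∈ s, Pi.single i (x i)) = 0 := by
      intro s
      induction s using Finset.induction_on with
      | empty => simp
      | insert a s ha ih => rw [Finset.sum_insert ha, hadd, hsingle, ih, add_zero]
    have := hsum Finset.univ
    rwa [Finset.univ_sum_single] at this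
  ext x
  have := key (Q₁ - Q₂) (fun v => by rw [_root_.sub_apply, h v, sub_self]) x
  rw [_root_.sub_apply] at this
  exact sub_eq_zero.mp this

end desc

section lang

variable {ι : Type*} [Fintype ι] [DecidableEq ι] {F : Type*} [Field F] (σ : RingAut F)

/-- descent datum: `Y` trivialises the cocycle `N` and `Q ∘ Y = c · Q₀` on the points over the
fixed field. -/
def IsDesc (Q : QuadraticForm F (ι → F)) (N Y : Matrix ι ι F) (c : F)
    (Q₀ : QuadraticForm (fixF σ) (ι → fixF σ)) : Prop :=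
  IsUnit Y ∧ c ≠ 0 ∧ N * Y.map σ = Y ∧
    ∀ v : ι → fixF σ, Q (Y *ᵥ upV σ v) = c * ((Q₀ v : fixF σ) : F)

lemma desc_one (Q : QuadraticForm F (ι → F)) (h : ∀ v, Q (fun i => σ (v i)) = σ (Q v)) :
    IsDesc σ Q 1 1 1 (descForm σ Q h) := by
  refine ⟨isUnit_one, one_ne_zero, ?_, fun v => ?_⟩
  · rw [Matrix.one_mul, map_one_ra]
  · rw [Matrix.one_mulVec, one_mul, descForm_apply]

/-- the multiplier of a twisted product. -/
lemma twP_multiplier (Q : QuadraticForm F (ι → F)) (h : ∀ v, Q (fun i => σ (v i)) = σ (Q v))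
    (N : Matrix ι ι F) (μ : F) (hN : ∀ v, Q (N *ᵥ v) = μ * Q v) (k : ℕ) :
    ∀ v, Q (twP σ N k *ᵥ v) = nrmF σ k μ * Q v := by
  induction k with
  | zero =>
    intro v
    rw [twP_zero, Matrix.one_mulVec]
    unfold nrmF
    simp
  | succ k ih =>
    intro v
    obtain ⟨w, rfl⟩ : ∃ w : ι → F, v = fun i => σ (w i) :=
      ⟨fun i => σ⁻¹ (v i), by funext i; exact (RingEquiv.apply_symm_apply σ _).symm⟩
    rw [twP_succ, ← Matrix.mulVec_mulVec, hN, map_mulVec_ra, h, ih, map_mul, h, nrmF_succ,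
      mul_assoc]

variable [Finite F]

/-- **Descent.** A similarity `N` of `Q` with trivial twisted norm has a descent datum. -/
theorem lang_descent (Q : QuadraticForm F (ι → F)) (h : ∀ v, Q (fun i => σ (v i)) = σ (Q v))
    (hQ0 : ∃ v, Q v ≠ 0) {r : ℕ} (hr : orderOf σ = r) (hr0 : 0 < r)
    (N : Matrix ι ι F) (μ : F) (hN : ∀ v, Q (N *ᵥ v) = μ * Q v) (htw : twP σ N r = 1) :
    ∃ (Y : Matrix ι ι F) (c : F) (Q₀ : QuadraticForm (fixF σ) (ι → fixF σ)),
      IsDesc σ Q N Y c Q₀ ∧ (QND Q → QND Q₀) := by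
  classical
  -- the norm of the multiplier is one
  have hnrm : nrmF σ r μ = 1 := by
    obtain ⟨v, hv⟩ := hQ0
    have := twP_multiplier σ Q h N μ hN r v
    rw [htw, Matrix.one_mulVec] at this
    have h1 : (nrmF σ r μ - 1) * Q v = 0 := by linear_combination -this
    rcases mul_eq_zero.mp h1 with h2 | h2
    · exact sub_eq_zero.mp h2
    · exact absurd h2 hv
  obtain ⟨y, hy0, hy⟩ := h90_scalar σ hr hr0 μ hnrm
  obtain ⟨Y, hYu, hY⟩ := h90_general σ hr hr0 N htw
  have hσy0 : σ y ≠ 0 := (map_ne_zero_iff _ σ.injective).mpr hy0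
  -- the twisted form
  let Q' : QuadraticForm F (ι → F) := (y⁻¹ • Q).comp (Matrix.toLin' Y)
  have hQ'app : ∀ v, Q' v = y⁻¹ * Q (Y *ᵥ v) := fun v => rfl
  have hQ' : ∀ v, Q' (fun i => σ (v i)) = σ (Q' v) := by
    intro v
    rw [hQ'app, hQ'app, map_mul, map_inv₀]
    have e1 : Y *ᵥ (fun i => σ (v i)) = N *ᵥ (fun i => σ ((Y *ᵥ v) i)) := by
      conv_lhs => rw [← hY]
      rw [← Matrix.mulVec_mulVec, map_mulVec_ra]
    rw [e1, hN, h]
    have e2 : y⁻¹ * μ = (σ y)⁻¹ := by
      rw [inv_mul_eq_iff_eq_mul₀ hy0, eq_mul_inv_iff_mul_eq₀ hσy0]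
      exact hy
    rw [← mul_assoc, e2]
  refine ⟨Y, y, descForm σ Q' hQ', ⟨hYu, hy0, hY, fun v => ?_⟩, fun hQnd => ?_⟩
  · rw [descForm_apply, hQ'app, ← mul_assoc, mul_inv_cancel₀ hy0, one_mul]
  · apply descForm_QND
    intro v hv
    have hinj : Function.Injective (Matrix.toLin' Y) := by
      rw [← LinearMap.ker_eq_bot, Matrix.ker_toLin'_eq_bot_iff]
      intro w hw
      obtain ⟨u, hu⟩ := hYu
      have : (u⁻¹).val *ᵥ (Y *ᵥ w) = 0 := by rw [hw, Matrix.mulVec_zero]
      rwa [Matrix.mulVec_mulVec, ← hu, Units.inv_mul, Matrix.one_mulVec] at this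
    have hsurj : Function.Surjective (Matrix.toLin' Y) :=
      LinearMap.surjective_of_injective hinj
    apply hinj
    rw [map_zero]
    apply hQnd
    intro w
    obtain ⟨w', rfl⟩ := hsurj w
    have := hv w'
    unfold QuadraticMap.polar at this ⊢
    rw [hQ'app, hQ'app, hQ'app, Matrix.mulVec_add] at this
    rw [Matrix.toLin'_apply, Matrix.toLin'_apply]
    have h3 : y⁻¹ * (Q (Y *ᵥ v + Y *ᵥ w') - Q (Y *ᵥ v) - Q (Y *ᵥ w')) = 0 := by
      linear_combination this
    rcases mul_eq_zero.mp h3 with h4 | h4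
    · exact absurd h4 (inv_ne_zero hy0)
    · exact h4

omit [Finite F] in
/-- **Conjugacy from an `F₀`-similarity of the descended forms.** -/
theorem lang_conj (Q : QuadraticForm F (ι → F))
    (N₁ Y₁ : Matrix ι ι F) (c₁ : F) (Q₁ : QuadraticForm (fixF σ) (ι → fixF σ))
    (h₁ : IsDesc σ Q N₁ Y₁ c₁ Q₁)
    (N₂ Y₂ : Matrix ι ι F) (c₂ : F) (Q₂ : QuadraticForm (fixF σ) (ι → fixF σ))
    (h₂ : IsDesc σ Q N₂ Y₂ c₂ Q₂)
    (P : Matrix ι ι (fixF σ)) (hP : IsUnit P) (d : fixF σ)
    (hPQ : ∀ v, Q₂ (P *ᵥ v) = d * Q₁ v) :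
    ∃ Z : Matrix ι ι F, IsUnit Z ∧ (∀ v, Q (Z *ᵥ v) = (c₂ * (d : F) * c₁⁻¹) * Q v) ∧
      N₂ * Z.map σ = Z * N₁ := by
  obtain ⟨hY₁u, hc₁, hY₁, hQ₁⟩ := h₁
  obtain ⟨hY₂u, hc₂, hY₂, hQ₂⟩ := h₂
  obtain ⟨u₁, hu₁⟩ := hY₁u
  set W₁ : Matrix ι ι F := (u₁⁻¹).val with hW₁
  have hYW : Y₁ * W₁ = 1 := by rw [← hu₁, hW₁, Units.mul_inv]
  have hWY : W₁ * Y₁ = 1 := by rw [← hu₁, hW₁, Units.inv_mul]
  set Pu : Matrix ι ι F := P.map (fixF σ).subtype with hPu
  have hPufix : Pu.map σ = Pu := by
    ext i j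
    exact (P i j).2
  have hPuu : IsUnit Pu := by
    obtain ⟨p, hp⟩ := hP
    have e1 : Pu * ((p⁻¹).val).map (fixF σ).subtype = 1 := by
      rw [hPu, ← Matrix.map_mul, ← hp, Units.mul_inv]
      exact Matrix.map_one _ (map_zero _) (map_one _)
    exact IsUnit.of_mul_eq_one _ e1
  -- `σ(W₁) = W₁ N₁`
  have hσW : W₁.map σ = W₁ * N₁ := by
    have e1 : Y₁.map σ * W₁.map σ = 1 := by rw [← map_mul_ra, hYW, map_one_ra]
    calc W₁.map σ = (W₁ * N₁ * Y₁.map σ) * W₁.map σ := by
          rw [Matrix.mul_assoc W₁, hY₁, hWY, Matrix.one_mul]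
      _ = W₁ * N₁ * (Y₁.map σ * W₁.map σ) := by rw [Matrix.mul_assoc]
      _ = W₁ * N₁ := by rw [e1, Matrix.mul_one]
  refine ⟨Y₂ * Pu * W₁, (hY₂u.mul hPuu).mul ⟨u₁⁻¹, rfl⟩, ?_, ?_⟩
  · -- similarity
    have hforms : Q.comp (Matrix.toLin' (Y₂ * Pu))
        = (c₂ * (d : F) * c₁⁻¹) • Q.comp (Matrix.toLin' Y₁) := by
      apply eq_of_eq_on_fixed σ
      intro v
      rw [QuadraticMap.comp_apply, _root_.smul_apply, QuadraticMap.comp_apply,
        Matrix.toLin'_apply, Matrix.toLin'_apply, ← Matrix.mulVec_mulVec, hPu, ← upV_mulVec,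
        hQ₂, hPQ, hQ₁, smul_eq_mul]
      have : (((d * Q₁ v : fixF σ)) : F) = (d : F) * ((Q₁ v : fixF σ) : F) := rfl
      rw [this]
      field_simp
    intro v
    have e1 := congrArg (fun q : QuadraticForm F (ι → F) => q (W₁ *ᵥ v)) hforms
    simp only [QuadraticMap.comp_apply, _root_.smul_apply, Matrix.toLin'_apply,
      Matrix.mulVec_mulVec, smul_eq_mul] at e1
    rw [hYW, Matrix.one_mulVec] at e1
    exact e1
  · calc N₂ * (Y₂ * Pu * W₁).map σ = N₂ * (Y₂.map σ * Pu * (W₁ * N₁)) := by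
          rw [map_mul_ra, map_mul_ra, hPufix, hσW]
      _ = (N₂ * Y₂.map σ) * Pu * W₁ * N₁ := by simp only [Matrix.mul_assoc]
      _ = Y₂ * Pu * W₁ * N₁ := by rw [hY₂]

end lang

end Cfsg.Agent.Lib.Helper26.LangGO
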