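import Cfsg.Agent.Lib.Helper26.LangGOc
import Cfsg.Agent.Lib.Helper26.LangQF

set_option autoImplicit false

/-!
# Cosets of a field automorphism: subgroup version and the glue with the descent core

* `coset_conj_of_lang_sub` : `LangGOc.coset_conj_of_lang` for a subgroup `I` of the similarity
  group containing the scalars (e.g. the class-preserving similarities);
* `lang_of_class` : the Lang-type statement for the full similarity group from a classification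
  hypothesis on the descended forms over the fixed field.
-/

namespace Cfsg.Agent.Lib.Helper26.LangGO

open Matrix Cfsg.Agent.Lib.Helper08 Cfsg.Agent.Lib.Helper50 Cfsg.Agent.Lib.Helper07

universe u

variable {F : Type u} [Field F] [Fintype F] {ι : Type} [Fintype ι] [DecidableEq ι]

/-- **Generic coset theorem, subgroup version.** -/
theorem coset_conj_of_lang_sub (Q : QuadraticForm F (ι → F)) (h2 : (2 : F) ≠ 0)
    (hQ : (QuadraticMap.polarBilin Q).Nondegenerate)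
    (e f : Fin 3 → ι → F) (HT : HypTriple Q e f)
    (I : Subgroup ↥(Cfsg.Geo.quadSimilarityGroup (F := F) ⇑Q))
    (hscal : ∀ z : ↥(Cfsg.Geo.quadSimilarityGroup (F := F) ⇑Q),
      (∃ c : F, ((z : GL ι F) : Matrix ι ι F) = c • 1) → z ∈ I)
    (hLang : ∀ (σ : ↥(compatAut ⇑Q)) (r : ℕ), orderOf σ = r → 0 < r →
      ∀ g : ↥(Cfsg.Geo.quadSimilarityGroup (F := F) ⇑Q), g ∈ I →
        twP σ.1 ((g : GL ι F) : Matrix ι ι F) r = 1 →
        ∃ Y : ↥(Cfsg.Geo.quadSimilarityGroup (F := F) ⇑Q), Y ∈ I ∧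
          ((g : GL ι F) : Matrix ι ι F) * (((Y : GL ι F) : Matrix ι ι F)).map σ.1
            = ((Y : GL ι F) : Matrix ι ι F))
    (σ : ↥(compatAut ⇑Q)) {r : ℕ} (hr : 0 < r) (hσ : orderOf σ = r)
    (g : ↥(Cfsg.Geo.quadSimilarityGroup (F := F) ⇑Q)) (hgI : g ∈ I)
    (hpow : (autPO ⇑Q g * fieldAutPO ⇑Q σ) ^ r = 1) :
    ∃ Y : ↥(Cfsg.Geo.quadSimilarityGroup (F := F) ⇑Q), Y ∈ I ∧
      autPO ⇑Q g * fieldAutPO ⇑Q σ = autPO ⇑Q Y * fieldAutPO ⇑Q σ * (autPO ⇑Q Y)⁻¹ := by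
  have RP := reflPairs_of_two_ne_zero Q h2
  have hne : Nonempty ι := by
    by_contra hcon
    rw [not_nonempty_iff] at hcon
    have h1 := HT.ef 0 0
    have h0 : e 0 = 0 := Subsingleton.elim _ _
    rw [h0, QuadraticMap.polar_zero_left] at h1
    simp at h1
  have hσr : σ ^ r = 1 := by rw [← hσ]; exact pow_orderOf_eq_one σ
  have hσr' : (σ.1 : RingAut F) ^ r = 1 := by
    have := congrArg Subtype.val hσr
    rwa [Subgroup.coe_pow] at this
  have hσ' : orderOf (σ.1 : RingAut F) = r := by rw [← hσ]; exact Subgroup.orderOf_coe σ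
  have h1 : autPO ⇑Q (twG ⇑Q σ g r) = 1 := by
    have := pow_coset ⇑Q σ g r
    rw [hpow, hσr, map_one, mul_one] at this
    exact this.symm
  obtain ⟨l, hl⟩ := (autPO_eq_one_iff Q hQ h2 e f HT RP _).mp h1
  rw [twG_val] at hl
  have hgu : IsUnit ((g : GL ι F) : Matrix ι ι F) := (g : GL ι F).isUnit
  have hlfix : σ.1 l = l := twP_scalar_fixed σ.1 hσr' _ hgu l hl
  have hl0 : l ≠ 0 := by
    rintro rfl
    rw [zero_smul, ← twG_val] at hl
    have hu : IsUnit (((twG ⇑Q σ g r : ↥(Cfsg.Geo.quadSimilarityGroup (F := F) ⇑Q)) : GL ι F) :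
        Matrix ι ι F) := Units.isUnit _
    rw [hl] at hu
    exact not_isUnit_zero hu
  obtain ⟨c, hc0, hc⟩ := nrmF_surjective σ.1 hσ' hr l⁻¹ (inv_ne_zero hl0)
    (by rw [map_inv₀, hlfix])
  obtain ⟨z, hz⟩ := exists_scalar_sim Q c hc0
  have hzI : z ∈ I := hscal z ⟨c, hz⟩
  have hzg : (((z * g : ↥(Cfsg.Geo.quadSimilarityGroup (F := F) ⇑Q)) : GL ι F) : Matrix ι ι F)
      = c • ((g : GL ι F) : Matrix ι ι F) := by
    rw [Subgroup.coe_mul, Units.val_mul, hz, Matrix.smul_mul, Matrix.one_mul]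
  have htw : twP σ.1 (((z * g : ↥(Cfsg.Geo.quadSimilarityGroup (F := F) ⇑Q)) : GL ι F) :
      Matrix ι ι F) r = 1 := by
    rw [hzg, twP_smul, hc, hl, smul_smul, inv_mul_cancel₀ hl0, one_smul]
  obtain ⟨Y, hYI, hY⟩ := hLang σ r hσ hr (z * g) (I.mul_mem hzI hgI) htw
  have hYeq : z * g * sigmaGO ⇑Q σ Y = Y := by
    apply Subtype.ext
    apply Units.ext
    rw [Subgroup.coe_mul, Units.val_mul]
    exact hY
  have hz1 : autPO ⇑Q z = 1 := (autPO_eq_one_iff Q hQ h2 e f HT RP z).mpr ⟨c, hz⟩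
  refine ⟨Y, hYI, ?_⟩
  rw [conj_fieldAutPO]
  have : Y * (sigmaGO ⇑Q σ Y)⁻¹ = z * g := mul_inv_eq_iff_eq_mul.mpr hYeq.symm
  rw [this, map_mul, hz1, one_mul]

/-- **Lang for the full similarity group from a classification hypothesis**: if every
nondegenerate form over the fixed field which is a descended form of `g` is `F₀`-similar to
the restriction of `Q`, then `g = Y σ(Y)⁻¹` for a similarity `Y`. -/
theorem lang_of_class (Q : QuadraticForm F (ι → F)) (σ : ↥(compatAut ⇑Q))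
    (hQ0 : ∃ v, Q v ≠ 0) (hQnd : QND Q) {r : ℕ} (hσ : orderOf σ = r) (hr : 0 < r)
    (g : ↥(Cfsg.Geo.quadSimilarityGroup (F := F) ⇑Q))
    (htw : twP σ.1 ((g : GL ι F) : Matrix ι ι F) r = 1)
    (hclass : ∀ (Q₀ : QuadraticForm (fixF σ.1) (ι → fixF σ.1)), QND Q₀ →
      (∃ Y c, IsDesc σ.1 Q ((g : GL ι F) : Matrix ι ι F) Y c Q₀) →
      ∃ (P : Matrix ι ι (fixF σ.1)) (d : fixF σ.1), IsUnit P ∧
        ∀ v, Q₀ (P *ᵥ v) = d * descForm σ.1 Q σ.2 v) :
    ∃ Y : ↥(Cfsg.Geo.quadSimilarityGroup (F := F) ⇑Q),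
      ((g : GL ι F) : Matrix ι ι F) * (((Y : GL ι F) : Matrix ι ι F)).map σ.1
        = ((Y : GL ι F) : Matrix ι ι F) := by
  have hσ' : orderOf (σ.1 : RingAut F) = r := by rw [← hσ]; exact Subgroup.orderOf_coe σ
  obtain ⟨μ, hμ⟩ := g.2
  obtain ⟨Y, c, Q₀, hdesc, hnd⟩ := lang_descent σ.1 Q σ.2 hQ0 hσ' hr _ (μ : F) hμ htw
  obtain ⟨P, d, hPu, hP⟩ := hclass Q₀ (hnd hQnd) ⟨Y, c, hdesc⟩
  obtain ⟨Z, hZu, hZsim, hZ⟩ := lang_conj σ.1 Q 1 1 1 _ (desc_one σ.1 Q σ.2) _ Y c Q₀ hdesc P hPu d hP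
  have hmult : c * (d : F) * (1 : F)⁻¹ ≠ 0 := by
    intro h0
    obtain ⟨v, hv⟩ := hQ0
    obtain ⟨u, hu⟩ := hZu
    have h1 := hZsim ((u⁻¹).val *ᵥ v)
    rw [Matrix.mulVec_mulVec, ← hu, Units.mul_inv, Matrix.one_mulVec, h0, zero_mul] at h1
    exact hv h1
  refine ⟨⟨hZu.unit, Units.mk0 _ hmult, fun v => hZsim v⟩, ?_⟩
  rw [Matrix.mul_one] at hZ
  exact hZ

end Cfsg.Agent.Lib.Helper26.LangGO
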