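import Cfsg.Agent.Lib.Helper26.LangGOe

set_option autoImplicit false

/-!
# Coset theorem with the kernel of `autPO` as a hypothesis (any characteristic)
-/

namespace Cfsg.Agent.Lib.Helper26.LangGO

open Matrix Cfsg.Agent.Lib.Helper08 Cfsg.Agent.Lib.Helper50 Cfsg.Agent.Lib.Helper07

universe u

variable {F : Type u} [Field F] [Fintype F] {ι : Type} [Fintype ι] [DecidableEq ι]

/-- **Generic coset theorem, subgroup version with the kernel of `autPO` as a hypothesis** (any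
characteristic). -/
theorem coset_conj_of_lang_ker [Nonempty ι] (Q : QuadraticForm F (ι → F))
    (hker : ∀ z : ↥(Cfsg.Geo.quadSimilarityGroup (F := F) ⇑Q),
      autPO ⇑Q z = 1 ↔ ∃ c : F, ((z : GL ι F) : Matrix ι ι F) = c • 1)
    (I : Subgroup ↥(Cfsg.Geo.quadSimilarityGroup (F := F) ⇑Q))
    (hscal : ∀ z : ↥(Cfsg.Geo.quadSimilarityGroup (F := F) ⇑Q),
      (∃ c : F, ((z : GL ι F) : Matrix ι ι F) = c • 1) → z ∈ I)
    (hLang : ∀ (σ : ↥(compatAut ⇑Q)) (r : ℕ), orderOf σ = r → 0 < r →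
      ∀ g : ↥(Cfsg.Geo.quadSimilarityGroup (F := F) ⇑Q), g ∈ I →
        twP σ.1 ((g : GL ι F) : Matrix ι ι F) r = 1 →
        ∃ Y : ↥(Cfsg.Geo.quadSimilarityGroup (F := F) ⇑Q), Y ∈ I ∧
          ((g : GL ι F) : Matrix ι ι F) * (((Y : GL ι F) : Matrix ι ι F)).map σ.1
            = ((Y : GL ι F) : Matrix ι ι F))
    (σ : ↥(compatAut ⇑Q)) {r : ℕ} (hr : 0 < r) (hσ : orderOf σ = r)
    (g : ↥(Cfsg.Geo.quadSimilarityGroup (F := F) ⇑Q)) (hgI : g ∈ I)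
    (hpow : (autPO ⇑Q g * fieldAutPO ⇑Q σ) ^ r = 1) :
    ∃ Y : ↥(Cfsg.Geo.quadSimilarityGroup (F := F) ⇑Q), Y ∈ I ∧
      autPO ⇑Q g * fieldAutPO ⇑Q σ = autPO ⇑Q Y * fieldAutPO ⇑Q σ * (autPO ⇑Q Y)⁻¹ := by
  have hσr : σ ^ r = 1 := by rw [← hσ]; exact pow_orderOf_eq_one σ
  have hσr' : (σ.1 : RingAut F) ^ r = 1 := by
    have := congrArg Subtype.val hσr
    rwa [Subgroup.coe_pow] at this
  have hσ' : orderOf (σ.1 : RingAut F) = r := by rw [← hσ]; exact Subgroup.orderOf_coe σ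
  have h1 : autPO ⇑Q (twG ⇑Q σ g r) = 1 := by
    have := pow_coset ⇑Q σ g r
    rw [hpow, hσr, map_one, mul_one] at this
    exact this.symm
  obtain ⟨l, hl⟩ := (hker _).mp h1
  rw [twG_val] at hl
  have hgu : IsUnit ((g : GL ι F) : Matrix ι ι F) := (g : GL ι F).isUnit
  have hlfix : σ.1 l = l := twP_scalar_fixed σ.1 hσr' _ hgu l hl
  have hl0 : l ≠ 0 := by
    rintro rfl
    rw [zero_smul, ← twG_val] at hl
    have hu : IsUnit (((twG ⇑Q σ g r : ↥(Cfsg.Geo.quadSimilarityGroup (F := F) ⇑Q)) : GL ι F) :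
        Matrix ι ι F) := Units.isUnit _
    rw [hl] at hu
    exact not_isUnit_zero hu
  obtain ⟨c, hc0, hc⟩ := nrmF_surjective σ.1 hσ' hr l⁻¹ (inv_ne_zero hl0)
    (by rw [map_inv₀, hlfix])
  obtain ⟨z, hz⟩ := exists_scalar_sim Q c hc0
  have hzI : z ∈ I := hscal z ⟨c, hz⟩
  have hzg : (((z * g : ↥(Cfsg.Geo.quadSimilarityGroup (F := F) ⇑Q)) : GL ι F) : Matrix ι ι F)
      = c • ((g : GL ι F) : Matrix ι ι F) := by
    rw [Subgroup.coe_mul, Units.val_mul, hz, Matrix.smul_mul, Matrix.one_mul]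
  have htw : twP σ.1 (((z * g : ↥(Cfsg.Geo.quadSimilarityGroup (F := F) ⇑Q)) : GL ι F) :
      Matrix ι ι F) r = 1 := by
    rw [hzg, twP_smul, hc, hl, smul_smul, inv_mul_cancel₀ hl0, one_smul]
  obtain ⟨Y, hYI, hY⟩ := hLang σ r hσ hr (z * g) (I.mul_mem hzI hgI) htw
  have hYeq : z * g * sigmaGO ⇑Q σ Y = Y := by
    apply Subtype.ext
    apply Units.ext
    rw [Subgroup.coe_mul, Units.val_mul]
    exact hY
  have hz1 : autPO ⇑Q z = 1 := (hker z).mpr ⟨c, hz⟩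
  refine ⟨Y, hYI, ?_⟩
  rw [conj_fieldAutPO]
  have : Y * (sigmaGO ⇑Q σ Y)⁻¹ = z * g := mul_inv_eq_iff_eq_mul.mpr hYeq.symm
  rw [this, map_mul, hz1, one_mul]

end Cfsg.Agent.Lib.Helper26.LangGO
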