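import Mathlib
import Cfsg.Agent.Lib.Helper74.MinIdxDefs

/-!
# S2140 keystone K7: `SL_n(F)` (`n ≥ 2`) is transitive on non-zero vectors and 2-transitive on
points (double coset form).  Also general "move by a transvection" lemmas used for K5.
-/

set_option autoImplicit false
set_option linter.unusedSectionVars false
set_option linter.unusedVariables false

namespace Cfsg.Agent.Lib.Helper26.MinIdx

open Matrix Cfsg.Agent.Lib.Helper74.MinIdx

variable {ι : Type*} [Fintype ι] [DecidableEq ι] {F : Type*} [Field F]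

/-- Separation: for `u ∉ S` there is a functional (as a vector, via the dot product) vanishing
on `S` with value `1` at `u`. -/
lemma exists_sep (S : Submodule F (ι → F)) (u : ι → F) (hu : u ∉ S) :
    ∃ φ : ι → F, (∀ x ∈ S, φ ⬝ᵥ x = 0) ∧ φ ⬝ᵥ u = 1 := by
  obtain ⟨f, hfu, hfS⟩ := Submodule.exists_dual_map_eq_bot_of_notMem hu inferInstance
  have hfS' : ∀ x ∈ S, f x = 0 := by
    intro x hx
    have : f x ∈ S.map f := Submodule.mem_map_of_mem hx
    rw [hfS] at this
    simpa using this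
  have key : ∀ x : ι → F,
      (fun i => (f u)⁻¹ * f (fun j => if i = j then 1 else 0)) ⬝ᵥ x = (f u)⁻¹ * f x := by
    intro x
    rw [LinearMap.pi_apply_eq_sum_univ f x, Finset.mul_sum]
    simp only [dotProduct, smul_eq_mul]
    exact Finset.sum_congr rfl fun i _ => by ring
  refine ⟨fun i => (f u)⁻¹ * f (fun j => if i = j then 1 else 0), ?_, ?_⟩
  · intro x hx
    rw [key, hfS' x hx, mul_zero]
  · rw [key, inv_mul_cancel₀ hfu]

lemma not_mem_sup_span_sub (S : Submodule F (ι → F)) (a b : ι → F) (ha : a ∉ S)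
    (hb : b ∉ S ⊔ Submodule.span F {a}) : a ∉ S ⊔ Submodule.span F {b - a} := by
  intro hmem
  obtain ⟨s, hs, y, hy, hsy⟩ := Submodule.mem_sup.mp hmem
  obtain ⟨m, rfl⟩ := Submodule.mem_span_singleton.mp hy
  by_cases hm : m = 0
  · subst hm
    rw [zero_smul, add_zero] at hsy
    exact ha (hsy ▸ hs)
  · apply hb
    have h2 : m • b = (1 + m) • a - s := by
      linear_combination (norm := module) hsy
    have h3 : b = m⁻¹ • ((1 + m) • a - s) := by
      rw [← h2, smul_smul, inv_mul_cancel₀ hm, one_smul]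
    rw [h3]
    apply Submodule.smul_mem
    exact Submodule.sub_mem _
      (Submodule.mem_sup_right (Submodule.smul_mem _ _ (Submodule.mem_span_singleton_self a)))
      (Submodule.mem_sup_left hs)

/-- One-step move: if `a ∉ S ⊔ span {b - a}`, a transvection fixing `S` pointwise maps `a`
to `b`. -/
lemma exists_tv_move (S : Submodule F (ι → F)) (a b : ι → F)
    (ha : a ∉ S ⊔ Submodule.span F {b - a}) :
    ∃ t : SpecialLinearGroup ι F, (∀ x ∈ S, (t : Matrix ι ι F) *ᵥ x = x) ∧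
      (t : Matrix ι ι F) *ᵥ a = b := by
  obtain ⟨φ, hφS, hφa⟩ := exists_sep _ a ha
  have h : φ ⬝ᵥ (b - a) = 0 :=
    hφS _ (Submodule.mem_sup_right (Submodule.mem_span_singleton_self _))
  refine ⟨tv (b - a) φ h, fun x hx => ?_, ?_⟩
  · rw [coe_tv, tvM_mulVec, hφS x (Submodule.mem_sup_left hx), zero_smul, add_zero]
  · rw [coe_tv, tvM_mulVec, hφa, one_smul]; abel

lemma exists_not_mem_span_singleton (hn : 2 ≤ Fintype.card ι) (v : ι → F) :
    ∃ u : ι → F, u ∉ Submodule.span F {v} := by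
  by_contra h
  push Not at h
  have htop : Submodule.span F {v} = ⊤ := eq_top_iff.mpr fun x _ => h x
  have h1 : Module.finrank F (Submodule.span F {v}) ≤ 1 :=
    (finrank_span_le_card ({v} : Set (ι → F))).trans (by simp)
  rw [htop, finrank_top, Module.finrank_fintype_fun_eq_card] at h1
  omega

lemma SL_inv_mulVec_mulVec (g : SpecialLinearGroup ι F) (x : ι → F) :
    ((g⁻¹ : SpecialLinearGroup ι F) : Matrix ι ι F) *ᵥ ((g : Matrix ι ι F) *ᵥ x) = x := by
  rw [Matrix.mulVec_mulVec, ← Matrix.SpecialLinearGroup.coe_mul, inv_mul_cancel,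
    Matrix.SpecialLinearGroup.coe_one, Matrix.one_mulVec]

lemma SL_mulVec_ne_zero (g : SpecialLinearGroup ι F) {x : ι → F} (hx : x ≠ 0) :
    (g : Matrix ι ι F) *ᵥ x ≠ 0 := by
  intro h
  apply hx
  rw [← SL_inv_mulVec_mulVec g x, h, Matrix.mulVec_zero]

/-- K7a: `SL_n` (`n ≥ 2`) is transitive on non-zero vectors. -/
theorem K7_exists_map (hn : 2 ≤ Fintype.card ι) (v w : ι → F) (hv : v ≠ 0) (hw : w ≠ 0) :
    ∃ g : SpecialLinearGroup ι F, (g : Matrix ι ι F) *ᵥ v = w := by
  have hbot : ∀ a : ι → F, a ≠ 0 → a ∉ (⊥ : Submodule F (ι → F)) :=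
    fun a ha h => ha ((Submodule.mem_bot F).mp h)
  by_cases hwv : w ∈ Submodule.span F {v}
  · obtain ⟨u, hu⟩ := exists_not_mem_span_singleton hn v
    have hu0 : u ≠ 0 := by rintro rfl; exact hu (Submodule.zero_mem _)
    obtain ⟨t₁, -, h₁⟩ := exists_tv_move ⊥ v u
      (not_mem_sup_span_sub ⊥ v u (hbot v hv) (by rwa [bot_sup_eq]))
    have hwu : w ∉ Submodule.span F {u} := by
      intro hwu
      obtain ⟨c, rfl⟩ := Submodule.mem_span_singleton.mp hwv
      obtain ⟨d, hd⟩ := Submodule.mem_span_singleton.mp hwu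
      have hd0 : d ≠ 0 := by rintro rfl; rw [zero_smul] at hd; exact hw hd.symm
      apply hu
      have : u = d⁻¹ • (c • v) := by rw [← hd, smul_smul, inv_mul_cancel₀ hd0, one_smul]
      rw [this]
      exact Submodule.smul_mem _ _ (Submodule.smul_mem _ _ (Submodule.mem_span_singleton_self v))
    obtain ⟨t₂, -, h₂⟩ := exists_tv_move ⊥ u w
      (not_mem_sup_span_sub ⊥ u w (hbot u hu0) (by rwa [bot_sup_eq]))
    refine ⟨t₂ * t₁, ?_⟩
    rw [Matrix.SpecialLinearGroup.coe_mul, ← Matrix.mulVec_mulVec, h₁, h₂]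
  · obtain ⟨t, -, ht⟩ := exists_tv_move ⊥ v w
      (not_mem_sup_span_sub ⊥ v w (hbot v hv) (by rwa [bot_sup_eq]))
    exact ⟨t, ht⟩

lemma not_mem_span_of_not_mem_Pst (v : ι → F) (hv : v ≠ 0) (g : SpecialLinearGroup ι F)
    (hg : g ∉ Pst v) : (g : Matrix ι ι F) *ᵥ v ∉ Submodule.span F {v} := by
  intro h
  obtain ⟨c, hc⟩ := Submodule.mem_span_singleton.mp h
  have hc0 : c ≠ 0 := by
    rintro rfl
    rw [zero_smul] at hc
    exact SL_mulVec_ne_zero g hv hc.symm
  exact hg ⟨Units.mk0 c hc0, hc.symm⟩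

/-- an element of `SL` fixing `v` and mapping `w₁` to a non-zero multiple of `w₂`. -/
lemma exists_fix_move (v w₁ w₂ : ι → F) (h₁ : w₁ ∉ Submodule.span F {v})
    (h₂ : w₂ ∉ Submodule.span F {v}) :
    ∃ (a : SpecialLinearGroup ι F) (c : F), c ≠ 0 ∧ (a : Matrix ι ι F) *ᵥ v = v ∧
      (a : Matrix ι ι F) *ᵥ w₁ = c • w₂ := by
  by_cases hI : w₁ ∉ Submodule.span F {v} ⊔ Submodule.span F {w₂ - w₁}
  · obtain ⟨t, htS, ht⟩ := exists_tv_move (Submodule.span F {v}) w₁ w₂ hI
    exact ⟨t, 1, one_ne_zero, htS v (Submodule.mem_span_singleton_self v), by rw [ht, one_smul]⟩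
  · push Not at hI
    obtain ⟨s, hs, y, hy, hsy⟩ := Submodule.mem_sup.mp hI
    obtain ⟨α, rfl⟩ := Submodule.mem_span_singleton.mp hs
    obtain ⟨m, rfl⟩ := Submodule.mem_span_singleton.mp hy
    have h2 : m • w₂ = (1 + m) • w₁ - α • v := by
      linear_combination (norm := module) hsy
    have h1m : 1 + m ≠ 0 := by
      intro h0
      rw [h0, zero_smul, zero_sub] at h2
      have hm : m ≠ 0 := by
        rintro rfl
        rw [add_zero] at h0
        exact one_ne_zero h0
      apply h₂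
      have : w₂ = m⁻¹ • (-(α • v)) := by rw [← h2, smul_smul, inv_mul_cancel₀ hm, one_smul]
      rw [this]
      exact Submodule.smul_mem _ _
        (Submodule.neg_mem _ (Submodule.smul_mem _ _ (Submodule.mem_span_singleton_self v)))
    have hm : m ≠ 0 := by
      rintro rfl
      rw [zero_smul, add_zero] at hsy
      exact h₁ (hsy ▸ Submodule.smul_mem _ _ (Submodule.mem_span_singleton_self v))
    obtain ⟨φ, hφS, hφw⟩ := exists_sep (Submodule.span F {v}) w₁ h₁
    have hφv : φ ⬝ᵥ v = 0 := hφS v (Submodule.mem_span_singleton_self v)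
    set γ : F := -((1 + m)⁻¹ * α) with hγ
    have hγv : (γ • φ) ⬝ᵥ v = 0 := by rw [smul_dotProduct, hφv, smul_zero]
    refine ⟨tv v (γ • φ) hγv, (1 + m)⁻¹ * m, mul_ne_zero (inv_ne_zero h1m) hm, ?_, ?_⟩
    · rw [coe_tv, tvM_mulVec, hγv, zero_smul, add_zero]
    · rw [coe_tv, tvM_mulVec, smul_dotProduct, hφw, ← smul_smul, h2, smul_sub, smul_smul,
        inv_mul_cancel₀ h1m, one_smul, smul_smul, hγ]
      simp only [smul_eq_mul, mul_one, neg_smul]
      abel

/-- K7b: `SL_n` is 2-transitive on points (double coset form). -/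
theorem K7_double_coset (hn : 2 ≤ Fintype.card ι) (v : ι → F) (hv : v ≠ 0)
    (g x : SpecialLinearGroup ι F) (hg : g ∉ Pst v) (hx : x ∉ Pst v) :
    ∃ a ∈ Pst v, ∃ b ∈ Pst v, x = a * g * b := by
  obtain ⟨a, c, hc, hav, haw⟩ := exists_fix_move v _ _ (not_mem_span_of_not_mem_Pst v hv g hg)
    (not_mem_span_of_not_mem_Pst v hv x hx)
  have ha : a ∈ Pst v := ⟨1, by rw [hav, Units.val_one, one_smul]⟩
  have hb : x⁻¹ * a * g ∈ Pst v := by
    refine ⟨Units.mk0 c hc, ?_⟩
    rw [Matrix.SpecialLinearGroup.coe_mul, Matrix.SpecialLinearGroup.coe_mul,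
      ← Matrix.mulVec_mulVec, ← Matrix.mulVec_mulVec, haw, Matrix.mulVec_smul,
      SL_inv_mulVec_mulVec, Units.val_mk0]
  refine ⟨a, ha, (x⁻¹ * a * g)⁻¹, (Pst v).inv_mem hb, ?_⟩
  group

end Cfsg.Agent.Lib.Helper26.MinIdx
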