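import Mathlib
import Cfsg.Agent.Lib.Helper74.MinIdxDefs
import Cfsg.Agent.Lib.Helper26.MinIdxK7

/-!
# S2140 keystone K5: all transvections are conjugate in `SL_n(F)`, `n ≥ 3`.
-/

set_option autoImplicit false
set_option linter.unusedSectionVars false
set_option linter.unusedVariables false

namespace Cfsg.Agent.Lib.Helper26.MinIdx

open Matrix Cfsg.Agent.Lib.Helper74.MinIdx

variable {ι : Type*} [Fintype ι] [DecidableEq ι] {F : Type*} [Field F]

lemma not_mem_span_sub {a b : ι → F} (ha : a ≠ 0) (hb : b ∉ Submodule.span F {a}) :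
    a ∉ Submodule.span F {b - a} := by
  have := not_mem_sup_span_sub (⊥ : Submodule F (ι → F)) a b
    (fun h => ha ((Submodule.mem_bot F).mp h)) (by rwa [bot_sup_eq])
  rwa [bot_sup_eq] at this

lemma not_mem_span_symm {a b : ι → F} (ha : a ≠ 0) (hb : b ∉ Submodule.span F {a}) :
    a ∉ Submodule.span F {b} := by
  intro h
  obtain ⟨m, hm⟩ := Submodule.mem_span_singleton.mp h
  have hm0 : m ≠ 0 := by rintro rfl; rw [zero_smul] at hm; exact ha hm.symm
  apply hb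
  have : b = m⁻¹ • a := by rw [← hm, smul_smul, inv_mul_cancel₀ hm0, one_smul]
  rw [this]
  exact Submodule.smul_mem _ _ (Submodule.mem_span_singleton_self a)

/-- dual one-step move. -/
lemma exists_dual_move (v ψ φ' : ι → F) (hψ : ψ ⬝ᵥ v = 0) (hφ' : φ' ⬝ᵥ v = 0)
    (hind : φ' ∉ Submodule.span F {ψ - φ'}) :
    ∃ y : SpecialLinearGroup ι F, (y : Matrix ι ι F) *ᵥ v = v ∧
      ψ ᵥ* ((y⁻¹ : SpecialLinearGroup ι F) : Matrix ι ι F) = φ' := by
  obtain ⟨u, huS, huφ⟩ := exists_sep _ φ' hind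
  have h : (ψ - φ') ⬝ᵥ u = 0 := by
    rw [dotProduct_comm]; exact huS _ (Submodule.mem_span_singleton_self _)
  have hφu : φ' ⬝ᵥ u = 1 := by rw [dotProduct_comm]; exact huφ
  have hψu : ψ ⬝ᵥ u = 1 := by
    have : ψ = (ψ - φ') + φ' := by abel
    rw [this, add_dotProduct, h, hφu, zero_add]
  refine ⟨tv u (ψ - φ') h, ?_, ?_⟩
  · rw [coe_tv, tvM_mulVec, sub_dotProduct, hψ, hφ', sub_zero, zero_smul, add_zero]
  · rw [tv_inv, coe_tv, vecMul_tvM, hψu, one_smul]; abel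

/-- existence of a functional vanishing at `v` outside a given line (`n ≥ 3`). -/
lemma exists_dual_not_mem_span (hn : 3 ≤ Fintype.card ι) (v φ' : ι → F) :
    ∃ θ : ι → F, θ ⬝ᵥ v = 0 ∧ θ ∉ Submodule.span F {φ'} := by
  let f : (ι → F) →ₗ[F] F :=
    { toFun := fun θ => θ ⬝ᵥ v
      map_add' := fun a b => add_dotProduct a b v
      map_smul' := fun c a => by simp [smul_dotProduct] }
  by_contra hcon
  push Not at hcon
  have hle : LinearMap.ker f ≤ Submodule.span F {φ'} := fun θ hθ => hcon θ (LinearMap.mem_ker.mp hθ)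
  have h1 : Module.finrank F (Submodule.span F {φ'}) ≤ 1 :=
    (finrank_span_le_card ({φ'} : Set (ι → F))).trans (by simp)
  have h2 := Submodule.finrank_mono hle
  have h3 := LinearMap.finrank_range_add_finrank_ker f
  rw [Module.finrank_fintype_fun_eq_card] at h3
  have h4 : Module.finrank F (LinearMap.range f) ≤ 1 := by
    have := Submodule.finrank_le (LinearMap.range f)
    rwa [Module.finrank_self] at this
  omega

/-- dual move, `n ≥ 3`: the stabiliser of `v` in `SL` is transitive on the non-zero functionals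
vanishing at `v`. -/
lemma exists_dual_move' (hn : 3 ≤ Fintype.card ι) (v ψ φ' : ι → F) (hψ : ψ ⬝ᵥ v = 0)
    (hφ' : φ' ⬝ᵥ v = 0) (hψ0 : ψ ≠ 0) (hφ0 : φ' ≠ 0) :
    ∃ y : SpecialLinearGroup ι F, (y : Matrix ι ι F) *ᵥ v = v ∧
      ψ ᵥ* ((y⁻¹ : SpecialLinearGroup ι F) : Matrix ι ι F) = φ' := by
  by_cases hdep : ψ ∈ Submodule.span F {φ'}
  · obtain ⟨θ, hθv, hθ⟩ := exists_dual_not_mem_span hn v φ'
    have hθ0 : θ ≠ 0 := by rintro rfl; exact hθ (Submodule.zero_mem _)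
    have hθψ : θ ∉ Submodule.span F {ψ} := by
      intro h
      apply hθ
      obtain ⟨m, rfl⟩ := Submodule.mem_span_singleton.mp h
      exact Submodule.smul_mem _ _ hdep
    obtain ⟨y₁, hy₁v, hy₁⟩ := exists_dual_move v ψ θ hψ hθv
      (not_mem_span_sub hθ0 (not_mem_span_symm hψ0 hθψ))
    obtain ⟨y₂, hy₂v, hy₂⟩ := exists_dual_move v θ φ' hθv hφ' (not_mem_span_sub hφ0 hθ)
    refine ⟨y₂ * y₁, ?_, ?_⟩
    · rw [Matrix.SpecialLinearGroup.coe_mul, ← Matrix.mulVec_mulVec, hy₁v, hy₂v]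
    · rw [_root_.mul_inv_rev, Matrix.SpecialLinearGroup.coe_mul, ← Matrix.vecMul_vecMul, hy₁, hy₂]
  · exact exists_dual_move v ψ φ' hψ hφ' (not_mem_span_sub hφ0 hdep)

/-- K5: all transvections are conjugate in `SL_n`, `n ≥ 3`. -/
theorem K5_conj (hn : 3 ≤ Fintype.card ι) (g g' : SpecialLinearGroup ι F)
    (hg : IsTv g) (hg' : IsTv g') : ∃ x : SpecialLinearGroup ι F, x * g * x⁻¹ = g' := by
  obtain ⟨v, φ, h, hv, hφ, rfl⟩ := hg
  obtain ⟨v', φ', h', hv', hφ', rfl⟩ := hg'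
  obtain ⟨x₁, hx₁⟩ := K7_exists_map (by omega) v v' hv hv'
  set ψ : ι → F := φ ᵥ* ((x₁⁻¹ : SpecialLinearGroup ι F) : Matrix ι ι F) with hψdef
  have hψv : ψ ⬝ᵥ v' = 0 := by rw [← hx₁, hψdef, conj_dot, h]
  have hBA : ((x₁⁻¹ : SpecialLinearGroup ι F) : Matrix ι ι F) * (x₁ : Matrix ι ι F) = 1 := by
    rw [← Matrix.SpecialLinearGroup.coe_mul, inv_mul_cancel, Matrix.SpecialLinearGroup.coe_one]
  have hψ0 : ψ ≠ 0 := by
    intro h0
    apply hφ
    have : ψ ᵥ* (x₁ : Matrix ι ι F) = φ := by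
      rw [hψdef, Matrix.vecMul_vecMul, hBA, Matrix.vecMul_one]
    rw [← this, h0, Matrix.zero_vecMul]
  obtain ⟨y, hyv, hy⟩ := exists_dual_move' hn v' ψ φ' hψv h' hψ0 hφ'
  refine ⟨y * x₁, ?_⟩
  apply Subtype.ext
  have hAB₁ : (x₁ : Matrix ι ι F) * ((x₁⁻¹ : SpecialLinearGroup ι F) : Matrix ι ι F) = 1 := by
    rw [← Matrix.SpecialLinearGroup.coe_mul, mul_inv_cancel, Matrix.SpecialLinearGroup.coe_one]
  have hAB₂ : (y : Matrix ι ι F) * ((y⁻¹ : SpecialLinearGroup ι F) : Matrix ι ι F) = 1 := by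
    rw [← Matrix.SpecialLinearGroup.coe_mul, mul_inv_cancel, Matrix.SpecialLinearGroup.coe_one]
  rw [_root_.mul_inv_rev]
  simp only [Matrix.SpecialLinearGroup.coe_mul, coe_tv]
  calc (y : Matrix ι ι F) * (x₁ : Matrix ι ι F) * tvM v φ *
        (((x₁⁻¹ : SpecialLinearGroup ι F) : Matrix ι ι F) *
          ((y⁻¹ : SpecialLinearGroup ι F) : Matrix ι ι F))
      = (y : Matrix ι ι F) * ((x₁ : Matrix ι ι F) * tvM v φ *
        ((x₁⁻¹ : SpecialLinearGroup ι F) : Matrix ι ι F)) *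
          ((y⁻¹ : SpecialLinearGroup ι F) : Matrix ι ι F) := by
        simp only [Matrix.mul_assoc]
    _ = tvM v' φ' := by
        rw [mul_tvM_mul _ _ hAB₁, hx₁, mul_tvM_mul _ _ hAB₂, hyv, ← hψdef, hy]

end Cfsg.Agent.Lib.Helper26.MinIdx
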