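import Mathlib
import Cfsg.Agent.Lib.Helper72.OQFDefs2
import Cfsg.Agent.Lib.Helper26.OQFB

/-!
# K-OQF-Bm (keystone 597724, S5978 pack of helper72): the arithmetic of `4 |GO⁻_{2d}(q)| / |GO(⟨1,…,1,c⟩)(q²)|`
(twin of `OQFB.arith`)
-/

set_option autoImplicit false
set_option linter.unusedVariables false

namespace Cfsg.Agent.Lib.Helper26.OQF

open Cfsg.Agent.Lib.Helper72.OQF

theorem four_gOminus_even (q k : ℕ) :
    4 * gOminus q (2 * (k + 1)) = oDotM q (2 * (k + 1)) *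
      (4 * q ^ (2 * (k + 1) ^ 2) * ∏ i ∈ Finset.range (k + 1), (q ^ (2 * (2 * i + 1)) - 1)) := by
  unfold oDotM gOminus
  rw [if_pos (even_two_mul _), Nat.mul_div_cancel_left _ (by norm_num : 0 < 2)]
  have h1 : 2 * (k + 1) - 1 = 2 * k + 1 := by omega
  have h2 : k + 1 - 1 = k := by omega
  rw [h1, h2, prod_split_odd (fun t => q ^ (2 * t) - 1) k]
  have h3 : ∀ i, (q ^ 2) ^ (2 * (i + 1)) = q ^ (2 * (2 * i + 2)) := fun i => by
    rw [← pow_mul]; ring_nf
  simp only [h3]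
  have h4 : (q ^ 2) ^ (k + 1) = q ^ (2 * (k + 1)) := by rw [← pow_mul]
  have h5 : (q ^ 2) ^ ((k + 1) * k) = q ^ (2 * ((k + 1) * k)) := by rw [← pow_mul]
  have h6 : q ^ (2 * (k + 1) * (2 * k + 1)) = q ^ (2 * ((k + 1) * k)) * q ^ (2 * (k + 1) ^ 2) := by
    rw [← pow_add]; ring_nf
  rw [h4, h5, h6]
  ring

theorem four_gOminus_odd (q m : ℕ) :
    4 * gOminus q (2 * m + 1) = oDotM q (2 * m + 1) *
      (4 * q ^ (2 * m ^ 2 + 2 * m) * (q ^ (2 * m + 1) + 1) *
        ∏ i ∈ Finset.range m, (q ^ (2 * (2 * i + 1)) - 1)) := by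
  unfold oDotM gOminus gOodd
  rw [if_neg (Nat.not_even_iff_odd.mpr (odd_two_mul_add_one m))]
  have h0 : (2 * m + 1) / 2 = m := by omega
  have h1 : 2 * m + 1 - 1 = 2 * m := by omega
  rw [h0, h1, prod_split_even (fun t => q ^ (2 * t) - 1) m]
  have h3 : ∀ i, (q ^ 2) ^ (2 * (i + 1)) = q ^ (2 * (2 * i + 2)) := fun i => by
    rw [← pow_mul]; ring_nf
  simp only [h3]
  have h5 : (q ^ 2) ^ (m ^ 2) = q ^ (2 * m ^ 2) := by rw [← pow_mul]
  have h6 : q ^ ((2 * m + 1) * (2 * m)) = q ^ (2 * m ^ 2) * q ^ (2 * m ^ 2 + 2 * m) := by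
    rw [← pow_add]; ring_nf
  rw [h5, h6]
  ring

theorem oDotM_pos (q d : ℕ) (hq : 2 ≤ q) (hd : 2 ≤ d) : 0 < oDotM q d := by
  have hq2 : 2 ≤ q ^ 2 := by nlinarith
  unfold oDotM
  split_ifs with hev
  · unfold gOminus
    refine Nat.mul_pos (Nat.mul_pos (Nat.mul_pos (by norm_num) (pow_pos (by omega) _))
      (Nat.succ_pos _)) (Finset.prod_pos fun i _ => sub_one_pos _ hq2 _ (by omega))
  · unfold gOodd
    refine Nat.mul_pos (Nat.mul_pos (by norm_num) (pow_pos (by omega) _))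
      (Finset.prod_pos fun i _ => sub_one_pos _ hq2 _ (by omega))

/-- **K-OQF-Bm** -/
theorem arith_minus (q d N r : ℕ) (hq : 2 ≤ q) (hodd : Odd q) (hd : 2 ≤ d) [Fact r.Prime] (hr2 : r ≠ 2)
    (hrq : ¬ r ∣ q)
    (hN : N * oDotM q d ∣ 4 * gOminus q d) (hrN : r ∣ N) :
    (Odd (orderOf (q : ZMod r)) ∧ orderOf (q : ZMod r) + 1 ≤ d) ∨
    (orderOf (q : ZMod r) % 4 = 2 ∧ orderOf (q : ZMod r) ≤ 2 * d) := by
  have hr : r.Prime := Fact.out
  have hr4 : ¬ r ∣ 4 := by
    intro h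
    have h1 : r ∣ 2 ^ 2 := by norm_num; exact h
    exact hr2 ((Nat.prime_dvd_prime_iff_eq hr Nat.prime_two).mp (hr.dvd_of_dvd_pow h1))
  have key : ∀ j, Odd j → j + 1 ≤ d → r ∣ q ^ (2 * j) - 1 →
      (Odd (orderOf (q : ZMod r)) ∧ orderOf (q : ZMod r) + 1 ≤ d) ∨
      (orderOf (q : ZMod r) % 4 = 2 ∧ orderOf (q : ZMod r) ≤ 2 * d) := by
    intro j hj hjd hdvd
    have hpow := pow_eq_one_of_dvd q r (2 * j) (by omega) hdvd
    have hdv : orderOf (q : ZMod r) ∣ 2 * j := orderOf_dvd_of_pow_eq_one hpow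
    have hj0 : 0 < j := hj.pos
    rcases Nat.even_or_odd (orderOf (q : ZMod r)) with he | he
    · right
      obtain ⟨e', he'⟩ := he
      rw [he'] at hdv ⊢
      have h1 : e' ∣ j := by
        have : 2 * e' ∣ 2 * j := by rwa [two_mul]
        exact Nat.dvd_of_mul_dvd_mul_left (by norm_num) this
      have h2 : Odd e' := Odd.of_dvd_nat hj h1
      have h3 : e' ≤ j := Nat.le_of_dvd hj0 h1
      obtain ⟨t, rfl⟩ := h2
      constructor <;> omega
    · left
      have h1 : orderOf (q : ZMod r) ∣ j :=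
        Nat.Coprime.dvd_of_dvd_mul_left (Nat.coprime_two_right.mpr he) hdv
      exact ⟨he, by have := Nat.le_of_dvd hj0 h1; omega⟩
  rcases Nat.even_or_odd' d with ⟨m, rfl | rfl⟩
  · obtain ⟨k, rfl⟩ : ∃ k, m = k + 1 := ⟨m - 1, by omega⟩
    rw [four_gOminus_even q k, mul_comm N] at hN
    have hNC := Nat.dvd_of_mul_dvd_mul_left (oDotM_pos q _ hq hd) hN
    have hrC := hrN.trans hNC
    rcases hr.dvd_mul.mp hrC with h | h
    · rcases hr.dvd_mul.mp h with h | h
      · exact absurd h hr4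
      · exact absurd (hr.dvd_of_dvd_pow h) hrq
    · obtain ⟨i, hi, hdvd⟩ := (Prime.dvd_finsetProd_iff hr.prime _).mp h
      have := Finset.mem_range.mp hi
      exact key (2 * i + 1) (odd_two_mul_add_one i) (by omega) hdvd
  · rw [four_gOminus_odd q m, mul_comm N] at hN
    have hNC := Nat.dvd_of_mul_dvd_mul_left (oDotM_pos q _ hq hd) hN
    have hrC := hrN.trans hNC
    rcases hr.dvd_mul.mp hrC with h | h
    · rcases hr.dvd_mul.mp h with h | h
      · rcases hr.dvd_mul.mp h with h | h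
        · exact absurd h hr4
        · exact absurd (hr.dvd_of_dvd_pow h) hrq
      · right
        -- `q ^ d = -1` in `ZMod r`
        have h0 := (ZMod.natCast_eq_zero_iff _ r).mpr h
        rw [Nat.cast_add, Nat.cast_pow, Nat.cast_one] at h0
        have hneg : (q : ZMod r) ^ (2 * m + 1) = -1 := eq_neg_of_add_eq_zero_left h0
        have hsq : (q : ZMod r) ^ (2 * (2 * m + 1)) = 1 := by
          rw [mul_comm, pow_mul, hneg]; norm_num
        have hdv : orderOf (q : ZMod r) ∣ 2 * (2 * m + 1) := orderOf_dvd_of_pow_eq_one hsq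
        have hle : orderOf (q : ZMod r) ≤ 2 * (2 * m + 1) := Nat.le_of_dvd (by omega) hdv
        rcases Nat.even_or_odd (orderOf (q : ZMod r)) with he | he
        · obtain ⟨e', he'⟩ := he
          rw [he'] at hdv hle ⊢
          have h1 : e' ∣ 2 * m + 1 := by
            have : 2 * e' ∣ 2 * (2 * m + 1) := by rwa [two_mul]
            exact Nat.dvd_of_mul_dvd_mul_left (by norm_num) this
          have h2 : Odd e' := Odd.of_dvd_nat (odd_two_mul_add_one m) h1
          obtain ⟨t, rfl⟩ := h2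
          constructor <;> omega
        · exfalso
          have h1 : orderOf (q : ZMod r) ∣ 2 * m + 1 :=
            Nat.Coprime.dvd_of_dvd_mul_left (Nat.coprime_two_right.mpr he) hdv
          have h2 : (q : ZMod r) ^ (2 * m + 1) = 1 := orderOf_dvd_iff_pow_eq_one.mp h1
          rw [hneg] at h2
          have h3 : ((2 : ℕ) : ZMod r) = 0 := by
            have : (1 : ZMod r) + 1 = 0 := by
              nth_rewrite 1 [← h2]; ring
            rw [Nat.cast_ofNat, ← one_add_one_eq_two]; exact this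
          have h4 := (ZMod.natCast_eq_zero_iff 2 r).mp h3
          exact hr2 ((Nat.prime_dvd_prime_iff_eq hr Nat.prime_two).mp h4)
    · obtain ⟨i, hi, hdvd⟩ := (Prime.dvd_finsetProd_iff hr.prime _).mp h
      have := Finset.mem_range.mp hi
      exact key (2 * i + 1) (odd_two_mul_add_one i) (by omega) hdvd

end Cfsg.Agent.Lib.Helper26.OQF
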