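import Cfsg.Agent.Lib.Helper14.OsElC
import Cfsg.Agent.Lib.Helper05.OsElB
import Cfsg.Agent.Lib.Helper98.Oh0

/-!
# K-OTs-TB2 (keystone 597332, S5973/S5987 TWO sub-pack of helper50): an isometry `y` with `y * y = -1`,
`-1` a non-square: invariant totally singular subspaces of every even dimension `2k ≤ d`.
-/

set_option autoImplicit false
set_option linter.unusedVariables false
set_option linter.unusedSectionVars false

namespace Cfsg.Agent.Lib.Helper26.OTs

open Module Cfsg.Agent.Lib.Helper98.Elus Cfsg.Agent.Lib.Helper98.Sy Cfsg.Agent.Lib.Helper98.Oh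

universe u
variable {F : Type u} [Field F] {V : Type u} [AddCommGroup V] [Module F V]

theorem sq_add_sq_eq_zero (hm1 : ¬ IsSquare (-1 : F)) (a b : F) (h : a * a + b * b = 0) :
    a = 0 ∧ b = 0 := by
  by_cases hb : b = 0
  · subst hb
    rw [mul_zero, add_zero] at h
    exact ⟨mul_self_eq_zero.mp h, rfl⟩
  · exfalso
    apply hm1
    refine ⟨a / b, ?_⟩
    field_simp
    linear_combination -h

theorem ts_step [Fintype F] [FiniteDimensional F V] {B : LinearMap.BilinForm F V}
    (hS : ∀ x y, B x y = B y x) (h2 : (2 : F) ≠ 0) (hm1 : ¬ IsSquare (-1 : F)) (hV : NonDeg B ⊤)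
    (y : V →ₗ[F] V) (hy : y * y = -1) (hiso : Iso B y) (d : ℕ) (hd : finrank F V = 2 * d)
    (k : ℕ) (hk : 2 * k + 2 ≤ d)
    (Z : Submodule F V) (hZi : Inv y Z) (hZo : Ort B Z Z) (hZd : finrank F Z = 2 * k) :
    ∃ W : Submodule F V, Inv y W ∧ Ort B W W ∧ finrank F W = 2 * k + 2 := by
  have hR := Cfsg.Agent.Lib.Helper98.Os.isRefl_of_symm hS
  have hyy : ∀ v, y (y v) = -v := fun v => by
    have := LinearMap.congr_fun hy v
    simpa using this
  set Z' := B.orthogonal Z with hZ'
  have hZZ' : Z ≤ Z' := by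
    intro z hz
    rw [hZ', LinearMap.BilinForm.mem_orthogonal_iff]
    intro n hn
    exact hZo n hn z hz
  have hdZ' : finrank F Z' = 2 * d - 2 * k := by
    have := Cfsg.Agent.Lib.Helper05.OsEl.finrank_add_orth_refl hR hV Z
    rw [← hZ'] at this
    omega
  have hZ'' : B.orthogonal Z' = Z := by
    symm
    apply Submodule.eq_of_le_of_finrank_eq
    · intro z hz
      rw [LinearMap.BilinForm.mem_orthogonal_iff]
      intro n hn
      show B n z = 0
      rw [hS]
      exact LinearMap.BilinForm.mem_orthogonal_iff.mp hn z hz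
    · have := Cfsg.Agent.Lib.Helper05.OsEl.finrank_add_orth_refl hR hV Z'
      omega
  obtain ⟨C, hC⟩ := Submodule.exists_isCompl Z
  set U := C ⊓ Z' with hU
  have hUZ : U ⊓ Z = ⊥ := by
    rw [eq_bot_iff, ← hC.inf_eq_bot]
    exact le_inf inf_le_right (inf_le_left.trans inf_le_left)
  have hUZ' : U ⊔ Z = Z' := by
    rw [hU, sup_comm, ← sup_inf_assoc_of_le C hZZ', hC.sup_eq_top, top_inf_eq]
  have hdU : finrank F U = 2 * d - 4 * k := by
    have := Submodule.finrank_sup_add_finrank_inf_eq U Z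
    rw [hUZ', hUZ, finrank_bot] at this
    omega
  have hUle : U ≤ Z' := inf_le_right
  have hUnd : NonDeg B U := by
    intro u hu hu'
    have h1 : u ∈ B.orthogonal Z' := by
      rw [LinearMap.BilinForm.mem_orthogonal_iff]
      intro n hn
      show B n u = 0
      rw [← hUZ'] at hn
      obtain ⟨u', hu'U, z, hz, rfl⟩ := Submodule.mem_sup.mp hn
      rw [map_add, LinearMap.add_apply, hS u' u, hu' u' hu'U, zero_add]
      exact LinearMap.BilinForm.mem_orthogonal_iff.mp (hUle hu) z hz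
    rw [hZ''] at h1
    have h3 : u ∈ U ⊓ Z := ⟨hu, h1⟩
    rw [hUZ] at h3
    exact (Submodule.mem_bot F).mp h3
  obtain ⟨Z1, hZ1U, hZ1o, hZ1d⟩ :=
    Cfsg.Agent.Lib.Helper14.OsEl.exists_ts_symm hS h2 1 U hUnd (by omega)
  obtain ⟨v, hvZ1, hv0⟩ : ∃ v ∈ Z1, v ≠ 0 := by
    have : Z1 ≠ ⊥ := by
      intro h
      rw [h, finrank_bot] at hZ1d
      omega
    exact Submodule.exists_mem_ne_zero_of_ne_bot this
  have hvU : v ∈ U := hZ1U hvZ1
  have hvZ' : v ∈ Z' := hUle hvU
  have hvv : B v v = 0 := hZ1o v hvZ1 v hvZ1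
  have hvyv : B v (y v) = 0 := by
    have h1 : B v (y v) = - B v (y v) := by
      calc B v (y v) = B (y v) (y (y v)) := (hiso _ _).symm
        _ = - B (y v) v := by rw [hyy, map_neg]
        _ = - B v (y v) := by rw [hS]
    have h3 : (2 : F) * B v (y v) = 0 := by linear_combination h1
    exact (mul_eq_zero.mp h3).resolve_left h2
  have hyvv : B (y v) v = 0 := by rw [hS, hvyv]
  have hyvyv : B (y v) (y v) = 0 := by rw [hiso, hvv]
  have hZv : ∀ z ∈ Z, B z v = 0 := fun z hz =>
    LinearMap.BilinForm.mem_orthogonal_iff.mp hvZ' z hz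
  have hZyv : ∀ z ∈ Z, B z (y v) = 0 := fun z hz => by
    have h1 : B z (y v) = - B (y z) v := by
      calc B z (y v) = B (y z) (y (y v)) := (hiso _ _).symm
        _ = - B (y z) v := by rw [hyy, map_neg]
    rw [h1, hZv _ (hZi z hz), neg_zero]
  have key : ∀ a b : F, a • v + b • y v ∈ Z → a = 0 ∧ b = 0 := by
    intro a b hab
    have h1 : y (a • v + b • y v) ∈ Z := hZi _ hab
    rw [map_add, map_smul, map_smul, hyy] at h1
    have h3 : (a * a + b * b) • v ∈ Z := by
      have h4 : (a * a + b * b) • v = a • (a • v + b • y v) - b • (a • y v + b • -v) := by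
        module
      rw [h4]
      exact Z.sub_mem (Z.smul_mem a hab) (Z.smul_mem b h1)
    by_contra hne
    have hne' : a * a + b * b ≠ 0 := fun h => hne (sq_add_sq_eq_zero hm1 a b h)
    have hvZ : v ∈ Z := by
      have := Z.smul_mem (a * a + b * b)⁻¹ h3
      rwa [smul_smul, inv_mul_cancel₀ hne', one_smul] at this
    have h5 : v ∈ U ⊓ Z := ⟨hvU, hvZ⟩
    rw [hUZ] at h5
    exact hv0 ((Submodule.mem_bot F).mp h5)
  set P := Submodule.span F {v, y v} with hP
  have hPmem : ∀ x, x ∈ P ↔ ∃ a b : F, a • v + b • y v = x := fun x => Submodule.mem_span_pair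
  have hPi : Inv y P := by
    intro x hx
    obtain ⟨a, b, rfl⟩ := (hPmem _).mp hx
    rw [hPmem]
    refine ⟨-b, a, ?_⟩
    rw [map_add, map_smul, map_smul, hyy]
    module
  have hPo : Ort B P P := by
    intro x hx x' hx'
    obtain ⟨a, b, rfl⟩ := (hPmem _).mp hx
    obtain ⟨a', b', rfl⟩ := (hPmem _).mp hx'
    simp only [map_add, map_smul, LinearMap.add_apply, LinearMap.smul_apply, smul_eq_mul,
      hvv, hvyv, hyvv, hyvyv, mul_zero, add_zero]
  have hZP : Ort B Z P := by
    intro z hz x hx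
    obtain ⟨a, b, rfl⟩ := (hPmem _).mp hx
    simp only [map_add, map_smul, smul_eq_mul, hZv z hz, hZyv z hz, mul_zero, add_zero]
  have hZPbot : Z ⊓ P = ⊥ := by
    rw [eq_bot_iff]
    rintro x ⟨hxZ, hxP⟩
    obtain ⟨a, b, rfl⟩ := (hPmem _).mp hxP
    obtain ⟨rfl, rfl⟩ := key a b hxZ
    simp
  have hPd : finrank F P = 2 := by
    have hli : LinearIndependent F ![v, y v] := by
      rw [LinearIndependent.pair_iff]
      intro s t hst
      exact key s t (by rw [hst]; exact Z.zero_mem)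
    have := finrank_span_eq_card hli
    rw [Fintype.card_fin] at this
    have h6 : Set.range ![v, y v] = {v, y v} := by
      ext x
      simp only [Matrix.range_cons, Matrix.range_empty, Set.union_empty, Set.mem_union,
        Set.mem_singleton_iff, Set.mem_insert_iff]
    rw [h6] at this
    rw [hP, this]
  refine ⟨Z ⊔ P, ?_, ?_, ?_⟩
  · intro w hw
    obtain ⟨z, hz, p, hp, rfl⟩ := Submodule.mem_sup.mp hw
    rw [map_add]
    exact Submodule.add_mem_sup (hZi z hz) (hPi p hp)
  · exact Cfsg.Agent.Lib.Helper05.OsEl.ort_sup_self hR Z P hZo hPo hZP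
  · have := Submodule.finrank_sup_add_finrank_inf_eq Z P
    rw [hZPbot, finrank_bot] at this
    omega

theorem exists_fixed_ts_sq_neg_one_of_even [Fintype F] [FiniteDimensional F V]
    {B : LinearMap.BilinForm F V}
    (hS : ∀ x y, B x y = B y x) (h2 : (2 : F) ≠ 0) (hm1 : ¬ IsSquare (-1 : F)) (hV : NonDeg B ⊤)
    (y : V →ₗ[F] V)
    (hy : y * y = -1) (hiso : Iso B y) (d : ℕ) (hd : finrank F V = 2 * d) :
    ∀ k : ℕ, 2 * k ≤ d → ∃ W : Submodule F V, Inv y W ∧ Ort B W W ∧ finrank F W = 2 * k := by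
  intro k
  induction k with
  | zero =>
    intro _
    refine ⟨⊥, ?_, ?_, by simp⟩
    · intro v hv
      rw [(Submodule.mem_bot F).mp hv, map_zero]
      exact Submodule.zero_mem _
    · intro u hu v _
      rw [(Submodule.mem_bot F).mp hu, map_zero, LinearMap.zero_apply]
  | succ k ih =>
    intro hk
    obtain ⟨Z, hZi, hZo, hZd⟩ := ih (by omega)
    obtain ⟨W, h1, h2', h3⟩ := ts_step hS h2 hm1 hV y hy hiso d hd k (by omega) Z hZi hZo hZd
    exact ⟨W, h1, h2', by rw [h3]; ring⟩

end Cfsg.Agent.Lib.Helper26.OTs
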