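/-
Keystone K-Om-E (id 599401, architect helper32): the elliptic pair of odd blocks
(variant of `Cfsg.Agent.Lib.Helper26.Os.isSymmModel_odd_odd`).
-/
import Cfsg.Agent.Lib.Helper26.OsD

set_option autoImplicit false
set_option linter.unusedVariables false

namespace Cfsg.Agent.Lib.Helper26.Om

open Module Cfsg.Agent.Lib.Helper98.Sy Cfsg.Agent.Lib.Helper75.Nd Cfsg.Agent.Lib.Helper26.Os

universe u
variable {F : Type u} [Field F]

/-- pairing with a unit vector reads off a coordinate -/
theorem blockForm_single (n : ℕ) (x : Fin (n + 1) → F) (i : Fin (n + 1)) :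
    blockForm n x (Pi.single (Fin.rev i) 1) = (-1 : F) ^ (i : ℕ) * x i := by
  classical
  rw [blockForm_apply, Finset.sum_eq_single i]
  · rw [Pi.single_eq_same, mul_one]
  · intro j _ hj
    have : Fin.rev j ≠ Fin.rev i := fun h => hj (Fin.rev_injective h)
    rw [Pi.single_eq_of_ne this, mul_zero]
  · intro h
    exact absurd (Finset.mem_univ _) h

/-- unit vectors above the middle lie in `ker (shift ^ k)` -/
theorem single_rev_mem_ker (k : ℕ) (i : Fin (2 * k + 1)) (hi : (i : ℕ) < k) :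
    (Pi.single (Fin.rev i) 1 : Fin (2 * k + 1) → F) ∈
      LinearMap.ker ((shift (2 * k) : (Fin (2 * k + 1) → F) →ₗ[F] _) ^ k) := by
  classical
  rw [LinearMap.mem_ker, shift_pow_eq_zero_iff]
  intro j hj
  have hne : j ≠ Fin.rev i := by
    intro h
    have h1 : (j : ℕ) = 2 * k + 1 - ((i : ℕ) + 1) := by rw [h, Fin.val_rev]
    omega
  rw [Pi.single_eq_of_ne hne]

theorem exists_elliptic_pair_model {p : ℕ} (ζ : F) (hζ : ¬ IsSquare ζ) (k k' : ℕ)
    (hap : 2 * k + 1 ≤ p) (hap' : 2 * k' + 1 ≤ p) :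
    ∃ (V : Type u) (_ : AddCommGroup V) (_ : Module F V) (_ : FiniteDimensional F V)
      (B : LinearMap.BilinForm F V) (M : V →ₗ[F] V) (X : Submodule F V),
      (∀ x y, B x y = B y x) ∧ NonDeg B ⊤ ∧ (∀ x y, B (M x) y = - B x (M y)) ∧ M ^ p = 0 ∧
      (∀ j : ℕ, finrank F (LinearMap.ker (M ^ j)) = min (2 * k + 1) j + min (2 * k' + 1) j) ∧
      (∀ x ∈ X, B x x = 0) ∧ finrank F X = k + k' ∧
      (∀ v, (∀ x ∈ X, B v x = 0) → B v v = 0 → v ∈ X) := by
  classical
  have hζ0 : ζ ≠ 0 := by
    rintro rfl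
    exact hζ ⟨0, by simp⟩
  have hm1 : ((-1 : F) ^ k) ≠ 0 := pow_ne_zero _ (neg_ne_zero.mpr one_ne_zero)
  have hm1' : ((-1 : F) ^ k') ≠ 0 := pow_ne_zero _ (neg_ne_zero.mpr one_ne_zero)
  have hc : ((-1 : F) ^ k) ≠ 0 := hm1
  have hc' : (-ζ * (-1 : F) ^ k') ≠ 0 := mul_ne_zero (neg_ne_zero.mpr hζ0) hm1'
  obtain ⟨a1, n1, s1⟩ := scaled_block_props (F := F) k ((-1 : F) ^ k) hc
  obtain ⟨a2, n2, s2⟩ := scaled_block_props (F := F) k' (-ζ * (-1 : F) ^ k') hc'
  set B₁ : LinearMap.BilinForm F (Fin (2 * k + 1) → F) := ((-1 : F) ^ k) • blockForm (2 * k)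
    with hB₁
  set B₂ : LinearMap.BilinForm F (Fin (2 * k' + 1) → F) :=
    (-ζ * (-1 : F) ^ k') • blockForm (2 * k') with hB₂
  set K₁ : Submodule F (Fin (2 * k + 1) → F) :=
    LinearMap.ker ((shift (2 * k) : (Fin (2 * k + 1) → F) →ₗ[F] _) ^ k) with hK₁
  set K₂ : Submodule F (Fin (2 * k' + 1) → F) :=
    LinearMap.ker ((shift (2 * k') : (Fin (2 * k' + 1) → F) →ₗ[F] _) ^ k') with hK₂
  have e1 : (-1 : F) ^ k * (-1) ^ k = 1 := by
    rw [← pow_add, ← two_mul, pow_mul]; simp
  have e2 : (-1 : F) ^ k' * (-1) ^ k' = 1 := by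
    rw [← pow_add, ← two_mul, pow_mul]; simp
  refine ⟨(Fin (2 * k + 1) → F) × (Fin (2 * k' + 1) → F), inferInstance, inferInstance,
    inferInstance, prodForm B₁ B₂, (shift (2 * k)).prodMap (shift (2 * k')), K₁.prod K₂,
    ?_, ?_, ?_, ?_, ?_, ?_, ?_, ?_⟩
  · intro x y
    rw [prodForm_apply, prodForm_apply, a1, a2]
  · intro x _ hx
    have h1 : x.1 = 0 := n1 _ (fun y => by
      have := hx (y, 0) Submodule.mem_top
      simpa [prodForm_apply] using this)
    have h2' : x.2 = 0 := n2 _ (fun y => by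
      have := hx (0, y) Submodule.mem_top
      simpa [prodForm_apply] using this)
    exact Prod.ext h1 h2'
  · intro x y
    simp only [prodForm_apply, LinearMap.prodMap_apply]
    rw [s1, s2]
    ring
  · have z1 : (shift (2 * k) : (Fin (2 * k + 1) → F) →ₗ[F] _) ^ p = 0 := by
      obtain ⟨c, rfl⟩ := Nat.exists_eq_add_of_le hap
      rw [pow_add, shift_pow_top, zero_mul]
    have z2 : (shift (2 * k') : (Fin (2 * k' + 1) → F) →ₗ[F] _) ^ p = 0 := by
      obtain ⟨c, rfl⟩ := Nat.exists_eq_add_of_le hap'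
      rw [pow_add, shift_pow_top, zero_mul]
    rw [prodMap_pow', z1, z2, LinearMap.prodMap_zero]
  · intro j
    rw [prodMap_pow', finrank_ker_prodMap, finrank_ker_shift_pow, finrank_ker_shift_pow]
  · intro x hx
    rw [Submodule.mem_prod] at hx
    rw [prodForm_apply, hB₁, hB₂, LinearMap.smul_apply, LinearMap.smul_apply,
      LinearMap.smul_apply, LinearMap.smul_apply,
      blockForm_self_of_vanish k x.1
        (fun i hi => apply_eq_zero_of_mem_ker k k x.1 hx.1 i (by omega)),
      blockForm_self_of_vanish k' x.2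
        (fun i hi => apply_eq_zero_of_mem_ker k' k' x.2 hx.2 i (by omega)),
      apply_eq_zero_of_mem_ker k k x.1 hx.1 (mid k) (by simp only [mid]; omega),
      apply_eq_zero_of_mem_ker k' k' x.2 hx.2 (mid k') (by simp only [mid]; omega)]
    simp
  · rw [finrank_prod_submodule, hK₁, hK₂, finrank_ker_shift_pow, finrank_ker_shift_pow]
    have h1 : min (2 * k + 1) k = k := by omega
    have h2 : min (2 * k' + 1) k' = k' := by omega
    rw [h1, h2]
  · intro v hvX hvv
    -- coordinates below the middle vanish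
    have hv₁ : ∀ i : Fin (2 * k + 1), (i : ℕ) < k → v.1 i = 0 := by
      intro i hi
      have hmem : ((Pi.single (Fin.rev i) 1 : Fin (2 * k + 1) → F),
          (0 : Fin (2 * k' + 1) → F)) ∈ K₁.prod K₂ :=
        Submodule.mem_prod.mpr ⟨single_rev_mem_ker k i hi, Submodule.zero_mem _⟩
      have h := hvX _ hmem
      rw [prodForm_apply] at h
      simp only [map_zero, add_zero] at h
      rw [hB₁, LinearMap.smul_apply, LinearMap.smul_apply, blockForm_single, smul_eq_mul] at h
      rcases mul_eq_zero.mp h with h | h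
      · exact absurd h hm1
      · rcases mul_eq_zero.mp h with h | h
        · exact absurd h (pow_ne_zero _ (neg_ne_zero.mpr one_ne_zero))
        · exact h
    have hv₂ : ∀ i : Fin (2 * k' + 1), (i : ℕ) < k' → v.2 i = 0 := by
      intro i hi
      have hmem : ((0 : Fin (2 * k + 1) → F),
          (Pi.single (Fin.rev i) 1 : Fin (2 * k' + 1) → F)) ∈ K₁.prod K₂ :=
        Submodule.mem_prod.mpr ⟨Submodule.zero_mem _, single_rev_mem_ker k' i hi⟩
      have h := hvX _ hmem
      rw [prodForm_apply] at h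
      simp only [map_zero, zero_add] at h
      rw [hB₂, LinearMap.smul_apply, LinearMap.smul_apply, blockForm_single, smul_eq_mul] at h
      rcases mul_eq_zero.mp h with h | h
      · exact absurd h hc'
      · rcases mul_eq_zero.mp h with h | h
        · exact absurd h (pow_ne_zero _ (neg_ne_zero.mpr one_ne_zero))
        · exact h
    -- the norm of `v`
    have hnorm : v.1 (mid k) ^ 2 - ζ * v.2 (mid k') ^ 2 = 0 := by
      have h := hvv
      rw [prodForm_apply, hB₁, hB₂, LinearMap.smul_apply, LinearMap.smul_apply,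
        LinearMap.smul_apply, LinearMap.smul_apply, blockForm_self_of_vanish k v.1 hv₁,
        blockForm_self_of_vanish k' v.2 hv₂, smul_eq_mul, smul_eq_mul] at h
      calc v.1 (mid k) ^ 2 - ζ * v.2 (mid k') ^ 2
          = ((-1 : F) ^ k * (-1) ^ k) * v.1 (mid k) ^ 2
            - ζ * (((-1 : F) ^ k' * (-1) ^ k') * v.2 (mid k') ^ 2) := by rw [e1, e2]; ring
        _ = (-1 : F) ^ k * ((-1) ^ k * v.1 (mid k) ^ 2)
            + -ζ * (-1) ^ k' * ((-1) ^ k' * v.2 (mid k') ^ 2) := by ring
        _ = 0 := h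
    have hmid₂ : v.2 (mid k') = 0 := by
      by_contra hne
      apply hζ
      refine ⟨v.1 (mid k) / v.2 (mid k'), ?_⟩
      field_simp
      linear_combination -hnorm
    have hmid₁ : v.1 (mid k) = 0 := by
      rw [hmid₂] at hnorm
      have : v.1 (mid k) ^ 2 = 0 := by linear_combination hnorm
      exact pow_eq_zero_iff (two_ne_zero) |>.mp this
    rw [Submodule.mem_prod]
    constructor
    · rw [hK₁, LinearMap.mem_ker, shift_pow_eq_zero_iff]
      intro j hj
      rcases Nat.lt_or_ge (j : ℕ) k with h | h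
      · exact hv₁ j h
      · have : j = mid k := Fin.ext (by simp only [mid]; omega)
        rw [this, hmid₁]
    · rw [hK₂, LinearMap.mem_ker, shift_pow_eq_zero_iff]
      intro j hj
      rcases Nat.lt_or_ge (j : ℕ) k' with h | h
      · exact hv₂ j h
      · have : j = mid k' := Fin.ext (by simp only [mid]; omega)
        rw [this, hmid₂]

end Cfsg.Agent.Lib.Helper26.Om
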