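import Mathlib

/-!
# K-PG2-F3240 (keystone 345208, S3452, architect helper59): a finite group with a non-trivial solvable
normal subgroup and the spectrum `{1,2,3,4,5,8,10}` of `PGL₂(9)`: the Frobenius group `3⁴ : (5 : 8)`
inside `AΓL₁(81)`, as `(ZMod 3)⁴ ⋊ ⟨A, B⟩` with explicit `4 × 4` matrices over `ZMod 3`
(`F₈₁ = F₃[x]/(x⁴+x+2)`, `A` = multiplication by `x¹⁶`, `B = (v ↦ x v³)`).
-/

set_option autoImplicit false
set_option linter.unusedSectionVars false
set_option linter.unusedVariables false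

namespace Cfsg.Agent.Lib.Helper26.PG2

open Matrix

/-- the vector space `(ZMod 3)⁴` -/
abbrev V4 : Type := Fin 4 → ZMod 3

/-- `4 × 4` matrices over `ZMod 3` -/
abbrev M4 : Type := Matrix (Fin 4) (Fin 4) (ZMod 3)

/-- multiplication by `x¹⁶` (order `5`) -/
def mA : M4 := !![2, 2, 0, 1; 1, 0, 2, 2; 0, 1, 0, 2; 2, 0, 1, 0]

/-- `v ↦ x v³` (order `8`) -/
def mB : M4 := !![0, 1, 2, 1; 1, 2, 1, 2; 0, 0, 0, 1; 0, 0, 1, 1]

set_option maxRecDepth 100000 in
theorem mA_mul_inv : mA * (mA * mA * mA * mA) = 1 := by decide +kernel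

set_option maxRecDepth 100000 in
theorem mA_inv_mul : (mA * mA * mA * mA) * mA = 1 := by decide +kernel

set_option maxRecDepth 100000 in
theorem mB_mul_inv : mB * (mB * mB * mB * mB * mB * mB * mB) = 1 := by decide +kernel

set_option maxRecDepth 100000 in
theorem mB_inv_mul : (mB * mB * mB * mB * mB * mB * mB) * mB = 1 := by decide +kernel

/-- `A` as a unit -/
def uA : M4ˣ := ⟨mA, mA * mA * mA * mA, mA_mul_inv, mA_inv_mul⟩

/-- `B` as a unit -/
def uB : M4ˣ := ⟨mB, mB * mB * mB * mB * mB * mB * mB, mB_mul_inv, mB_inv_mul⟩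

/-- the complement `⟨A, B⟩` of order `40` -/
def C40 : Subgroup M4ˣ := Subgroup.closure {uA, uB}

/-- the `40` matrices `A^i B^j` -/
def elt (i : Fin 5) (j : Fin 8) : M4 := mA ^ i.val * mB ^ j.val

set_option maxRecDepth 100000 in
theorem elt_closed_A : ∀ (i : Fin 5) (j : Fin 8), ∃ (i' : Fin 5) (j' : Fin 8),
    mA * elt i j = elt i' j' := by decide +kernel

set_option maxRecDepth 100000 in
theorem elt_closed_B : ∀ (i : Fin 5) (j : Fin 8), ∃ (i' : Fin 5) (j' : Fin 8),
    mB * elt i j = elt i' j' := by decide +kernel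

set_option maxRecDepth 100000 in
theorem elt_closed_Ainv : ∀ (i : Fin 5) (j : Fin 8), ∃ (i' : Fin 5) (j' : Fin 8),
    (mA * mA * mA * mA) * elt i j = elt i' j' := by decide +kernel

set_option maxRecDepth 100000 in
theorem elt_closed_Binv : ∀ (i : Fin 5) (j : Fin 8), ∃ (i' : Fin 5) (j' : Fin 8),
    (mB * mB * mB * mB * mB * mB * mB) * elt i j = elt i' j' := by decide +kernel

set_option maxRecDepth 100000 in
theorem elt_fpf : ∀ (i : Fin 5) (j : Fin 8), elt i j = 1 ∨
    ∀ v : V4, elt i j *ᵥ v = v → v = 0 := by decide +kernel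

set_option maxRecDepth 100000 in
theorem elt_pow : ∀ (i : Fin 5) (j : Fin 8), elt i j ^ 8 = 1 ∨ elt i j ^ 10 = 1 := by
  decide +kernel

/-- every element of `C40` is one of the `40` matrices -/
theorem exists_elt_of_mem (c : M4ˣ) (hc : c ∈ C40) :
    ∃ (i : Fin 5) (j : Fin 8), (c : M4) = elt i j := by
  unfold C40 at hc
  induction hc using Subgroup.closure_induction_left with
  | one => exact ⟨0, 0, by simp [elt]⟩
  | mul_left x hx y hy ih =>
    obtain ⟨i, j, hij⟩ := ih
    rcases hx with rfl | rfl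
    · obtain ⟨i', j', h⟩ := elt_closed_A i j
      exact ⟨i', j', by rw [Units.val_mul, hij]; exact h⟩
    · obtain ⟨i', j', h⟩ := elt_closed_B i j
      exact ⟨i', j', by rw [Units.val_mul, hij]; exact h⟩
  | inv_mul_cancel x hx y hy ih =>
    obtain ⟨i, j, hij⟩ := ih
    rcases hx with rfl | rfl
    · obtain ⟨i', j', h⟩ := elt_closed_Ainv i j
      exact ⟨i', j', by rw [Units.val_mul, hij]; exact h⟩
    · obtain ⟨i', j', h⟩ := elt_closed_Binv i j
      exact ⟨i', j', by rw [Units.val_mul, hij]; exact h⟩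

/-- the action of an invertible matrix on the multiplicative copy of `V4` -/
def actU (c : M4ˣ) : MulAut (Multiplicative V4) :=
  AddEquiv.toMultiplicative
    { toFun := fun v => (c : M4) *ᵥ v
      invFun := fun v => ((c⁻¹ : M4ˣ) : M4) *ᵥ v
      left_inv := fun v => by
        show ((c⁻¹ : M4ˣ) : M4) *ᵥ ((c : M4) *ᵥ v) = v
        rw [Matrix.mulVec_mulVec, ← Units.val_mul, inv_mul_cancel, Units.val_one, Matrix.one_mulVec]
      right_inv := fun v => by
        show (c : M4) *ᵥ (((c⁻¹ : M4ˣ) : M4) *ᵥ v) = v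
        rw [Matrix.mulVec_mulVec, ← Units.val_mul, mul_inv_cancel, Units.val_one, Matrix.one_mulVec]
      map_add' := fun v w => Matrix.mulVec_add _ v w }

theorem actU_apply (c : M4ˣ) (v : Multiplicative V4) :
    actU c v = Multiplicative.ofAdd ((c : M4) *ᵥ Multiplicative.toAdd v) := rfl

/-- the action as a homomorphism -/
def actHom : M4ˣ →* MulAut (Multiplicative V4) where
  toFun := actU
  map_one' := by
    refine MulEquiv.ext (fun v => ?_)
    rw [actU_apply, Units.val_one, Matrix.one_mulVec]; rfl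
  map_mul' c d := by
    refine MulEquiv.ext (fun v => ?_)
    rw [MulAut.mul_apply, actU_apply, actU_apply, actU_apply, Units.val_mul,
      ← Matrix.mulVec_mulVec]
    rfl

/-- the action of `C40` -/
def phi40 : ↥C40 →* MulAut (Multiplicative V4) := actHom.comp C40.subtype

/-- the Frobenius group `3⁴ : (5 : 8)` -/
abbrev G3240 : Type := Multiplicative V4 ⋊[phi40] ↥C40

theorem phi40_apply (c : ↥C40) (v : Multiplicative V4) :
    phi40 c v = Multiplicative.ofAdd (((c : M4ˣ) : M4) *ᵥ Multiplicative.toAdd v) := rfl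

section SDP
variable {N H : Type*} [CommGroup N] [Group H] (φ : H →* MulAut N)

theorem sdpf_pow_right (h : N ⋊[φ] H) (m : ℕ) : (h ^ m).right = h.right ^ m :=
  map_pow (SemidirectProduct.rightHom : N ⋊[φ] H →* H) h m

theorem sdpf_exists_fixed (h : N ⋊[φ] H) (m : ℕ) (hm : h.right ^ m = 1) :
    ∃ w : N, h ^ m = SemidirectProduct.inl w ∧ φ h.right w = w := by
  have hr : (h ^ m).right = 1 := by rw [sdpf_pow_right, hm]
  refine ⟨(h ^ m).left, ?_, ?_⟩
  · ext
    · simp
    · simp [hr]
  · have hc : h * h ^ m = h ^ m * h := (Commute.refl h).pow_right m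
    have h1 := congrArg SemidirectProduct.left hc
    simp only [SemidirectProduct.mul_left, hr, map_one, MulAut.one_apply] at h1
    have h2 : h.left * φ h.right (h ^ m).left = h.left * (h ^ m).left := by
      rw [h1, mul_comm]
    exact mul_left_cancel h2

theorem sdpf_orderOf_inr (g : H) : orderOf (SemidirectProduct.inr g : N ⋊[φ] H) = orderOf g :=
  orderOf_injective (SemidirectProduct.inr : H →* N ⋊[φ] H) SemidirectProduct.inr_injective g

theorem sdpf_orderOf_inl (v : N) : orderOf (SemidirectProduct.inl v : N ⋊[φ] H) = orderOf v :=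
  orderOf_injective (SemidirectProduct.inl : N →* N ⋊[φ] H) SemidirectProduct.inl_injective v

end SDP

/-- every element has order dividing `3`, `8` or `10` -/
theorem pow_eq_one_G3240 (g : G3240) : g ^ 3 = 1 ∨ g ^ 8 = 1 ∨ g ^ 10 = 1 := by
  obtain ⟨i, j, hij⟩ := exists_elt_of_mem (g.right : M4ˣ) g.right.2
  by_cases h1 : g.right = 1
  · left
    obtain ⟨w, hw, -⟩ := sdpf_exists_fixed phi40 g 1 (by rw [pow_one, h1])
    rw [pow_one] at hw
    rw [hw, ← map_pow]
    have : w ^ 3 = 1 := by
      show Multiplicative.ofAdd ((3 : ℕ) • Multiplicative.toAdd w) = 1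
      have h3 : (3 : ℕ) • Multiplicative.toAdd w = 0 := by
        funext k
        simp only [Pi.smul_apply, Pi.zero_apply, nsmul_eq_mul]
        have : ((3 : ℕ) : ZMod 3) = 0 := by decide
        rw [this, zero_mul]
      rw [h3]; rfl
    rw [this, map_one]
  · right
    have hne : elt i j ≠ 1 := by
      intro h
      apply h1
      apply Subtype.ext
      apply Units.ext
      rw [hij, h]; rfl
    have hfpf : ∀ v : V4, elt i j *ᵥ v = v → v = 0 := (elt_fpf i j).resolve_left hne
    have key : ∀ n : ℕ, elt i j ^ n = 1 → g ^ n = 1 := by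
      intro n hn
      have hr : g.right ^ n = 1 := by
        apply Subtype.ext
        apply Units.ext
        rw [Subgroup.coe_pow, Units.val_pow_eq_pow_val, hij, hn]; rfl
      obtain ⟨w, hw, hfix⟩ := sdpf_exists_fixed phi40 g n hr
      rw [phi40_apply, hij] at hfix
      have h0 : Multiplicative.toAdd w = 0 := hfpf _ (congrArg Multiplicative.toAdd hfix)
      have hw1 : w = 1 := by
        rw [← ofAdd_toAdd w, h0]; rfl
      rw [hw, hw1, map_one]
    rcases elt_pow i j with h | h
    · exact Or.inl (key 8 h)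
    · exact Or.inr (key 10 h)

end Cfsg.Agent.Lib.Helper26.PG2

namespace Cfsg.Agent.Lib.Helper26.PG2

open Matrix

instance finite_G3240 : Finite G3240 :=
  Finite.of_equiv (Multiplicative V4 × ↥C40) SemidirectProduct.equivProd.symm

/-- `A` as an element of `C40` -/
def cA : ↥C40 := ⟨uA, Subgroup.subset_closure (by simp)⟩

/-- `B` as an element of `C40` -/
def cB : ↥C40 := ⟨uB, Subgroup.subset_closure (by simp)⟩

theorem orderOf_inr_eq (c : ↥C40) :
    orderOf (SemidirectProduct.inr c : G3240) = orderOf (((c : M4ˣ)) : M4) := by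
  rw [sdpf_orderOf_inr, ← Subgroup.orderOf_coe, ← orderOf_units]

theorem orderOf_eq_of_forall (x : M4) (n : ℕ) (hn : 0 < n) (h1 : x ^ n = 1)
    (h2 : ∀ m < n, 0 < m → x ^ m ≠ 1) : orderOf x = n :=
  (orderOf_eq_iff hn).mpr ⟨h1, h2⟩

set_option maxRecDepth 100000 in
theorem orderOf_mB : orderOf mB = 8 :=
  orderOf_eq_of_forall mB 8 (by norm_num) (by decide +kernel) (by decide +kernel)

set_option maxRecDepth 100000 in
theorem orderOf_mB2 : orderOf (mB ^ 2) = 4 :=
  orderOf_eq_of_forall _ 4 (by norm_num) (by decide +kernel) (by decide +kernel)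

set_option maxRecDepth 100000 in
theorem orderOf_mB4 : orderOf (mB ^ 4) = 2 :=
  orderOf_eq_of_forall _ 2 (by norm_num) (by decide +kernel) (by decide +kernel)

set_option maxRecDepth 100000 in
theorem orderOf_mA : orderOf mA = 5 :=
  orderOf_eq_of_forall _ 5 (by norm_num) (by decide +kernel) (by decide +kernel)

set_option maxRecDepth 100000 in
theorem orderOf_mAB4 : orderOf (mA * mB ^ 4) = 10 :=
  orderOf_eq_of_forall _ 10 (by norm_num) (by decide +kernel) (by decide +kernel)

/-- a non-zero vector -/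
def e0 : V4 := Pi.single 0 1

theorem e0_ne_zero : e0 ≠ 0 := by decide

theorem orderOf_inl_e0 :
    orderOf (SemidirectProduct.inl (Multiplicative.ofAdd e0) : G3240) = 3 := by
  rw [sdpf_orderOf_inl]
  have h3 : (3 : ℕ) • e0 = 0 := by
    funext k
    simp only [Pi.smul_apply, Pi.zero_apply, nsmul_eq_mul]
    have : ((3 : ℕ) : ZMod 3) = 0 := by decide
    rw [this, zero_mul]
  have : Fact (Nat.Prime 3) := ⟨Nat.prime_three⟩
  apply orderOf_eq_prime
  · show Multiplicative.ofAdd ((3 : ℕ) • e0) = 1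
    rw [h3]; rfl
  · intro h
    exact e0_ne_zero (congrArg Multiplicative.toAdd h)

theorem spectrum_G3240 : Set.range (orderOf : G3240 → ℕ) = {1, 2, 3, 4, 5, 8, 10} := by
  apply Set.Subset.antisymm
  · rintro _ ⟨g, rfl⟩
    have hd3 : Nat.divisors 3 = {1, 3} := by decide
    have hd8 : Nat.divisors 8 = {1, 2, 4, 8} := by decide
    have hd10 : Nat.divisors 10 = {1, 2, 5, 10} := by decide
    rcases pow_eq_one_G3240 g with h | h | h
    · have : orderOf g ∈ Nat.divisors 3 :=
        Nat.mem_divisors.mpr ⟨orderOf_dvd_of_pow_eq_one h, by norm_num⟩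
      rw [hd3] at this
      simp only [Finset.mem_insert, Finset.mem_singleton] at this
      rcases this with h' | h' <;> rw [h'] <;> simp
    · have : orderOf g ∈ Nat.divisors 8 :=
        Nat.mem_divisors.mpr ⟨orderOf_dvd_of_pow_eq_one h, by norm_num⟩
      rw [hd8] at this
      simp only [Finset.mem_insert, Finset.mem_singleton] at this
      rcases this with h' | h' | h' | h' <;> rw [h'] <;> simp
    · have : orderOf g ∈ Nat.divisors 10 :=
        Nat.mem_divisors.mpr ⟨orderOf_dvd_of_pow_eq_one h, by norm_num⟩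
      rw [hd10] at this
      simp only [Finset.mem_insert, Finset.mem_singleton] at this
      rcases this with h' | h' | h' | h' <;> rw [h'] <;> simp
  · intro n hn
    simp only [Set.mem_insert_iff, Set.mem_singleton_iff] at hn
    rcases hn with rfl | rfl | rfl | rfl | rfl | rfl | rfl
    · exact ⟨1, orderOf_one⟩
    · refine ⟨SemidirectProduct.inr (cB ^ 4), ?_⟩
      rw [orderOf_inr_eq]
      have : (((cB ^ 4 : ↥C40) : M4ˣ) : M4) = mB ^ 4 := by
        rw [Subgroup.coe_pow, Units.val_pow_eq_pow_val]; rfl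
      rw [this, orderOf_mB4]
    · exact ⟨_, orderOf_inl_e0⟩
    · refine ⟨SemidirectProduct.inr (cB ^ 2), ?_⟩
      rw [orderOf_inr_eq]
      have : (((cB ^ 2 : ↥C40) : M4ˣ) : M4) = mB ^ 2 := by
        rw [Subgroup.coe_pow, Units.val_pow_eq_pow_val]; rfl
      rw [this, orderOf_mB2]
    · refine ⟨SemidirectProduct.inr cA, ?_⟩
      rw [orderOf_inr_eq]
      exact orderOf_mA
    · refine ⟨SemidirectProduct.inr cB, ?_⟩
      rw [orderOf_inr_eq]
      exact orderOf_mB
    · refine ⟨SemidirectProduct.inr (cA * cB ^ 4), ?_⟩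
      rw [orderOf_inr_eq]
      have : (((cA * cB ^ 4 : ↥C40) : M4ˣ) : M4) = mA * mB ^ 4 := by
        rw [Subgroup.coe_mul, Units.val_mul, Subgroup.coe_pow, Units.val_pow_eq_pow_val]; rfl
      rw [this, orderOf_mAB4]

/-- **LEAF F3240 (345208).** -/
theorem exists_spec_pgl29 : ∃ (G : Type) (_ : Group G) (_ : Finite G) (K : Subgroup G),
    K.Normal ∧ K ≠ ⊥ ∧ Group.IsSolvable ↥K ∧ Set.range (orderOf : G → ℕ) = {1, 2, 3, 4, 5, 8, 10} := by
  refine ⟨G3240, inferInstance, inferInstance,
    (SemidirectProduct.inl : Multiplicative V4 →* G3240).range, ?_, ?_, ?_, spectrum_G3240⟩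
  · rw [SemidirectProduct.range_inl_eq_ker_rightHom]
    exact MonoidHom.normal_ker _
  · intro h
    have hmem : (SemidirectProduct.inl (Multiplicative.ofAdd e0) : G3240) ∈
        (SemidirectProduct.inl : Multiplicative V4 →* G3240).range := ⟨_, rfl⟩
    rw [h, Subgroup.mem_bot] at hmem
    have := SemidirectProduct.inl_injective (hmem.trans (map_one _).symm)
    exact e0_ne_zero (congrArg Multiplicative.toAdd this)
  · exact Group.isSolvable_of_surjective
      (f := (SemidirectProduct.inl : Multiplicative V4 →* G3240).rangeRestrict)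
      (MonoidHom.rangeRestrict_surjective _)

end Cfsg.Agent.Lib.Helper26.PG2
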