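import Mathlib

/-!
# Chevalley–Warning for systems of quadratic maps over `ZMod 2`

A system of `l` quadratic maps `V → ZMod 2` (maps whose polarisation is biadditive) on a finite
`ZMod 2`-module `V` with `2 * l < dim V` has a common non-zero zero.  Vector-valued version:
a quadratic map `σ : V → Z` with `2 * dim Z < dim V` has a non-zero zero.
-/

set_option autoImplicit false

namespace Cfsg.Agent.Lib.Helper26

open MvPolynomial

section coords

variable {n : ℕ}

/-- `q 0 = 0` for a map with biadditive polarisation. -/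
theorem quad_zero {V : Type*} [AddCommGroup V] (q : V → ZMod 2) (B : V → V → ZMod 2)
    (hadd : ∀ x y, q (x + y) = q x + q y + B x y)
    (hBl : ∀ x y z, B (x + y) z = B x z + B y z) : q 0 = 0 := by
  have h1 : B 0 0 = 0 := by
    have := hBl 0 0 0
    rw [add_zero] at this
    have h2 : B 0 0 + B 0 0 = B 0 0 + 0 := by rw [add_zero]; exact this.symm
    exact (add_left_cancel h2)
  have h := hadd 0 0
  rw [add_zero, h1, add_zero] at h
  have h2 : q 0 + q 0 = q 0 + 0 := by rw [add_zero]; exact h.symm
  exact add_left_cancel h2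

theorem zmod2_cases (c : ZMod 2) : c = 0 ∨ c = 1 := by
  revert c; decide

/-- The quadratic polynomial attached to a quadratic map in coordinates. -/
noncomputable def quadPoly (q : (Fin n → ZMod 2) → ZMod 2)
    (B : (Fin n → ZMod 2) → (Fin n → ZMod 2) → ZMod 2) : MvPolynomial (Fin n) (ZMod 2) :=
  (∑ j, C (q (Pi.single j 1)) * X j) +
    ∑ j, ∑ k, if j < k then C (B (Pi.single j 1) (Pi.single k 1)) * X j * X k else 0

theorem totalDegree_quadPoly (q : (Fin n → ZMod 2) → ZMod 2)
    (B : (Fin n → ZMod 2) → (Fin n → ZMod 2) → ZMod 2) : (quadPoly q B).totalDegree ≤ 2 := by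
  unfold quadPoly
  refine (totalDegree_add _ _).trans (max_le ?_ ?_)
  · refine (totalDegree_finsetSum _ _).trans (Finset.sup_le fun j _ => ?_)
    refine (totalDegree_mul _ _).trans ?_
    rw [totalDegree_C, totalDegree_X]; omega
  · refine (totalDegree_finsetSum _ _).trans (Finset.sup_le fun j _ => ?_)
    refine (totalDegree_finsetSum _ _).trans (Finset.sup_le fun k _ => ?_)
    split_ifs
    · refine (totalDegree_mul _ _).trans ?_
      have h1 : (C (B (Pi.single j 1) (Pi.single k 1)) * X j :
          MvPolynomial (Fin n) (ZMod 2)).totalDegree ≤ 1 := by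
        refine (totalDegree_mul _ _).trans ?_
        rw [totalDegree_C, totalDegree_X]
      have h2 : (X k : MvPolynomial (Fin n) (ZMod 2)).totalDegree = 1 := totalDegree_X k
      omega
    · simp

theorem biadd_smul_left {V : Type*} [AddCommGroup V] [Module (ZMod 2) V] (B : V → V → ZMod 2)
    (hBl : ∀ x y z, B (x + y) z = B x z + B y z) (c : ZMod 2) (u v : V) :
    B (c • u) v = c * B u v := by
  have h0 : B 0 v = 0 := by
    have := hBl 0 0 v
    rw [add_zero] at this
    have h2 : B 0 v + B 0 v = B 0 v + 0 := by rw [add_zero]; exact this.symm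
    exact add_left_cancel h2
  rcases zmod2_cases c with rfl | rfl
  · simp [h0]
  · simp

theorem biadd_sum_right {V : Type*} [AddCommGroup V] (B : V → V → ZMod 2)
    (hBr : ∀ x y z, B x (y + z) = B x y + B x z) {ι : Type*} (s : Finset ι) (u : V) (g : ι → V) :
    B u (∑ k ∈ s, g k) = ∑ k ∈ s, B u (g k) := by
  classical
  have h0 : B u 0 = 0 := by
    have := hBr u 0 0
    rw [add_zero] at this
    have h2 : B u 0 + B u 0 = B u 0 + 0 := by rw [add_zero]; exact this.symm
    exact add_left_cancel h2
  induction s using Finset.induction_on with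
  | empty => simp [h0]
  | insert a s ha ih => rw [Finset.sum_insert ha, Finset.sum_insert ha, hBr, ih]

theorem quad_smul {V : Type*} [AddCommGroup V] [Module (ZMod 2) V] (q : V → ZMod 2)
    (B : V → V → ZMod 2) (hadd : ∀ x y, q (x + y) = q x + q y + B x y)
    (hBl : ∀ x y z, B (x + y) z = B x z + B y z) (c : ZMod 2) (u : V) :
    q (c • u) = c * q u := by
  rcases zmod2_cases c with rfl | rfl
  · simp [quad_zero q B hadd hBl]
  · simp

theorem eval_quadPoly (q : (Fin n → ZMod 2) → ZMod 2)
    (B : (Fin n → ZMod 2) → (Fin n → ZMod 2) → ZMod 2)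
    (hadd : ∀ x y, q (x + y) = q x + q y + B x y)
    (hBl : ∀ x y z, B (x + y) z = B x z + B y z)
    (hBr : ∀ x y z, B x (y + z) = B x y + B x z) (x : Fin n → ZMod 2) :
    eval x (quadPoly q B) = q x := by
  classical
  have hsymm : ∀ u v, B u v = B v u := by
    intro u v
    have h1 := hadd u v
    have h2 := hadd v u
    rw [add_comm v u, h1] at h2
    have h3 : q u + q v + B u v = q u + q v + B v u := by rw [h2]; ring
    exact add_left_cancel h3
  set e : Fin n → (Fin n → ZMod 2) := fun j => Pi.single j 1 with he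
  set f : Fin n → Fin n → ZMod 2 := fun j k => if j < k then B (e j) (e k) * x j * x k else 0
    with hf
  have key : ∀ s : Finset (Fin n), q (∑ j ∈ s, x j • e j) =
      (∑ j ∈ s, q (e j) * x j) + ∑ j ∈ s, ∑ k ∈ s, f j k := by
    intro s
    induction s using Finset.induction_on_max with
    | empty => simp [quad_zero q B hadd hBl]
    | insert a s hs ih =>
      have has : a ∉ s := fun h => lt_irrefl _ (hs a h)
      rw [Finset.sum_insert has, hadd, ih, quad_smul q B hadd hBl, biadd_smul_left B hBl,
        biadd_sum_right B hBr, Finset.sum_insert has, Finset.sum_insert has]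
      have h1 : ∑ k ∈ insert a s, f a k = 0 := by
        apply Finset.sum_eq_zero
        intro k hk
        rcases Finset.mem_insert.mp hk with rfl | hk
        · simp [hf]
        · have : ¬ a < k := not_lt.mpr (le_of_lt (hs k hk))
          simp [hf, this]
      have h2 : ∀ j ∈ s, ∑ k ∈ insert a s, f j k = f j a + ∑ k ∈ s, f j k := by
        intro j _
        rw [Finset.sum_insert has]
      rw [h1, Finset.sum_congr rfl h2, Finset.sum_add_distrib]
      have h3 : x a * ∑ k ∈ s, B (e a) (x k • e k) = ∑ j ∈ s, f j a := by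
        rw [Finset.mul_sum]
        apply Finset.sum_congr rfl
        intro k hk
        have hka : k < a := hs k hk
        have : B (e a) (x k • e k) = x k * B (e k) (e a) := by
          rw [hsymm, biadd_smul_left B hBl]
        rw [this]
        simp only [hf, hka, if_true]
        ring
      rw [h3]
      ring
  have hx : x = ∑ j, x j • e j := by
    funext i
    simp [he, Finset.sum_apply, Pi.single_apply]
  have hev : eval x (quadPoly q B) = (∑ j, q (e j) * x j) + ∑ j, ∑ k, f j k := by
    unfold quadPoly
    simp only [map_add, map_sum, map_mul, eval_C, eval_X]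
    congr 1
    apply Finset.sum_congr rfl
    intro j _
    apply Finset.sum_congr rfl
    intro k _
    simp only [hf]
    split_ifs
    · simp [he]
    · simp
  rw [hev, ← key Finset.univ, ← hx]

/-- Chevalley–Warning for a system of quadratic maps in coordinates. -/
theorem exists_common_zero_coords {l : ℕ} (q : Fin l → (Fin n → ZMod 2) → ZMod 2)
    (B : Fin l → (Fin n → ZMod 2) → (Fin n → ZMod 2) → ZMod 2)
    (hadd : ∀ i x y, q i (x + y) = q i x + q i y + B i x y)
    (hBl : ∀ i x y z, B i (x + y) z = B i x z + B i y z)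
    (hBr : ∀ i x y z, B i x (y + z) = B i x y + B i x z) (h : 2 * l < n) :
    ∃ x : Fin n → ZMod 2, x ≠ 0 ∧ ∀ i, q i x = 0 := by
  classical
  have hdeg : (∑ i : Fin l, (quadPoly (q i) (B i)).totalDegree) < Fintype.card (Fin n) := by
    calc (∑ i : Fin l, (quadPoly (q i) (B i)).totalDegree) ≤ ∑ _i : Fin l, 2 :=
          Finset.sum_le_sum fun i _ => totalDegree_quadPoly _ _
      _ = 2 * l := by simp [mul_comm]
      _ < Fintype.card (Fin n) := by simpa using h
  have hdvd := char_dvd_card_solutions_of_fintype_sum_lt (K := ZMod 2) 2 hdeg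
  have h0 : ∀ i, eval (0 : Fin n → ZMod 2) (quadPoly (q i) (B i)) = 0 := by
    intro i
    rw [eval_quadPoly (q i) (B i) (hadd i) (hBl i) (hBr i)]
    exact quad_zero (q i) (B i) (hadd i) (hBl i)
  rw [Fintype.card_eq_nat_card] at hdvd
  have : Nonempty { x : Fin n → ZMod 2 // ∀ i, eval x (quadPoly (q i) (B i)) = 0 } :=
    ⟨⟨0, h0⟩⟩
  have hpos : 0 < Nat.card
      { x : Fin n → ZMod 2 // ∀ i, eval x (quadPoly (q i) (B i)) = 0 } := Nat.card_pos
  have h2 : 1 < Nat.card
      { x : Fin n → ZMod 2 // ∀ i, eval x (quadPoly (q i) (B i)) = 0 } := by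
    have := Nat.le_of_dvd hpos hdvd
    omega
  have := Finite.one_lt_card_iff_nontrivial.mp h2
  obtain ⟨⟨x, hx⟩, hne⟩ := exists_ne
    (⟨0, h0⟩ : { x : Fin n → ZMod 2 // ∀ i, eval x (quadPoly (q i) (B i)) = 0 })
  refine ⟨x, fun hx0 => hne (Subtype.ext hx0), fun i => ?_⟩
  rw [← eval_quadPoly (q i) (B i) (hadd i) (hBl i) (hBr i)]
  exact hx i

end coords

/-- **Chevalley–Warning for quadratic maps over `ZMod 2`**: `l` maps `q i : V → ZMod 2` with
biadditive polarisations `B i` on a finite `ZMod 2`-module `V` with `2 * l < dim V` have a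
common non-zero zero. -/
theorem exists_common_zero {V : Type*} [AddCommGroup V] [Module (ZMod 2) V] [Finite V] {l : ℕ}
    (q : Fin l → V → ZMod 2) (B : Fin l → V → V → ZMod 2)
    (hadd : ∀ i x y, q i (x + y) = q i x + q i y + B i x y)
    (hBl : ∀ i x y z, B i (x + y) z = B i x z + B i y z)
    (hBr : ∀ i x y z, B i x (y + z) = B i x y + B i x z)
    (h : 2 * l < Module.finrank (ZMod 2) V) :
    ∃ x : V, x ≠ 0 ∧ ∀ i, q i x = 0 := by
  have : Module.Finite (ZMod 2) V := Module.Finite.of_finite
  let b := Module.finBasis (ZMod 2) V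
  let φ := b.equivFun
  obtain ⟨x, hx0, hx⟩ := exists_common_zero_coords
    (fun i x => q i (φ.symm x)) (fun i x y => B i (φ.symm x) (φ.symm y))
    (fun i x y => by simp only [map_add]; exact hadd i _ _)
    (fun i x y z => by simp only [map_add]; exact hBl i _ _ _)
    (fun i x y z => by simp only [map_add]; exact hBr i _ _ _) h
  refine ⟨φ.symm x, fun h0 => hx0 ?_, hx⟩
  have := congrArg φ h0
  simpa using this

/-- Vector-valued version: a quadratic map `σ : V → Z` between finite `ZMod 2`-modules with
`2 * dim Z < dim V` has a non-zero zero. -/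
theorem exists_zero_of_quadratic_map {V Z : Type*} [AddCommGroup V] [Module (ZMod 2) V] [Finite V]
    [AddCommGroup Z] [Module (ZMod 2) Z] [Finite Z] (σ : V → Z) (β : V → V → Z)
    (hadd : ∀ x y, σ (x + y) = σ x + σ y + β x y)
    (hβl : ∀ x y z, β (x + y) z = β x z + β y z)
    (hβr : ∀ x y z, β x (y + z) = β x y + β x z)
    (h : 2 * Module.finrank (ZMod 2) Z < Module.finrank (ZMod 2) V) :
    ∃ x : V, x ≠ 0 ∧ σ x = 0 := by
  have : Module.Finite (ZMod 2) Z := Module.Finite.of_finite
  let c := Module.finBasis (ZMod 2) Z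
  obtain ⟨x, hx0, hx⟩ := exists_common_zero
    (fun i x => c.repr (σ x) i) (fun i x y => c.repr (β x y) i)
    (fun i x y => by simp [hadd])
    (fun i x y z => by simp [hβl])
    (fun i x y z => by simp [hβr]) h
  refine ⟨x, hx0, ?_⟩
  apply c.repr.injective
  ext i
  simpa using hx i

end Cfsg.Agent.Lib.Helper26
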