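import Cfsg.Agent.Lib.Helper26.QuadCW

set_option autoImplicit false

namespace Cfsg.Agent.Lib.Helper26

open scoped IsMulCommutative commutatorElement

section
variable {Q : Type*} [Group Q] (C : Subgroup Q)

/-- with squares in a central subgroup `C`, commutators lie in `C`. -/
theorem comm_mem_of_sq (hC : C ≤ Subgroup.center Q) (hsq : ∀ x : Q, x ^ 2 ∈ C) (x y : Q) :
    ⁅x, y⁆ ∈ C := by
  have hcen : ∀ c ∈ C, ∀ g : Q, g * c = c * g := fun c hc g =>
    Subgroup.mem_center_iff.mp (hC hc) g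
  have h : ⁅x, y⁆ = (x * y) ^ 2 * (y⁻¹ * (x ^ 2)⁻¹ * y⁻¹) := by
    rw [commutatorElement_def, pow_two, pow_two]; group
  rw [h, hcen _ (C.inv_mem (hsq x)) y⁻¹]
  refine C.mul_mem (hsq _) ?_
  have : (x ^ 2)⁻¹ * y⁻¹ * y⁻¹ = (x ^ 2)⁻¹ * (y ^ 2)⁻¹ := by rw [pow_two y]; group
  rw [this]
  exact C.mul_mem (C.inv_mem (hsq x)) (C.inv_mem (hsq y))

/-- `(xy)² = x² y² ⁅y,x⁆` when commutators are central. -/
theorem mul_sq_of_central (hC : C ≤ Subgroup.center Q) (hsq : ∀ x : Q, x ^ 2 ∈ C) (x y : Q) :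
    (x * y) ^ 2 = x ^ 2 * y ^ 2 * ⁅y, x⁆ := by
  have hcen : ∀ c ∈ C, ∀ g : Q, g * c = c * g := fun c hc g =>
    Subgroup.mem_center_iff.mp (hC hc) g
  have h1 := hcen _ (comm_mem_of_sq C hC hsq y x) (x * y * y)
  have : x ^ 2 * y ^ 2 * ⁅y, x⁆ = x * (x * y * y * ⁅y, x⁆) := by rw [pow_two, pow_two]; group
  rw [this, h1, commutatorElement_def, pow_two]; group

/-- commutators are multiplicative in the second variable when central. -/
theorem comm_mul_right_of_central (hC : C ≤ Subgroup.center Q) (hsq : ∀ x : Q, x ^ 2 ∈ C)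
    (x y z : Q) : ⁅x, y * z⁆ = ⁅x, y⁆ * ⁅x, z⁆ := by
  have hcen : ∀ c ∈ C, ∀ g : Q, g * c = c * g := fun c hc g =>
    Subgroup.mem_center_iff.mp (hC hc) g
  have h1 := hcen _ (comm_mem_of_sq C hC hsq x z) y
  have : ⁅x, y * z⁆ = ⁅x, y⁆ * (y * ⁅x, z⁆ * y⁻¹) := by
    simp only [commutatorElement_def]; group
  rw [this, h1, mul_inv_cancel_right]

/-- commutators are multiplicative in the first variable when central. -/
theorem comm_mul_left_of_central (hC : C ≤ Subgroup.center Q) (hsq : ∀ x : Q, x ^ 2 ∈ C)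
    (x y z : Q) : ⁅x * y, z⁆ = ⁅x, z⁆ * ⁅y, z⁆ := by
  have hcen : ∀ c ∈ C, ∀ g : Q, g * c = c * g := fun c hc g =>
    Subgroup.mem_center_iff.mp (hC hc) g
  have h1 := hcen _ (comm_mem_of_sq C hC hsq y z) x
  have : ⁅x * y, z⁆ = x * ⁅y, z⁆ * x⁻¹ * ⁅x, z⁆ := by
    simp only [commutatorElement_def]; group
  rw [this, h1, mul_inv_cancel_right, hcen _ (comm_mem_of_sq C hC hsq x z)]

end

section main
variable {Q : Type*} [Group Q] [Finite Q] (C : Subgroup Q)

/-- **Involutions outside a central subgroup containing all squares**: if `C ≤ Z(Q)` contains all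
squares, `C` has at most `2 ^ l` elements of order dividing `2` and `2 ^ (2 l) < |Q : C|`, then
some `x ∉ C` has `x ^ 2 = 1`. -/
theorem exists_sq_eq_one_not_mem (hC : C ≤ Subgroup.center Q) (hsq : ∀ x : Q, x ^ 2 ∈ C) (l : ℕ)
    (hΩ : Nat.card {c : C // c ^ 2 = 1} ≤ 2 ^ l) (hidx : 2 ^ (2 * l) < C.index) :
    ∃ x : Q, x ∉ C ∧ x ^ 2 = 1 := by
  have hcen : ∀ c ∈ C, ∀ g : Q, g * c = c * g := fun c hc g =>
    Subgroup.mem_center_iff.mp (hC hc) g
  have : C.Normal := ⟨fun n hn g => by rw [hcen n hn g, mul_inv_cancel_right]; exact hn⟩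
  have : IsMulCommutative C := ⟨⟨fun a b => Subtype.ext (hcen b b.2 a)⟩⟩
  have hexpV : ∀ v : Q ⧸ C, v ^ 2 = 1 := by
    intro v
    induction v using QuotientGroup.induction_on with
    | H x => rw [← QuotientGroup.mk_pow, QuotientGroup.eq_one_iff]; exact hsq x
  have : IsMulCommutative (Q ⧸ C) := ⟨⟨fun a b => by
    have h1 := hexpV (a * b)
    have h2 := hexpV a
    have h3 := hexpV b
    rw [pow_two] at h1 h2 h3
    calc a * b = a * (a * b * (a * b)) * b := by rw [h1, mul_one]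
      _ = (a * a) * b * a * (b * b) := by group
      _ = b * a := by rw [h2, h3, one_mul, mul_one]⟩⟩
  let S : Subgroup C := (powMonoidHom 2 : C →* C).range
  have hexpZ : ∀ z : C ⧸ S, z ^ 2 = 1 := by
    intro z
    induction z using QuotientGroup.induction_on with
    | H c =>
      rw [← QuotientGroup.mk_pow, QuotientGroup.eq_one_iff]
      exact ⟨c, rfl⟩
  letI : Module (ZMod 2) (Additive (Q ⧸ C)) := AddCommGroup.zmodModule (n := 2) (fun v => by
    show Additive.ofMul ((Additive.toMul v) ^ 2) = 0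
    rw [hexpV]; rfl)
  letI : Module (ZMod 2) (Additive (C ⧸ S)) := AddCommGroup.zmodModule (n := 2) (fun z => by
    show Additive.ofMul ((Additive.toMul z) ^ 2) = 0
    rw [hexpZ]; rfl)
  -- representatives
  let r : Additive (Q ⧸ C) → Q := fun v => (Additive.toMul v).out
  have hr : ∀ v w : Additive (Q ⧸ C), ∃ c ∈ C, r (v + w) = r v * r w * c := by
    intro v w
    refine ⟨(r v * r w)⁻¹ * r (v + w), ?_, by group⟩
    rw [← QuotientGroup.eq]
    simp only [r, QuotientGroup.mk_mul, QuotientGroup.out_eq']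
    rfl
  let σ : Additive (Q ⧸ C) → Additive (C ⧸ S) := fun v =>
    Additive.ofMul (QuotientGroup.mk (⟨(r v) ^ 2, hsq _⟩ : C))
  let β : Additive (Q ⧸ C) → Additive (Q ⧸ C) → Additive (C ⧸ S) := fun v w =>
    Additive.ofMul (QuotientGroup.mk (⟨⁅r w, r v⁆, comm_mem_of_sq C hC hsq _ _⟩ : C))
  have hcomm1 : ∀ c ∈ C, ∀ g : Q, ⁅g, c⁆ = 1 := by
    intro c hc g
    rw [commutatorElement_def, hcen c hc g]; group
  have hcomm2 : ∀ c ∈ C, ∀ g : Q, ⁅c, g⁆ = 1 := by
    intro c hc g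
    rw [commutatorElement_def, ← hcen c hc g]; group
  have hadd : ∀ v w, σ (v + w) = σ v + σ w + β v w := by
    intro v w
    obtain ⟨c, hc, hcr⟩ := hr v w
    have h1 : (⟨(r (v + w)) ^ 2, hsq _⟩ : C) =
        ⟨(r v) ^ 2, hsq _⟩ * ⟨(r w) ^ 2, hsq _⟩ * ⟨⁅r w, r v⁆, comm_mem_of_sq C hC hsq _ _⟩ *
          (powMonoidHom 2 : C →* C) ⟨c, hc⟩ := by
      apply Subtype.ext
      show (r (v + w)) ^ 2 = (r v) ^ 2 * (r w) ^ 2 * ⁅r w, r v⁆ * c ^ 2
      rw [hcr, ← mul_sq_of_central C hC hsq, pow_two (r v * r w * c), pow_two c, pow_two]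
      have := hcen c hc (r v * r w)
      calc r v * r w * c * (r v * r w * c) = r v * r w * (c * (r v * r w)) * c := by group
        _ = r v * r w * (r v * r w * c) * c := by rw [this]
        _ = r v * r w * (r v * r w) * (c * c) := by group
    show Additive.ofMul (QuotientGroup.mk _) = Additive.ofMul (QuotientGroup.mk _) +
      Additive.ofMul (QuotientGroup.mk _) + Additive.ofMul (QuotientGroup.mk _)
    rw [h1, QuotientGroup.mk_mul, QuotientGroup.mk_mul, QuotientGroup.mk_mul]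
    have h2 : (QuotientGroup.mk ((powMonoidHom 2 : C →* C) ⟨c, hc⟩) : C ⧸ S) = 1 := by
      rw [QuotientGroup.eq_one_iff]; exact ⟨_, rfl⟩
    rw [h2, mul_one]
    rfl
  have hβl : ∀ v v' w, β (v + v') w = β v w + β v' w := by
    intro v v' w
    obtain ⟨c, hc, hcr⟩ := hr v v'
    have h1 : (⟨⁅r w, r (v + v')⁆, comm_mem_of_sq C hC hsq _ _⟩ : C) =
        ⟨⁅r w, r v⁆, comm_mem_of_sq C hC hsq _ _⟩ * ⟨⁅r w, r v'⁆, comm_mem_of_sq C hC hsq _ _⟩ := by
      apply Subtype.ext
      show ⁅r w, r (v + v')⁆ = ⁅r w, r v⁆ * ⁅r w, r v'⁆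
      rw [hcr, comm_mul_right_of_central C hC hsq, comm_mul_right_of_central C hC hsq,
        hcomm1 c hc, mul_one]
    show Additive.ofMul (QuotientGroup.mk _) = Additive.ofMul (QuotientGroup.mk _) +
      Additive.ofMul (QuotientGroup.mk _)
    rw [h1, QuotientGroup.mk_mul]
    rfl
  have hβr : ∀ v w w', β v (w + w') = β v w + β v w' := by
    intro v w w'
    obtain ⟨c, hc, hcr⟩ := hr w w'
    have h1 : (⟨⁅r (w + w'), r v⁆, comm_mem_of_sq C hC hsq _ _⟩ : C) =
        ⟨⁅r w, r v⁆, comm_mem_of_sq C hC hsq _ _⟩ * ⟨⁅r w', r v⁆, comm_mem_of_sq C hC hsq _ _⟩ := by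
      apply Subtype.ext
      show ⁅r (w + w'), r v⁆ = ⁅r w, r v⁆ * ⁅r w', r v⁆
      rw [hcr, comm_mul_left_of_central C hC hsq, comm_mul_left_of_central C hC hsq,
        hcomm2 c hc, mul_one]
    show Additive.ofMul (QuotientGroup.mk _) = Additive.ofMul (QuotientGroup.mk _) +
      Additive.ofMul (QuotientGroup.mk _)
    rw [h1, QuotientGroup.mk_mul]
    rfl
  -- dimension count
  have hcardZ : Nat.card (Additive (C ⧸ S)) ≤ 2 ^ l := by
    have h1 : Nat.card (Additive (C ⧸ S)) = S.index := by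
      rw [Subgroup.index_eq_card]; rfl
    have h2 : S.index * Nat.card S = Nat.card C := Subgroup.index_mul_card S
    have h3 : Nat.card (powMonoidHom 2 : C →* C).ker * (powMonoidHom 2 : C →* C).ker.index =
        Nat.card C := Subgroup.card_mul_index _
    rw [Subgroup.index_ker] at h3
    have h4 : Nat.card (powMonoidHom 2 : C →* C).ker = Nat.card {c : C // c ^ 2 = 1} := by
      apply Nat.card_congr
      exact Equiv.subtypeEquivRight (fun c => by rw [MonoidHom.mem_ker]; rfl)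
    have hpos : 0 < Nat.card S := Nat.card_pos
    have h5 : S.index = Nat.card (powMonoidHom 2 : C →* C).ker := by
      have : S.index * Nat.card S = Nat.card (powMonoidHom 2 : C →* C).ker * Nat.card S := by
        rw [h2, ← h3]
      exact Nat.eq_of_mul_eq_mul_right hpos this
    rw [h1, h5, h4]; exact hΩ
  have hcardV : Nat.card (Additive (Q ⧸ C)) = C.index := by
    rw [Subgroup.index_eq_card]; rfl
  have hfin : 2 * Module.finrank (ZMod 2) (Additive (C ⧸ S)) <
      Module.finrank (ZMod 2) (Additive (Q ⧸ C)) := by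
    have hZ := Module.natCard_eq_pow_finrank (K := ZMod 2) (V := Additive (C ⧸ S))
    have hV := Module.natCard_eq_pow_finrank (K := ZMod 2) (V := Additive (Q ⧸ C))
    rw [Nat.card_zmod] at hZ hV
    rw [hZ] at hcardZ
    rw [hcardV] at hV
    rw [hV] at hidx
    have h1 : Module.finrank (ZMod 2) (Additive (C ⧸ S)) ≤ l :=
      (Nat.pow_le_pow_iff_right (by norm_num)).mp hcardZ
    have h2 : 2 * l < Module.finrank (ZMod 2) (Additive (Q ⧸ C)) :=
      (Nat.pow_lt_pow_iff_right (by norm_num)).mp hidx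
    omega
  obtain ⟨v, hv0, hv⟩ := exists_zero_of_quadratic_map σ β hadd hβl hβr hfin
  have hrv : r v ∉ C := by
    intro h
    apply hv0
    have : (QuotientGroup.mk (r v) : Q ⧸ C) = 1 := (QuotientGroup.eq_one_iff _).mpr h
    simp only [r, QuotientGroup.out_eq'] at this
    exact this
  have hS : (⟨(r v) ^ 2, hsq _⟩ : C) ∈ S := by
    rw [← QuotientGroup.eq_one_iff]
    exact hv
  obtain ⟨c, hc⟩ := hS
  have hc' : (c : Q) ^ 2 = (r v) ^ 2 := by
    have := congrArg Subtype.val hc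
    simpa using this
  refine ⟨r v * (c : Q)⁻¹, fun h => hrv ?_, ?_⟩
  · have := C.mul_mem h c.2
    simpa using this
  · have h1 := hcen _ (C.inv_mem c.2) (r v)
    calc (r v * (c : Q)⁻¹) ^ 2 = r v * ((c : Q)⁻¹ * r v) * (c : Q)⁻¹ := by rw [pow_two]; group
      _ = r v * (r v * (c : Q)⁻¹) * (c : Q)⁻¹ := by rw [← h1]
      _ = (r v) ^ 2 * ((c : Q) ^ 2)⁻¹ := by rw [pow_two, pow_two]; group
      _ = 1 := by rw [hc', mul_inv_cancel]

end main

end Cfsg.Agent.Lib.Helper26
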