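import Mathlib
import Cfsg.Agent.Lib.Helper49.RSU3Defs
import Cfsg.Agent.Lib.Helper40.GUConj

/-!
# K-RSU3 pack (S2283), leaf L13: `x_ratio`

Two upper unitriangular unitary elements `xM q a b`, `xM q a b'` with the same `a` differ by a
central root element `xM q 0 s` with `s + s^q = 0`.
-/

set_option autoImplicit false
set_option linter.unusedSectionVars false
set_option linter.unusedVariables false

namespace Cfsg.Agent.Lib.Helper26.RSU3

open Matrix Cfsg.Agent.Lib.Helper49.StSU Cfsg.Agent.Lib.Helper49.RSU3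

variable {F : Type*} [Field F] [Fintype F] {q : ℕ}

/-- the value of the antidiagonal form on the last column of `xM q a b` -/
theorem hJ_col_xM (x : GJ 3 F q) (a b : F) (hx : mat x = xM q a b) :
    b + (-(a ^ q)) * (-(a ^ q)) ^ q + b ^ q
      = hJ 3 F q (Pi.single 2 1) (Pi.single 2 1) := by
  have h := hJ_mat x (Pi.single (2 : Fin 3) (1 : F)) (Pi.single (2 : Fin 3) (1 : F))
  rw [← h, hx]
  have hcol : xM q a b *ᵥ (Pi.single (2 : Fin 3) (1 : F)) = ![b, -(a ^ q), 1] := by
    ext i
    fin_cases i <;> simp [xM, Matrix.mulVec, dotProduct, Pi.single_apply]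
  rw [hcol]
  simp [hJ, Fin.sum_univ_three, Fin.rev]

/-- L13 -/
theorem x_ratio (hF : Fintype.card F = q ^ 2) (x x' : GJ 3 F q) (a b b' : F)
    (hx : mat x = xM q a b) (hx' : mat x' = xM q a b') :
    ∃ s : F, s + s ^ q = 0 ∧ mat (x⁻¹ * x') = xM q 0 s := by
  obtain ⟨φ, hφ, -, -⟩ := Cfsg.Agent.Lib.Helper40.GUConj.exists_frob hF
  have hq0 : q ≠ 0 := by
    rintro rfl
    have : 0 < Fintype.card F := Fintype.card_pos
    rw [hF] at this
    simp at this
  have h1 := hJ_col_xM x a b hx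
  have h2 := hJ_col_xM x' a b' hx'
  refine ⟨b' - b, ?_, ?_⟩
  · rw [← hφ, map_sub, hφ, hφ]
    have : b' + (-(a ^ q)) * (-(a ^ q)) ^ q + b' ^ q
        = b + (-(a ^ q)) * (-(a ^ q)) ^ q + b ^ q := by rw [h1, h2]
    linear_combination this
  · have hmul : mat x * xM q 0 (b' - b) = mat x' := by
      rw [hx, hx']
      ext i j
      fin_cases i <;> fin_cases j <;>
        simp [xM, Matrix.mul_apply, Fin.sum_univ_three, zero_pow hq0]
    rw [mat_mul, ← hmul, ← Matrix.mul_assoc, mat_inv_mul, Matrix.one_mul]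

end Cfsg.Agent.Lib.Helper26.RSU3
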