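import Mathlib
import Cfsg.Agent.Lib.Helper48.RSpDefs2

/-!
# K-RSp-M4 (keystone 228104, S2281, architect helper48): `uMat s` is regular unipotent.

`u - 1 = [[V, B], [0, W]]` with `V = Aalt - 1` strictly upper triangular with superdiagonal `-1`,
`W = Uupᵀ - 1 = Nupᵀ`, `B = Aalt (s E_last)`.  `(u-1)^k = [[V^k, C_k], [0, W^k]]`,
`C_{k+1} = V^k B + C_k W`; `V^n = 0 = W^n`, and the `(e_0, f_0)` entry of `(u-1)^(2n-1)` is `(-1)^(n-1) s`.
-/

set_option autoImplicit false
set_option linter.unusedVariables false

namespace Cfsg.Agent.Lib.Helper26.RSp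

open Matrix Cfsg.Agent.Lib.Helper48.RSp Cfsg.Agent.Lib.Helper18

section generic

variable {n : ℕ} {F : Type*} [Field F]

/-- powers of a strictly upper triangular matrix vanish below the `k`-th diagonal -/
theorem pow_apply_eq_zero_of_strictUpper (T : Matrix (Fin n) (Fin n) F)
    (hT : ∀ i j : Fin n, j.val ≤ i.val → T i j = 0) :
    ∀ (k : ℕ) (i j : Fin n), j.val < i.val + k → (T ^ k) i j = 0 := by
  intro k
  induction k with
  | zero =>
    intro i j h
    rw [pow_zero, Matrix.one_apply_ne]
    intro e; subst e; omega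
  | succ k ih =>
    intro i j h
    rw [pow_succ, Matrix.mul_apply]
    apply Finset.sum_eq_zero
    intro l _
    by_cases hl : l.val < i.val + k
    · rw [ih i l hl, zero_mul]
    · rw [hT l j (by omega), mul_zero]

/-- the `k`-th diagonal of the `k`-th power of a strictly upper triangular matrix with constant
superdiagonal `c` -/
theorem pow_apply_superdiag (T : Matrix (Fin n) (Fin n) F) (c : F)
    (hT : ∀ i j : Fin n, j.val ≤ i.val → T i j = 0)
    (hc : ∀ i j : Fin n, i.val + 1 = j.val → T i j = c) :
    ∀ (k : ℕ) (i j : Fin n), i.val + k = j.val → (T ^ k) i j = c ^ k := by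
  intro k
  induction k with
  | zero =>
    intro i j h
    have : i = j := Fin.ext (by omega)
    subst this
    simp
  | succ k ih =>
    intro i j h
    have hl : i.val + k < n := by have := j.isLt; omega
    rw [pow_succ, Matrix.mul_apply, Finset.sum_eq_single (⟨i.val + k, hl⟩ : Fin n)]
    · rw [ih i ⟨i.val + k, hl⟩ rfl, hc ⟨i.val + k, hl⟩ j (by simp only []; omega), pow_succ]
    · intro b _ hb
      by_cases h1 : b.val < i.val + k
      · rw [pow_apply_eq_zero_of_strictUpper T hT k i b h1, zero_mul]
      · have h2 : i.val + k < b.val := by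
          rcases Nat.lt_or_ge (i.val + k) b.val with h2 | h2
          · exact h2
          · exfalso
            apply hb
            apply Fin.ext
            simp only []
            omega
        rw [hT b j (by omega), mul_zero]
    · intro hh
      exact absurd (Finset.mem_univ _) hh

end generic

variable (m : ℕ) {F : Type*} [Field F]

theorem Aalt_sub_one_apply (i j : Fin (m + 2)) :
    (Aalt m F - 1) i j = if i.val < j.val then (-1) ^ (j.val - i.val) else 0 := by
  rw [Matrix.sub_apply, Matrix.one_apply]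
  have hA : Aalt m F i j = if i.val ≤ j.val then (-1) ^ (j.val - i.val) else 0 := rfl
  rw [hA]
  by_cases h : i = j
  · subst h; simp
  · have h' : i.val ≠ j.val := fun e => h (Fin.ext e)
    rw [if_neg h, sub_zero]
    by_cases hle : i.val ≤ j.val
    · rw [if_pos hle, if_pos (lt_of_le_of_ne hle h')]
    · rw [if_neg hle, if_neg (by omega)]

theorem Aalt_sub_one_strictUpper (i j : Fin (m + 2)) (h : j.val ≤ i.val) :
    (Aalt m F - 1) i j = 0 := by
  rw [Aalt_sub_one_apply, if_neg (by omega)]

theorem Aalt_sub_one_superdiag (i j : Fin (m + 2)) (h : i.val + 1 = j.val) :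
    (Aalt m F - 1) i j = -1 := by
  rw [Aalt_sub_one_apply, if_pos (by omega)]
  have : j.val - i.val = 1 := by omega
  rw [this, pow_one]

theorem Nup_strictUpper (i j : Fin (m + 2)) (h : j.val ≤ i.val) : Nup m F i j = 0 := by
  unfold Nup
  rw [if_neg (by omega)]

theorem Nup_superdiag (i j : Fin (m + 2)) (h : i.val + 1 = j.val) : Nup m F i j = 1 := by
  unfold Nup
  rw [if_pos h]

theorem Uup_transpose_sub_one : (Uup m F)ᵀ - 1 = (Nup m F)ᵀ := by
  unfold Uup
  rw [Matrix.transpose_add, Matrix.transpose_one, add_sub_cancel_left]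

/-- top-right blocks of the powers of a block upper triangular matrix -/
def Cblk (V B W : SM m F) : ℕ → SM m F
  | 0 => 0
  | k + 1 => V ^ k * B + Cblk V B W k * W

theorem fromBlocks_pow_upper (V B W : SM m F) (k : ℕ) :
    (Matrix.fromBlocks V B 0 W) ^ k = Matrix.fromBlocks (V ^ k) (Cblk m V B W k) 0 (W ^ k) := by
  induction k with
  | zero => simp [Cblk, Matrix.fromBlocks_one]
  | succ k ih =>
    rw [pow_succ, ih, Matrix.fromBlocks_multiply]
    simp [Cblk, pow_succ]

theorem uMat_sub_one_eq (s : F) :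
    uMat m s - 1 =
      Matrix.fromBlocks (Aalt m F - 1) (Aalt m F * (s • Elast m F)) 0 ((Uup m F)ᵀ - 1) := by
  unfold uMat
  rw [sub_eq_add_neg, ← Matrix.fromBlocks_one, Matrix.fromBlocks_neg, Matrix.fromBlocks_add]
  simp [sub_eq_add_neg]

theorem V_pow_top (m : ℕ) {F : Type*} [Field F] : (Aalt m F - 1) ^ (m + 2) = 0 := by
  ext i j
  rw [pow_apply_eq_zero_of_strictUpper _ (Aalt_sub_one_strictUpper m) (m + 2) i j
    (by have := j.isLt; omega)]
  rfl

theorem W_pow_top (m : ℕ) {F : Type*} [Field F] : ((Uup m F)ᵀ - 1) ^ (m + 2) = 0 := by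
  rw [Uup_transpose_sub_one, ← Matrix.transpose_pow]
  ext i j
  rw [Matrix.transpose_apply, pow_apply_eq_zero_of_strictUpper _ (Nup_strictUpper m) (m + 2) j i
    (by have := i.isLt; omega)]
  rfl

theorem isNilpotent_uMat_sub_one (m : ℕ) {F : Type*} [Field F] (s : F) :
    IsNilpotent (uMat m s - 1) := by
  refine ⟨(m + 2) + (m + 2), ?_⟩
  rw [pow_add, uMat_sub_one_eq, fromBlocks_pow_upper, V_pow_top, W_pow_top,
    Matrix.fromBlocks_multiply]
  simp [Matrix.fromBlocks_zero]

theorem uMat_sub_one_pow_ne_zero (m : ℕ) {F : Type*} [Field F] (s : F) (hs : s ≠ 0) :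
    (uMat m s - 1) ^ (2 * (m + 2) - 1) ≠ 0 := by
  have hexp : 2 * (m + 2) - 1 = (m + 2) + (m + 1) := by omega
  rw [hexp, pow_add, uMat_sub_one_eq, fromBlocks_pow_upper, fromBlocks_pow_upper, V_pow_top,
    W_pow_top, Matrix.fromBlocks_multiply]
  set V : SM m F := Aalt m F - 1 with hV
  set W : SM m F := (Uup m F)ᵀ - 1 with hW
  set B : SM m F := Aalt m F * (s • Elast m F) with hB
  intro h0
  -- the `(e_0, f_0)` entry
  have h1 := congrFun (congrFun h0 (Sum.inl 0)) (Sum.inr 0)
  rw [Matrix.fromBlocks_apply₁₂, Matrix.zero_apply, Matrix.zero_mul, zero_add] at h1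
  -- `C_{n} = V^(n-1) B + C_{n-1} W`
  have hC : Cblk m V B W (m + 2) * W ^ (m + 1) = V ^ (m + 1) * B * W ^ (m + 1) := by
    show (V ^ (m + 1) * B + Cblk m V B W (m + 1) * W) * W ^ (m + 1) = _
    rw [add_mul, Matrix.mul_assoc (Cblk m V B W (m + 1)), ← pow_succ', W_pow_top, Matrix.mul_zero,
      add_zero]
  rw [hC, Matrix.mul_apply] at h1
  -- only `b = last` contributes
  have hWent : ∀ b : Fin (m + 2), (W ^ (m + 1)) b 0 = if b = Fin.last (m + 1) then 1 else 0 := by
    intro b
    rw [hW, Uup_transpose_sub_one, ← Matrix.transpose_pow, Matrix.transpose_apply]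
    by_cases hb : b = Fin.last (m + 1)
    · rw [if_pos hb, hb]
      have := pow_apply_superdiag (Nup m F) 1 (Nup_strictUpper m) (Nup_superdiag m) (m + 1) 0
        (Fin.last (m + 1)) (by simp)
      rw [this, one_pow]
    · rw [if_neg hb]
      apply pow_apply_eq_zero_of_strictUpper _ (Nup_strictUpper m)
      have h2 : b.val ≠ m + 1 := fun e => hb (Fin.ext (by simp [e]))
      have := b.isLt
      simp only [Fin.val_zero]
      omega
  rw [Finset.sum_eq_single (Fin.last (m + 1))] at h1
  · rw [hWent, if_pos rfl, mul_one, Matrix.mul_apply] at h1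
    have hVent : ∀ a : Fin (m + 2), (V ^ (m + 1)) 0 a =
        if a = Fin.last (m + 1) then (-1) ^ (m + 1) else 0 := by
      intro a
      by_cases ha : a = Fin.last (m + 1)
      · rw [if_pos ha, ha]
        exact pow_apply_superdiag V (-1) (Aalt_sub_one_strictUpper m) (Aalt_sub_one_superdiag m)
          (m + 1) 0 (Fin.last (m + 1)) (by simp)
      · rw [if_neg ha]
        apply pow_apply_eq_zero_of_strictUpper _ (Aalt_sub_one_strictUpper m)
        have h2 : a.val ≠ m + 1 := fun e => ha (Fin.ext (by simp [e]))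
        have := a.isLt
        simp only [Fin.val_zero]
        omega
    rw [Finset.sum_eq_single (Fin.last (m + 1))] at h1
    · rw [hVent, if_pos rfl] at h1
      have hBent : B (Fin.last (m + 1)) (Fin.last (m + 1)) = s := by
        rw [hB, Matrix.mul_apply, Finset.sum_eq_single (Fin.last (m + 1))]
        · unfold Aalt Elast
          simp
        · intro b _ hb
          unfold Elast
          rw [Matrix.smul_apply, Matrix.single_apply_of_row_ne hb.symm, smul_zero, mul_zero]
        · intro hh; exact absurd (Finset.mem_univ _) hh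
      rw [hBent] at h1
      rcases mul_eq_zero.mp h1 with h2 | h2
      · exact absurd h2 (pow_ne_zero _ (neg_ne_zero.mpr one_ne_zero))
      · exact hs h2
    · intro a _ ha
      rw [hVent, if_neg ha, zero_mul]
    · intro hh; exact absurd (Finset.mem_univ _) hh
  · intro b _ hb
    rw [hWent, if_neg hb, mul_zero]
  · intro hh; exact absurd (Finset.mem_univ _) hh

end Cfsg.Agent.Lib.Helper26.RSp
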