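import Cfsg.Prelude.Def_LieRecognition

set_option autoImplicit false

namespace Cfsg.Agent.Lib.Helper26

open MulAction

section
variable {G Ω : Type*} [Group G] [MulAction G Ω] {a : Ω} {t : G} {Q : Subgroup G}

theorem ro_t_inv (hS : Cfsg.IsRankOneSetup G Ω a t Q) : t⁻¹ = t :=
  inv_eq_of_mul_eq_one_left hS.mul_self

theorem ro_t_smul_t_smul (hS : Cfsg.IsRankOneSetup G Ω a t Q) (b : Ω) : t • t • b = b := by
  rw [← mul_smul, hS.mul_self, one_smul]

theorem ro_ta_ne (hS : Cfsg.IsRankOneSetup G Ω a t Q) : t • a ≠ a := fun h =>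
  hS.not_mem (mem_stabilizer_iff.mpr h)

/-- `t` normalizes the two point stabilizer `D`. -/
theorem ro_conj_t_mem_D (hS : Cfsg.IsRankOneSetup G Ω a t Q) {d : G}
    (hd : d ∈ stabilizer G a ⊓ stabilizer G (t • a)) :
    t * d * t ∈ stabilizer G a ⊓ stabilizer G (t • a) := by
  obtain ⟨h1, h2⟩ := Subgroup.mem_inf.mp hd
  rw [mem_stabilizer_iff] at h1 h2
  refine Subgroup.mem_inf.mpr ⟨?_, ?_⟩
  · rw [mem_stabilizer_iff, mul_smul, mul_smul, h2, ro_t_smul_t_smul hS]
  · rw [mem_stabilizer_iff, mul_smul, mul_smul, ro_t_smul_t_smul hS, h1]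

theorem ro_D_le (_hS : Cfsg.IsRankOneSetup G Ω a t Q) :
    stabilizer G a ⊓ stabilizer G (t • a) ≤ stabilizer G a := inf_le_left

theorem ro_Q_inf_D (hS : Cfsg.IsRankOneSetup G Ω a t Q) {x : G} (hx : x ∈ Q)
    (hxD : x ∈ stabilizer G (t • a)) : x = 1 := by
  have : x ∈ Q ⊓ stabilizer G (t • a) := Subgroup.mem_inf.mpr ⟨hx, hxD⟩
  rw [hS.inf_eq_bot, Subgroup.mem_bot] at this
  exact this

/-- Uniqueness of the canonical form `g h t f`. -/
theorem ro_uniq (hS : Cfsg.IsRankOneSetup G Ω a t Q) {g h f g' h' f' : G}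
    (hg : g ∈ Q) (hh : h ∈ stabilizer G a ⊓ stabilizer G (t • a)) (hf : f ∈ Q)
    (hg' : g' ∈ Q) (hh' : h' ∈ stabilizer G a ⊓ stabilizer G (t • a)) (hf' : f' ∈ Q)
    (heq : g * h * t * f = g' * h' * t * f') : g = g' ∧ h = h' ∧ f = f' := by
  have hti := ro_t_inv hS
  -- e = f' f⁻¹
  have he : t * (f' * f⁻¹) * t = (g' * h')⁻¹ * (g * h) := by
    have : g * h = g' * h' * t * f' * f⁻¹ * t⁻¹ := by
      rw [← heq]; group
    rw [this, hti]; group
  have hGa : (g' * h')⁻¹ * (g * h) ∈ stabilizer G a :=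
    mul_mem (inv_mem (mul_mem (hS.le hg') (Subgroup.mem_inf.mp hh').1))
      (mul_mem (hS.le hg) (Subgroup.mem_inf.mp hh).1)
  rw [← he, mem_stabilizer_iff, mul_smul, mul_smul] at hGa
  have hfix : (f' * f⁻¹) • t • a = t • a := by
    have := congrArg (fun b => t • b) hGa
    simp only [ro_t_smul_t_smul hS] at this
    exact this
  have hff : f' * f⁻¹ = 1 := ro_Q_inf_D hS (mul_mem hf' (inv_mem hf)) (mem_stabilizer_iff.mpr hfix)
  have hff' : f = f' := (mul_inv_eq_one.mp hff).symm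
  subst hff'
  have h2 : g * h = g' * h' := by
    have := heq
    simp only [mul_assoc] at this
    have h3 : g * (h * (t * f)) * (t * f)⁻¹ = g' * (h' * (t * f)) * (t * f)⁻¹ := by rw [this]
    simpa [mul_assoc] using h3
  have h3 : g'⁻¹ * g = h' * h⁻¹ := by
    have : g = g' * h' * h⁻¹ := by rw [← h2]; group
    rw [this]; group
  have h4 : g'⁻¹ * g = 1 := by
    apply ro_Q_inf_D hS (mul_mem (inv_mem hg') hg)
    rw [h3]
    exact mul_mem (Subgroup.mem_inf.mp hh').2 (inv_mem (Subgroup.mem_inf.mp hh).2)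
  have h5 : g = g' := by
    have := inv_mul_eq_one.mp h4
    exact this.symm
  subst h5
  refine ⟨rfl, ?_, rfl⟩
  exact mul_left_cancel h2

end

end Cfsg.Agent.Lib.Helper26
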