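import Cfsg.Agent.Lib.Helper26.RankOneInv

set_option autoImplicit false

namespace Cfsg.Agent.Lib.Helper26

open MulAction

section
variable {G Ω : Type*} [Group G] [MulAction G Ω] {a : Ω} {t : G} {Q : Subgroup G}

/-- The set-up only depends on `t` through `t • a`. -/
theorem ro_change_t (hS : Cfsg.IsRankOneSetup G Ω a t Q) {t' : G} (htt : t' * t' = 1)
    (hta : t' • a = t • a) : Cfsg.IsRankOneSetup G Ω a t' Q := by
  have hne : t' • a ≠ a := by rw [hta]; exact ro_ta_ne hS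
  refine
    { two_transitive := hS.two_transitive
      mul_self := htt
      ne_one := ?_
      not_mem := ?_
      le := hS.le
      conj_mem := hS.conj_mem
      inf_eq_bot := ?_
      sup_eq := ?_
      even_card := hS.even_card
      odd_card := ?_ }
  · intro h; rw [h, one_smul] at hne; exact hne rfl
  · intro h; exact hne (mem_stabilizer_iff.mp h)
  · rw [hta]; exact hS.inf_eq_bot
  · rw [hta]; exact hS.sup_eq
  · rw [hta]; exact hS.odd_card

/-- A subset of `D` fixing a third point is conjugate under `D` into `C(t)`. -/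
theorem ro_conj_into_Ct [Finite G] (hS : Cfsg.IsRankOneSetup G Ω a t Q) {X : Set G}
    (hX : X ⊆ ((stabilizer G a ⊓ stabilizer G (t • a) : Subgroup G) : Set G)) {c : Ω} (hca : c ≠ a)
    (hcb : c ≠ t • a) (hfix : ∀ x ∈ X, x • c = c) :
    ∃ k ∈ stabilizer G a ⊓ stabilizer G (t • a), ∀ x ∈ X, (k * x * k⁻¹) * t = t * (k * x * k⁻¹) := by
  obtain ⟨s, hsc, hss, hsa, hsb⟩ := ro_key hS hX hca hcb hfix
  obtain ⟨k, hk, hks⟩ := ro_swap_conj hS hss hsa hsb
  refine ⟨k, hk, fun x hx => ?_⟩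
  have hc : x * s = s * x := (Subgroup.mem_centralizer_iff.mp hsc) x hx
  rw [← hks]
  calc k * x * k⁻¹ * (k * s * k⁻¹) = k * (x * s) * k⁻¹ := by group
    _ = k * (s * x) * k⁻¹ := by rw [hc]
    _ = k * s * k⁻¹ * (k * x * k⁻¹) := by group

/-- First half of part 1: `C_D(t) ≤ C_D(s)`. -/
theorem ro_Ct_le_Cs [Finite G] (hS : Cfsg.IsRankOneSetup G Ω a t Q) {s r : G}
    (hsa : s ∈ stabilizer G a) (hr : r ∈ Q) (h : t * s * t = r⁻¹ * t * r) {d : G}
    (hd : d ∈ stabilizer G a ⊓ stabilizer G (t • a)) (hdt : t * d = d * t) : s * d = d * s := by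
  have htt := hS.mul_self
  have htt' : ∀ y : G, t * (t * y) = y := fun y => by rw [← mul_assoc, htt, one_mul]
  obtain ⟨p, htp, hpu⟩ := ro_invol_fix hS hS.ne_one htt
  -- `t` fixes `r • t • a`
  have h1 : t • r • t • a = r • t • a := by
    have h2 : (t * s * t) • t • a = t • a := by
      rw [mul_smul, mul_smul, ro_t_smul_t_smul hS, mem_stabilizer_iff.mp hsa]
    rw [h, mul_smul, mul_smul, inv_smul_eq_iff] at h2
    exact h2
  have hp : r • t • a = p := hpu _ h1
  -- `d` fixes `p`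
  have hdp : d • p = p := by
    apply hpu
    rw [← mul_smul, hdt, mul_smul, htp]
  have hda : d ∈ stabilizer G a := (Subgroup.mem_inf.mp hd).1
  have hdb : d • t • a = t • a := (ro_mem_D_iff.mp hd).2
  have hdr : d * r * d⁻¹ = r := by
    apply ro_free hS (hS.conj_mem d hda r hr) hr
    rw [mul_smul, mul_smul]
    have : d⁻¹ • t • a = t • a := by rw [inv_smul_eq_iff, hdb]
    rw [this, hp, hdp]
  have hdr' : r * d = d * r := by
    calc r * d = (d * r * d⁻¹) * d := by rw [hdr]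
      _ = d * r := by group
  have hdr'' : r⁻¹ * d = d * r⁻¹ := by
    have : r⁻¹ * (r * d) * r⁻¹ = r⁻¹ * (d * r) * r⁻¹ := by rw [hdr']
    simpa [mul_assoc] using this.symm
  have hs : s = t * r⁻¹ * t * r * t := by
    have : s = t * (t * s * t) * t := by
      simp only [mul_assoc, htt', htt, mul_one]
    rw [this, h]; simp only [mul_assoc]
  rw [hs]
  simp only [mul_assoc]
  rw [hdt, ← mul_assoc r, hdr', mul_assoc, ← mul_assoc t d, hdt, mul_assoc, ← mul_assoc r⁻¹ d, hdr'',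
    mul_assoc, ← mul_assoc t d, hdt, mul_assoc]

/-- Part 1: `C_D(t) = C_D(s)` when `t s t = r⁻¹ t r`. -/
theorem ro_part1 [Finite G] (hS : Cfsg.IsRankOneSetup G Ω a t Q) {s r : G}
    (hs : s ∈ Cfsg.involutionsIn (stabilizer G a : Set G)) (hr : r ∈ Q)
    (h : t * s * t = r⁻¹ * t * r) :
    (stabilizer G a ⊓ stabilizer G (t • a)) ⊓ Subgroup.centralizer {t}
      = (stabilizer G a ⊓ stabilizer G (t • a)) ⊓ Subgroup.centralizer {s} := by
  obtain ⟨hsa, hs1, hss⟩ := hs
  have hsQ : s ∈ Q := ro_invol_mem_Q hS hsa hss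
  have hle : (stabilizer G a ⊓ stabilizer G (t • a)) ⊓ Subgroup.centralizer {t}
      ≤ (stabilizer G a ⊓ stabilizer G (t • a)) ⊓ Subgroup.centralizer {s} := by
    intro d hd
    obtain ⟨hdD, hdc⟩ := Subgroup.mem_inf.mp hd
    refine Subgroup.mem_inf.mpr ⟨hdD, ?_⟩
    rw [Subgroup.mem_centralizer_iff]
    intro y hy
    rw [Set.mem_singleton_iff.mp hy]
    exact ro_Ct_le_Cs hS hsa hr h hdD ((Subgroup.mem_centralizer_iff.mp hdc) t rfl)
  -- the other inclusion by a cardinality argument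
  have hX : (((stabilizer G a ⊓ stabilizer G (t • a)) ⊓ Subgroup.centralizer {s} : Subgroup G) : Set G)
      ⊆ ((stabilizer G a ⊓ stabilizer G (t • a) : Subgroup G) : Set G) := fun x hx =>
    (Subgroup.mem_inf.mp hx).1
  have hca : s • t • a ≠ a := ro_smul_ne_a hS hsQ
  have hcb : s • t • a ≠ t • a := fun h' => hs1 (ro_Q_inf_D hS hsQ (mem_stabilizer_iff.mpr h'))
  have hfix : ∀ x ∈ (((stabilizer G a ⊓ stabilizer G (t • a)) ⊓ Subgroup.centralizer {s} : Subgroup G) : Set G),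
      x • s • t • a = s • t • a := by
    intro x hx
    obtain ⟨hxD, hxc⟩ := Subgroup.mem_inf.mp hx
    have : s * x = x * s := (Subgroup.mem_centralizer_iff.mp hxc) s rfl
    rw [← mul_smul, ← this, mul_smul, (ro_mem_D_iff.mp hxD).2]
  obtain ⟨k, hk, hkc⟩ := ro_conj_into_Ct hS hX hca hcb hfix
  have hmap : ((stabilizer G a ⊓ stabilizer G (t • a)) ⊓ Subgroup.centralizer {s}).map (MulAut.conj k).toMonoidHom
      ≤ (stabilizer G a ⊓ stabilizer G (t • a)) ⊓ Subgroup.centralizer {t} := by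
    rintro y ⟨x, hx, rfl⟩
    simp only [MulEquiv.coe_toMonoidHom, MulAut.conj_apply]
    refine Subgroup.mem_inf.mpr ⟨mul_mem (mul_mem hk (Subgroup.mem_inf.mp hx).1) (inv_mem hk), ?_⟩
    rw [Subgroup.mem_centralizer_iff]
    intro y hy
    rw [Set.mem_singleton_iff.mp hy]
    exact (hkc x hx).symm
  have hcard : Nat.card ↥((stabilizer G a ⊓ stabilizer G (t • a)) ⊓ Subgroup.centralizer {s})
      ≤ Nat.card ↥((stabilizer G a ⊓ stabilizer G (t • a)) ⊓ Subgroup.centralizer {t}) := by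
    rw [← Subgroup.card_map_of_injective (f := (MulAut.conj k).toMonoidHom) (MulAut.conj k).injective]
    exact Subgroup.card_le_of_le hmap
  exact Subgroup.eq_of_le_of_card_ge hle hcard

/-- Every involution `s` of `G_a` satisfies `t' s t' = r'⁻¹ t' r'` for some involution `t'`
swapping `a` and `t • a` and some `r' ∈ Q`. -/
theorem ro_phi_surj [Finite G] (hS : Cfsg.IsRankOneSetup G Ω a t Q) {s : G}
    (hs : s ∈ Cfsg.involutionsIn (stabilizer G a : Set G)) :
    ∃ t' r' : G, t' * t' = 1 ∧ t' • a = t • a ∧ r' ∈ Q ∧ t' * s * t' = r'⁻¹ * t' * r' := by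
  obtain ⟨hsa, hs1, hss⟩ := hs
  have hsQ : s ∈ Q := ro_invol_mem_Q hS hsa hss
  have hti := ro_t_inv hS
  have htta : t • t • a = a := ro_t_smul_t_smul hS a
  have hcb : s • t • a ≠ t • a := fun h' => hs1 (ro_Q_inf_D hS hsQ (mem_stabilizer_iff.mpr h'))
  obtain ⟨q', hq', hq'a⟩ := ro_trans (ro_symm hS) hcb
  rw [htta] at hq'a
  have hq'b : q' • t • a = t • a := mem_stabilizer_iff.mp ((ro_symm hS).le hq')
  obtain ⟨r₁, hr₁, hr₁q⟩ := hq'
  simp only [MulEquiv.coe_toMonoidHom, MulAut.conj_apply] at hr₁q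
  -- t' = q'⁻¹ s q'
  have ht't' : (q'⁻¹ * s * q') * (q'⁻¹ * s * q') = 1 := by
    have : (q'⁻¹ * s * q') * (q'⁻¹ * s * q') = q'⁻¹ * (s * s) * q' := by group
    rw [this, hss]; group
  have ht'b : (q'⁻¹ * s * q') • t • a = a := by
    rw [mul_smul, mul_smul, hq'b, inv_smul_eq_iff, hq'a]
  have ht'a : (q'⁻¹ * s * q') • a = t • a := by
    have : (q'⁻¹ * s * q') • (q'⁻¹ * s * q') • t • a = t • a := by
      rw [← mul_smul, ht't', one_smul]
    rw [ht'b] at this
    exact this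
  -- t' t ∈ G_a
  have ht'tGa : (q'⁻¹ * s * q') * t ∈ stabilizer G a := by
    rw [mem_stabilizer_iff, mul_smul, ht'b]
  refine ⟨q'⁻¹ * s * q', (((q'⁻¹ * s * q') * t) * r₁ * ((q'⁻¹ * s * q') * t)⁻¹)⁻¹, ht't', ht'a, ?_, ?_⟩
  · exact inv_mem (hS.conj_mem _ ht'tGa r₁ hr₁)
  · rw [inv_inv]
    have ht'i : (q'⁻¹ * s * q')⁻¹ = q'⁻¹ * s * q' := inv_eq_of_mul_eq_one_left ht't'
    generalize htdef : q'⁻¹ * s * q' = t' at *
    have hs' : s = q' * t' * q'⁻¹ := by rw [← htdef]; group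
    have hq'' : q' = t * r₁ * t := by rw [← hr₁q, hti]
    have e1 : (t' * t * r₁ * (t' * t)⁻¹) = t' * q' * t' := by
      rw [mul_inv_rev, hti, ht'i, hq'']; simp only [mul_assoc]
    rw [e1, hs']
    have h1 : ∀ y : G, t' * (t' * y) = y := fun y => by rw [← mul_assoc, ht't', one_mul]
    simp only [mul_assoc, mul_inv_rev, ht'i, ht't', mul_one]

/-- There exist an involution `s` of `G_a` and `r ∈ Q` with `t s t = r⁻¹ t r`. -/
theorem ro_exists_sr [Finite G] (hS : Cfsg.IsRankOneSetup G Ω a t Q) :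
    ∃ s ∈ Cfsg.involutionsIn (stabilizer G a : Set G), ∃ r ∈ Q, t * s * t = r⁻¹ * t * r := by
  obtain ⟨z, hzQ, hz1, hzz⟩ := ro_exists_invol hS
  have hz : z ∈ Cfsg.involutionsIn (stabilizer G a : Set G) := ⟨hS.le hzQ, hz1, hzz⟩
  obtain ⟨t', r', ht't', ht'a, hr', hrel⟩ := ro_phi_surj hS hz
  have ht'b : t' • t • a = a := by
    rw [← ht'a, ← mul_smul, ht't', one_smul]
  obtain ⟨k, hk, hkt⟩ := ro_swap_conj hS ht't' ht'a ht'b
  have hka : k ∈ stabilizer G a := (Subgroup.mem_inf.mp hk).1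
  refine ⟨k * z * k⁻¹, ⟨?_, ?_, ?_⟩, k * r' * k⁻¹, hS.conj_mem k hka r' hr', ?_⟩
  · exact mul_mem (mul_mem hka (hS.le hzQ)) (inv_mem hka)
  · intro h
    apply hz1
    have : z = k⁻¹ * (k * z * k⁻¹) * k := by group
    rw [this, h]; group
  · have : (k * z * k⁻¹) * (k * z * k⁻¹) = k * (z * z) * k⁻¹ := by group
    rw [this, hzz]; group
  · rw [← hkt]
    have e1 : k * t' * k⁻¹ * (k * z * k⁻¹) * (k * t' * k⁻¹) = k * (t' * z * t') * k⁻¹ := by group
    rw [e1, hrel]; group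

/-- An element of `D` centralizing all involutions of `G_a` centralizes `t`. -/
theorem ro_Ia_cent_t [Finite G] (hS : Cfsg.IsRankOneSetup G Ω a t Q) {d : G}
    (hd : d ∈ stabilizer G a ⊓ stabilizer G (t • a))
    (hdI : d ∈ Subgroup.centralizer (Cfsg.involutionsIn (stabilizer G a : Set G))) :
    t * d = d * t := by
  obtain ⟨s, hs, r, hr, hrel⟩ := ro_exists_sr hS
  have h1 := ro_part1 hS hs hr hrel
  have h2 : d ∈ (stabilizer G a ⊓ stabilizer G (t • a)) ⊓ Subgroup.centralizer {s} := by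
    refine Subgroup.mem_inf.mpr ⟨hd, ?_⟩
    rw [Subgroup.mem_centralizer_iff]
    intro y hy
    rw [Set.mem_singleton_iff.mp hy]
    exact (Subgroup.mem_centralizer_iff.mp hdI) s hs
  rw [← h1] at h2
  exact (Subgroup.mem_centralizer_iff.mp (Subgroup.mem_inf.mp h2).2) t rfl

end

end Cfsg.Agent.Lib.Helper26
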