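import Cfsg.Agent.Lib.Helper26.RankOne
import Cfsg.Agent.Lib.Helper26.Dihedral

set_option autoImplicit false

namespace Cfsg.Agent.Lib.Helper26

open MulAction

section
variable {G Ω : Type*} [Group G] [MulAction G Ω] {a : Ω} {t : G} {Q : Subgroup G}

theorem ro_mem_D_iff {a : Ω} {t : G} {d : G} :
    d ∈ stabilizer G a ⊓ stabilizer G (t • a) ↔ d • a = a ∧ d • t • a = t • a := by
  rw [Subgroup.mem_inf, mem_stabilizer_iff, mem_stabilizer_iff]

/-- `D` normalizes `Q`. -/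
theorem ro_D_le_normalizer (hS : Cfsg.IsRankOneSetup G Ω a t Q) :
    stabilizer G a ⊓ stabilizer G (t • a) ≤ Subgroup.normalizer (Q : Set G) := by
  intro h hh
  have hha : h ∈ stabilizer G a := (Subgroup.mem_inf.mp hh).1
  rw [Subgroup.mem_normalizer_iff]
  intro x
  constructor
  · intro hx; exact hS.conj_mem h hha x hx
  · intro hx
    have := hS.conj_mem h⁻¹ (inv_mem hha) _ hx
    have e : h⁻¹ * (h * x * h⁻¹) * h⁻¹⁻¹ = x := by group
    rw [e] at this; exact this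

/-- `G_a = Q D` elementwise. -/
theorem ro_exists_mul (hS : Cfsg.IsRankOneSetup G Ω a t Q) {g : G} (hg : g ∈ stabilizer G a) :
    ∃ q ∈ Q, ∃ d ∈ stabilizer G a ⊓ stabilizer G (t • a), g = q * d := by
  have h1 := Subgroup.coe_mul_of_right_le_normalizer_left Q _ (ro_D_le_normalizer hS)
  rw [hS.sup_eq] at h1
  have : g ∈ ((stabilizer G a : Subgroup G) : Set G) := hg
  rw [h1] at this
  obtain ⟨q, hq, d, hd, rfl⟩ := this
  exact ⟨q, hq, d, hd, rfl⟩

theorem ro_two_trans (hS : Cfsg.IsRankOneSetup G Ω a t Q) {p p' r r' : Ω} (h : p ≠ p') (h' : r ≠ r') :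
    ∃ g : G, g • p = r ∧ g • p' = r' :=
  MulAction.is_two_pretransitive_iff.mp hS.two_transitive h h'

/-- `Q` is transitive on the points other than `a`. -/
theorem ro_trans (hS : Cfsg.IsRankOneSetup G Ω a t Q) {c : Ω} (hc : c ≠ a) :
    ∃ q ∈ Q, q • t • a = c := by
  obtain ⟨g, hga, hgb⟩ := ro_two_trans hS (p := a) (p' := t • a) (r := a) (r' := c)
    (ro_ta_ne hS).symm hc.symm
  obtain ⟨q, hq, d, hd, rfl⟩ := ro_exists_mul hS (mem_stabilizer_iff.mpr hga)
  refine ⟨q, hq, ?_⟩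
  rw [← hgb, mul_smul, (ro_mem_D_iff.mp hd).2]

/-- `Q` acts freely on the orbit of `t • a`. -/
theorem ro_free (hS : Cfsg.IsRankOneSetup G Ω a t Q) {q q' : G} (hq : q ∈ Q) (hq' : q' ∈ Q)
    (h : q • t • a = q' • t • a) : q = q' := by
  have h1 : q'⁻¹ * q = 1 := by
    apply ro_Q_inf_D hS (mul_mem (inv_mem hq') hq)
    rw [mem_stabilizer_iff, mul_smul, h, inv_smul_smul]
  have := inv_mul_eq_one.mp h1
  exact this.symm

/-- A non-identity element of `Q` fixes only `a`. -/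
theorem ro_free' (hS : Cfsg.IsRankOneSetup G Ω a t Q) {q : G} (hq : q ∈ Q) {c : Ω} (hc : c ≠ a)
    (h : q • c = c) : q = 1 := by
  obtain ⟨q₀, hq₀, rfl⟩ := ro_trans hS hc
  have : (q * q₀) • t • a = q₀ • t • a := by rw [mul_smul, h]
  have h2 := ro_free hS (mul_mem hq hq₀) hq₀ this
  exact mul_eq_right.mp h2

theorem ro_smul_ne_a (hS : Cfsg.IsRankOneSetup G Ω a t Q) {q : G} (hq : q ∈ Q) :
    q • t • a ≠ a := by
  intro h
  have h1 : q • a = a := mem_stabilizer_iff.mp (hS.le hq)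
  have : q • t • a = q • a := by rw [h, h1]
  exact ro_ta_ne hS (smul_left_cancel q this)

/-- Elements of `Q` moving `t • a` to a fixed point of `X ⊆ D` centralize `X`. -/
theorem ro_cent (hS : Cfsg.IsRankOneSetup G Ω a t Q) {X : Set G}
    (hX : X ⊆ ((stabilizer G a ⊓ stabilizer G (t • a) : Subgroup G) : Set G)) {q : G} (hq : q ∈ Q)
    (hfix : ∀ x ∈ X, x • q • t • a = q • t • a) : q ∈ Subgroup.centralizer X := by
  rw [Subgroup.mem_centralizer_iff]
  intro x hx
  have hxD := hX hx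
  have hxa : x ∈ stabilizer G a := (Subgroup.mem_inf.mp hxD).1
  have hxb : x • t • a = t • a := (ro_mem_D_iff.mp hxD).2
  have h1 : x * q * x⁻¹ ∈ Q := hS.conj_mem x hxa q hq
  have h2 : (x * q * x⁻¹) • t • a = q • t • a := by
    rw [mul_smul, mul_smul]
    have : x⁻¹ • t • a = t • a := by
      rw [inv_smul_eq_iff, hxb]
    rw [this, hfix x hx]
  have h3 := ro_free hS h1 hq h2
  calc x * q = (x * q * x⁻¹) * x := by group
    _ = q * x := by rw [h3]

/-- The set-up is symmetric in `a` and `t • a`. -/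
theorem ro_symm (hS : Cfsg.IsRankOneSetup G Ω a t Q) :
    Cfsg.IsRankOneSetup G Ω (t • a) t (Q.map (MulAut.conj t).toMonoidHom) := by
  have hti := ro_t_inv hS
  have htta : t • t • a = a := ro_t_smul_t_smul hS a
  have hD : stabilizer G (t • a) ⊓ stabilizer G (t • t • a) = stabilizer G a ⊓ stabilizer G (t • a) := by
    rw [htta, inf_comm]
  have hDmap : (stabilizer G a ⊓ stabilizer G (t • a)).map (MulAut.conj t).toMonoidHom
      = stabilizer G a ⊓ stabilizer G (t • a) := by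
    ext x
    constructor
    · rintro ⟨d, hd, rfl⟩
      have := ro_conj_t_mem_D hS hd
      simpa [hti] using this
    · intro hx
      refine ⟨t * x * t, ro_conj_t_mem_D hS hx, ?_⟩
      simp only [MulEquiv.coe_toMonoidHom, MulAut.conj_apply, hti, mul_assoc]
      rw [hS.mul_self, mul_one, ← mul_assoc, hS.mul_self, one_mul]
  refine
    { two_transitive := hS.two_transitive
      mul_self := hS.mul_self
      ne_one := hS.ne_one
      not_mem := ?_
      le := ?_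
      conj_mem := ?_
      inf_eq_bot := ?_
      sup_eq := ?_
      even_card := ?_
      odd_card := ?_ }
  · rw [mem_stabilizer_iff, htta]
    exact (ro_ta_ne hS).symm
  · rw [stabilizer_smul_eq_stabilizer_map_conj]
    exact Subgroup.map_mono hS.le
  · intro h hh x hx
    obtain ⟨q, hq, rfl⟩ := hx
    have h1 : t⁻¹ * h * t ∈ stabilizer G a := by
      rw [mem_stabilizer_iff, mul_smul, mul_smul, mem_stabilizer_iff.mp hh, inv_smul_smul]
    refine ⟨(t⁻¹ * h * t) * q * (t⁻¹ * h * t)⁻¹, hS.conj_mem _ h1 q hq, ?_⟩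
    simp only [MulEquiv.coe_toMonoidHom, MulAut.conj_apply]
    group
  · rw [htta, eq_bot_iff]
    intro x hx
    obtain ⟨hx1, hx2⟩ := Subgroup.mem_inf.mp hx
    obtain ⟨q, hq, rfl⟩ := hx1
    simp only [MulEquiv.coe_toMonoidHom, MulAut.conj_apply] at hx2 ⊢
    rw [mem_stabilizer_iff, mul_smul, mul_smul] at hx2
    have h1 : q • t • a = t • a := by
      rw [hti] at hx2
      calc q • t • a = t • t • q • t • a := (ro_t_smul_t_smul hS _).symm
        _ = t • a := by rw [hx2]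
    have := ro_Q_inf_D hS hq (mem_stabilizer_iff.mpr h1)
    rw [this, Subgroup.mem_bot]; group
  · rw [hD, ← hDmap, ← Subgroup.map_sup, hS.sup_eq, stabilizer_smul_eq_stabilizer_map_conj]
  · rw [Subgroup.card_map_of_injective (MulAut.conj t).injective]
    exact hS.even_card
  · rw [hD]
    exact hS.odd_card

/-- transitivity of `C_Q(X)` on `Fix(X) \ {a}`. -/
theorem ro_fix_trans (hS : Cfsg.IsRankOneSetup G Ω a t Q) {X : Set G}
    (hX : X ⊆ ((stabilizer G a ⊓ stabilizer G (t • a) : Subgroup G) : Set G)) {p : Ω} (hp : p ≠ a)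
    (hfix : ∀ x ∈ X, x • p = p) :
    ∃ q ∈ Q, q ∈ Subgroup.centralizer X ∧ q • t • a = p := by
  obtain ⟨q, hq, rfl⟩ := ro_trans hS hp
  exact ⟨q, hq, ro_cent hS hX hq hfix, rfl⟩

/-- symmetric version: transitivity of `C_{tQt}(X)` on `Fix(X) \ {t • a}`. -/
theorem ro_fix_trans' (hS : Cfsg.IsRankOneSetup G Ω a t Q) {X : Set G}
    (hX : X ⊆ ((stabilizer G a ⊓ stabilizer G (t • a) : Subgroup G) : Set G)) {p : Ω} (hp : p ≠ t • a)
    (hfix : ∀ x ∈ X, x • p = p) :
    ∃ q' ∈ Q.map (MulAut.conj t).toMonoidHom, q' ∈ Subgroup.centralizer X ∧ q' • a = p := by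
  have hS' := ro_symm hS
  have htta : t • t • a = a := ro_t_smul_t_smul hS a
  have hX' : X ⊆ ((stabilizer G (t • a) ⊓ stabilizer G (t • t • a) : Subgroup G) : Set G) := by
    rw [htta, inf_comm]; exact hX
  obtain ⟨q, hq, hqc, hqp⟩ := ro_fix_trans hS' hX' hp hfix
  rw [htta] at hqp
  exact ⟨q, hq, hqc, hqp⟩

theorem ro_swap_pow {g : G} {p p' : Ω} (h1 : g • p = p') (h2 : g • p' = p) (k : ℕ) :
    g ^ (2 * k) • p = p ∧ g ^ (2 * k + 1) • p = p' := by
  induction k with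
  | zero => simp [h1]
  | succ k ih =>
    have e1 : g ^ (2 * (k + 1)) • p = p := by
      have : 2 * (k + 1) = (2 * k + 1) + 1 := by ring
      rw [this, pow_succ', mul_smul, ih.2, h2]
    refine ⟨e1, ?_⟩
    rw [pow_succ', mul_smul, e1, h1]

/-- Key lemma: if `X ⊆ D` fixes a third point then some involution of `C_G(X)` swaps `a` and `t • a`. -/
theorem ro_key [Finite G] (hS : Cfsg.IsRankOneSetup G Ω a t Q) {X : Set G}
    (hX : X ⊆ ((stabilizer G a ⊓ stabilizer G (t • a) : Subgroup G) : Set G)) {c : Ω} (hca : c ≠ a)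
    (hcb : c ≠ t • a) (hfix : ∀ x ∈ X, x • c = c) :
    ∃ s ∈ Subgroup.centralizer X, s * s = 1 ∧ s • a = t • a ∧ s • t • a = a := by
  have hQ'b : ∀ q' ∈ Q.map (MulAut.conj t).toMonoidHom, q' • t • a = t • a := fun q' hq' =>
    mem_stabilizer_iff.mp ((ro_symm hS).le hq')
  have hXb : ∀ x ∈ X, x • t • a = t • a := fun x hx => (ro_mem_D_iff.mp (hX hx)).2
  obtain ⟨q₁, hq₁, hq₁c, hq₁a⟩ := ro_fix_trans' hS hX hcb hfix
  obtain ⟨q, hq, hqc, hqb⟩ := ro_fix_trans hS hX hca hfix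
  have hqa : q • a = a := mem_stabilizer_iff.mp (hS.le hq)
  have hq1 : q ≠ 1 := by
    intro h; rw [h, one_smul] at hqb; exact hcb hqb.symm
  have hea : q⁻¹ • t • a ≠ a := ro_smul_ne_a hS (inv_mem hq)
  have heb : q⁻¹ • t • a ≠ t • a := by
    intro h
    have := ro_free' hS (inv_mem hq) (ro_ta_ne hS) h
    exact hq1 (inv_eq_one.mp this)
  have hefix : ∀ x ∈ X, x • q⁻¹ • t • a = q⁻¹ • t • a := by
    intro x hx
    have hc := (Subgroup.mem_centralizer_iff.mp (inv_mem hqc)) x hx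
    rw [← mul_smul, hc, mul_smul, hXb x hx]
  obtain ⟨q₃, hq₃, hq₃c, hq₃a⟩ := ro_fix_trans' hS hX heb hefix
  have hga : (q₃⁻¹ * q⁻¹ * q₁) • a = t • a := by
    rw [mul_smul, mul_smul, hq₁a, ← hqb, inv_smul_smul, inv_smul_eq_iff, hQ'b q₃ hq₃]
  have hgb : (q₃⁻¹ * q⁻¹ * q₁) • t • a = a := by
    rw [mul_smul, mul_smul, hQ'b q₁ hq₁, inv_smul_eq_iff, hq₃a]
  have hgc : q₃⁻¹ * q⁻¹ * q₁ ∈ Subgroup.centralizer X :=
    mul_mem (mul_mem (inv_mem hq₃c) (inv_mem hqc)) hq₁c
  generalize q₃⁻¹ * q⁻¹ * q₁ = g at hga hgb hgc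
  have hggD : g * g ∈ stabilizer G a ⊓ stabilizer G (t • a) := by
    rw [ro_mem_D_iff, mul_smul, mul_smul, hga, hgb, hga]
    exact ⟨rfl, rfl⟩
  have hodd : Odd (orderOf (g * g)) :=
    hS.odd_card.of_dvd_nat (Subgroup.orderOf_dvd_natCard _ hggD)
  obtain ⟨k, hk⟩ := hodd
  refine ⟨g ^ (2 * k + 1), pow_mem hgc _, ?_, (ro_swap_pow hga hgb k).2, ?_⟩
  · rw [← pow_add, ← two_mul, pow_mul, pow_two, ← hk, pow_orderOf_eq_one]
  · have := (ro_swap_pow hgb hga k).2
    exact this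

/-- Among three distinct common fixed points one is different from `a` and `t • a`. -/
theorem ro_third_point {X : Set G} {a b : Ω}
    (h3 : ∃ p c d : Ω, p ≠ c ∧ p ≠ d ∧ c ≠ d ∧ ∀ x ∈ X, x • p = p ∧ x • c = c ∧ x • d = d) :
    ∃ c : Ω, c ≠ a ∧ c ≠ b ∧ ∀ x ∈ X, x • c = c := by
  obtain ⟨p, c, d, hpc, hpd, hcd, hfix⟩ := h3
  by_cases h1 : p ≠ a ∧ p ≠ b
  · exact ⟨p, h1.1, h1.2, fun x hx => (hfix x hx).1⟩
  by_cases h2 : c ≠ a ∧ c ≠ b
  · exact ⟨c, h2.1, h2.2, fun x hx => (hfix x hx).2.1⟩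
  refine ⟨d, ?_, ?_, fun x hx => (hfix x hx).2.2⟩
  · rintro rfl
    rcases not_and_or.mp h1 with h | h <;> rcases not_and_or.mp h2 with h' | h'
    · exact hpd (not_not.mp h)
    · exact hpd (not_not.mp h)
    · exact hcd (not_not.mp h')
    · exact hpc ((not_not.mp h).trans (not_not.mp h').symm)
  · rintro rfl
    rcases not_and_or.mp h1 with h | h <;> rcases not_and_or.mp h2 with h' | h'
    · exact hpc ((not_not.mp h).trans (not_not.mp h').symm)
    · exact hcd (not_not.mp h')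
    · exact hpd (not_not.mp h)
    · exact hpd (not_not.mp h)

/-- An involution swapping `a` and `t • a` is conjugate to `t` under `D`. -/
theorem ro_swap_conj [Finite G] (hS : Cfsg.IsRankOneSetup G Ω a t Q) {s : G} (hss : s * s = 1)
    (hsa : s • a = t • a) (hsb : s • t • a = a) :
    ∃ k ∈ stabilizer G a ⊓ stabilizer G (t • a), k * s * k⁻¹ = t := by
  have hstD : s * t ∈ stabilizer G a ⊓ stabilizer G (t • a) := by
    rw [ro_mem_D_iff, mul_smul, mul_smul, hsb, ro_t_smul_t_smul hS, hsa]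
    exact ⟨rfl, rfl⟩
  have hodd : Odd (orderOf (s * t)) :=
    hS.odd_card.of_dvd_nat (Subgroup.orderOf_dvd_natCard _ hstD)
  obtain ⟨j, hj⟩ := hodd
  exact ⟨(s * t) ^ j, pow_mem hstD j, dih_odd_conj s t hss hS.mul_self j hj⟩

end

end Cfsg.Agent.Lib.Helper26
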