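import Cfsg.Agent.Lib.Helper26.RankOneFix

set_option autoImplicit false

namespace Cfsg.Agent.Lib.Helper26

open MulAction

section
variable {G Ω : Type*} [Group G] [MulAction G Ω] {a : Ω} {t : G} {Q : Subgroup G}

/-- An element of `D` whose square is trivial is trivial. -/
theorem ro_D_sq [Finite G] (hS : Cfsg.IsRankOneSetup G Ω a t Q) {d : G}
    (hd : d ∈ stabilizer G a ⊓ stabilizer G (t • a)) (hdd : d * d = 1) : d = 1 := by
  have hord2 : orderOf d ∣ 2 := orderOf_dvd_of_pow_eq_one (by rw [pow_two]; exact hdd)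
  have hordodd : Odd (orderOf d) := hS.odd_card.of_dvd_nat (Subgroup.orderOf_dvd_natCard _ hd)
  have hle : orderOf d ≤ 2 := Nat.le_of_dvd (by norm_num) hord2
  have hpos : 0 < orderOf d := orderOf_pos d
  have h1 : orderOf d = 1 := by
    obtain ⟨k, hk⟩ := hordodd
    omega
  exact orderOf_eq_one_iff.mp h1

/-- Involutions of `G_a` lie in `Q`. -/
theorem ro_invol_mem_Q [Finite G] (hS : Cfsg.IsRankOneSetup G Ω a t Q) {u : G}
    (hu : u ∈ stabilizer G a) (huu : u * u = 1) : u ∈ Q := by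
  obtain ⟨q, hq, d, hd, rfl⟩ := ro_exists_mul hS hu
  have hda : d ∈ stabilizer G a := (Subgroup.mem_inf.mp hd).1
  have h1 : d * d = (q * (d * q * d⁻¹))⁻¹ := by
    have : q * (d * q * d⁻¹) * (d * d) = (q * d) * (q * d) := by group
    rw [huu] at this
    exact eq_inv_of_mul_eq_one_right this
  have h2 : d * d ∈ Q := by
    rw [h1]; exact inv_mem (mul_mem hq (hS.conj_mem d hda q hq))
  have h3 : d * d = 1 := ro_Q_inf_D hS h2 (mul_mem (Subgroup.mem_inf.mp hd).2 (Subgroup.mem_inf.mp hd).2)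
  rw [ro_D_sq hS hd h3, mul_one]
  exact hq

/-- `Q` contains an involution. -/
theorem ro_exists_invol [Finite G] (hS : Cfsg.IsRankOneSetup G Ω a t Q) :
    ∃ z ∈ Q, z ≠ 1 ∧ z * z = 1 := by
  have : Fact (Nat.Prime 2) := ⟨Nat.prime_two⟩
  obtain ⟨z, hz⟩ := exists_prime_orderOf_dvd_card' (G := Q) 2 (even_iff_two_dvd.mp hS.even_card)
  refine ⟨z, z.2, ?_, ?_⟩
  · intro h
    have : z = 1 := Subtype.ext h
    rw [this, orderOf_one] at hz
    omega
  · have : z ^ 2 = 1 := by rw [← hz, pow_orderOf_eq_one]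
    rw [pow_two] at this
    exact congrArg Subtype.val this

/-- Every involution of `G` has exactly one fixed point. -/
theorem ro_invol_fix [Finite G] (hS : Cfsg.IsRankOneSetup G Ω a t Q) {u : G} (hu1 : u ≠ 1)
    (huu : u * u = 1) : ∃ p : Ω, u • p = p ∧ ∀ p' : Ω, u • p' = p' → p' = p := by
  obtain ⟨z, hzQ, hz1, hzz⟩ := ro_exists_invol hS
  have hza : z • a = a := mem_stabilizer_iff.mp (hS.le hzQ)
  -- fixed points of an involution of `Q`
  have honly : ∀ w ∈ Q, w ≠ 1 → ∀ p' : Ω, w • p' = p' → p' = a := by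
    intro w hw hw1 p' hp'
    by_contra hne
    exact hw1 (ro_free' hS hw hne hp')
  rcases Nat.even_or_odd' (orderOf (z * u)) with ⟨m, hm | hm⟩
  · have hm0 : 0 < m := by
      have := orderOf_pos (z * u); omega
    obtain ⟨hw1, hww, hzw, huw⟩ := dih_even_central z u hzz huu m hm0 hm
    have hwa : (z * u) ^ m • a = a := by
      apply honly z hzQ hz1
      rw [← mul_smul, hzw, mul_smul, hza]
    have hwQ : (z * u) ^ m ∈ Q := ro_invol_mem_Q hS (mem_stabilizer_iff.mpr hwa) hww
    have hua : u • a = a := by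
      apply honly _ hwQ hw1
      rw [← mul_smul, ← huw, mul_smul, hwa]
    have huQ : u ∈ Q := ro_invol_mem_Q hS (mem_stabilizer_iff.mpr hua) huu
    exact ⟨a, hua, honly u huQ hu1⟩
  · have hc := dih_odd_conj z u hzz huu m hm
    generalize (z * u) ^ m = k at hc
    refine ⟨k • a, ?_, ?_⟩
    · rw [← hc, mul_smul, mul_smul, inv_smul_smul, hza]
    · intro p' hp'
      rw [← hc, mul_smul, mul_smul] at hp'
      have h1 : z • k⁻¹ • p' = k⁻¹ • p' := by
        rw [eq_inv_smul_iff]; exact hp'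
      have := honly z hzQ hz1 _ h1
      rw [inv_smul_eq_iff] at this
      exact this

end

end Cfsg.Agent.Lib.Helper26
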