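import Cfsg.Agent.Lib.Helper26.RankOneCent
import Cfsg.Agent.Lib.Helper69.Nilpotent

set_option autoImplicit false

namespace Cfsg.Agent.Lib.Helper26

open MulAction

section
variable {G Ω : Type*} [Group G] [MulAction G Ω] {a : Ω} {t : G} {Q : Subgroup G}

/-- For an involution `s` of `G_a` there is `q' ∈ Q_b = t Q t` such that `q'⁻¹ s q'` swaps `a`
and `t • a`. -/
theorem ro_mu_ex [Finite G] (hS : Cfsg.IsRankOneSetup G Ω a t Q) {s : G}
    (hs : s ∈ Cfsg.involutionsIn (stabilizer G a : Set G)) :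
    ∃ q' ∈ Q.map (MulAut.conj t).toMonoidHom,
      (q'⁻¹ * s * q') • a = t • a ∧ (q'⁻¹ * s * q') • t • a = a := by
  obtain ⟨hsa, hs1, hss⟩ := hs
  have hsQ : s ∈ Q := ro_invol_mem_Q hS hsa hss
  have htta : t • t • a = a := ro_t_smul_t_smul hS a
  have hcb : s • t • a ≠ t • a := fun h' => hs1 (ro_Q_inf_D hS hsQ (mem_stabilizer_iff.mpr h'))
  obtain ⟨q', hq', hq'a⟩ := ro_trans (ro_symm hS) hcb
  rw [htta] at hq'a
  have hq'b : q' • t • a = t • a := mem_stabilizer_iff.mp ((ro_symm hS).le hq')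
  have ht't' : (q'⁻¹ * s * q') * (q'⁻¹ * s * q') = 1 := by
    have : (q'⁻¹ * s * q') * (q'⁻¹ * s * q') = q'⁻¹ * (s * s) * q' := by group
    rw [this, hss]; group
  have ht'b : (q'⁻¹ * s * q') • t • a = a := by
    rw [mul_smul, mul_smul, hq'b, inv_smul_eq_iff, hq'a]
  have ht'a : (q'⁻¹ * s * q') • a = t • a := by
    have : (q'⁻¹ * s * q') • (q'⁻¹ * s * q') • t • a = t • a := by
      rw [← mul_smul, ht't', one_smul]
    rw [ht'b] at this
    exact this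
  exact ⟨q', hq', ht'a, ht'b⟩

/-- `D` is transitive on the involutions of `G_a`. -/
theorem ro_D_trans_invol [Finite G] (hS : Cfsg.IsRankOneSetup G Ω a t Q) {s₁ s₂ : G}
    (hs₁ : s₁ ∈ Cfsg.involutionsIn (stabilizer G a : Set G))
    (hs₂ : s₂ ∈ Cfsg.involutionsIn (stabilizer G a : Set G)) :
    ∃ d ∈ stabilizer G a ⊓ stabilizer G (t • a), d * s₁ * d⁻¹ = s₂ := by
  obtain ⟨q₁, hq₁, h1a, h1b⟩ := ro_mu_ex hS hs₁
  obtain ⟨q₂, hq₂, h2a, h2b⟩ := ro_mu_ex hS hs₂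
  have hss₁ : s₁ * s₁ = 1 := hs₁.2.2
  have hss₂ : s₂ * s₂ = 1 := hs₂.2.2
  have ht₁ : (q₁⁻¹ * s₁ * q₁) * (q₁⁻¹ * s₁ * q₁) = 1 := by
    have : (q₁⁻¹ * s₁ * q₁) * (q₁⁻¹ * s₁ * q₁) = q₁⁻¹ * (s₁ * s₁) * q₁ := by group
    rw [this, hss₁]; group
  have ht₂ : (q₂⁻¹ * s₂ * q₂) * (q₂⁻¹ * s₂ * q₂) = 1 := by
    have : (q₂⁻¹ * s₂ * q₂) * (q₂⁻¹ * s₂ * q₂) = q₂⁻¹ * (s₂ * s₂) * q₂ := by group
    rw [this, hss₂]; group
  obtain ⟨k₁, hk₁, hkt₁⟩ := ro_swap_conj hS ht₁ h1a h1b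
  obtain ⟨k₂, hk₂, hkt₂⟩ := ro_swap_conj hS ht₂ h2a h2b
  have hq₁b : q₁ • t • a = t • a := mem_stabilizer_iff.mp ((ro_symm hS).le hq₁)
  have hq₂b : q₂ • t • a = t • a := mem_stabilizer_iff.mp ((ro_symm hS).le hq₂)
  have hk₁b : k₁ • t • a = t • a := (ro_mem_D_iff.mp hk₁).2
  have hk₂b : k₂ • t • a = t • a := (ro_mem_D_iff.mp hk₂).2
  have hconj : (q₂ * (k₂⁻¹ * k₁) * q₁⁻¹) * s₁ * (q₂ * (k₂⁻¹ * k₁) * q₁⁻¹)⁻¹ = s₂ := by
    have e1 : (q₂ * (k₂⁻¹ * k₁) * q₁⁻¹) * s₁ * (q₂ * (k₂⁻¹ * k₁) * q₁⁻¹)⁻¹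
        = q₂ * k₂⁻¹ * (k₁ * (q₁⁻¹ * s₁ * q₁) * k₁⁻¹) * k₂ * q₂⁻¹ := by group
    rw [e1, hkt₁, ← hkt₂]; group
  have hgb : (q₂ * (k₂⁻¹ * k₁) * q₁⁻¹) • t • a = t • a := by
    rw [mul_smul, mul_smul, mul_smul, inv_smul_eq_iff.mpr hq₁b.symm, hk₁b,
      inv_smul_eq_iff.mpr hk₂b.symm, hq₂b]
  have hga : (q₂ * (k₂⁻¹ * k₁) * q₁⁻¹) • a = a := by
    obtain ⟨p, hp, hpu⟩ := ro_invol_fix hS hs₂.2.1 hss₂
    have h1 : s₂ • a = a := mem_stabilizer_iff.mp hs₂.1
    have h2 : s₂ • (q₂ * (k₂⁻¹ * k₁) * q₁⁻¹) • a = (q₂ * (k₂⁻¹ * k₁) * q₁⁻¹) • a := by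
      rw [← hconj, mul_smul, mul_smul, inv_smul_smul, mem_stabilizer_iff.mp hs₁.1]
    rw [hpu _ h2, hpu _ h1]
  exact ⟨_, ro_mem_D_iff.mpr ⟨hga, hgb⟩, hconj⟩

/-- If `G_a` has two distinct involutions, some non-identity element of `D` is inverted by `t`. -/
theorem ro_exists_inverted [Finite G] (hS : Cfsg.IsRankOneSetup G Ω a t Q) {s₁ s₂ : G}
    (hs₁ : s₁ ∈ Cfsg.involutionsIn (stabilizer G a : Set G))
    (hs₂ : s₂ ∈ Cfsg.involutionsIn (stabilizer G a : Set G)) (hne : s₁ ≠ s₂) :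
    ∃ k ∈ Cfsg.invertedBy (stabilizer G a ⊓ stabilizer G (t • a)) t, k ≠ 1 := by
  have htt := hS.mul_self
  have hti := ro_t_inv hS
  have htta : t • t • a = a := ro_t_smul_t_smul hS a
  -- an involution `t' ≠ t` swapping `a` and `t • a`
  have key : ∃ t' : G, t' * t' = 1 ∧ t' • a = t • a ∧ t' • t • a = a ∧ t' ≠ t := by
    obtain ⟨q₁, hq₁, h1a, h1b⟩ := ro_mu_ex hS hs₁
    obtain ⟨q₂, hq₂, h2a, h2b⟩ := ro_mu_ex hS hs₂
    have hss₁ : s₁ * s₁ = 1 := hs₁.2.2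
    have hss₂ : s₂ * s₂ = 1 := hs₂.2.2
    have ht₁ : (q₁⁻¹ * s₁ * q₁) * (q₁⁻¹ * s₁ * q₁) = 1 := by
      have : (q₁⁻¹ * s₁ * q₁) * (q₁⁻¹ * s₁ * q₁) = q₁⁻¹ * (s₁ * s₁) * q₁ := by group
      rw [this, hss₁]; group
    have ht₂ : (q₂⁻¹ * s₂ * q₂) * (q₂⁻¹ * s₂ * q₂) = 1 := by
      have : (q₂⁻¹ * s₂ * q₂) * (q₂⁻¹ * s₂ * q₂) = q₂⁻¹ * (s₂ * s₂) * q₂ := by group
      rw [this, hss₂]; group
    by_cases h1 : q₁⁻¹ * s₁ * q₁ = t
    · by_cases h2 : q₂⁻¹ * s₂ * q₂ = t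
      · exfalso
        -- s₂ = (q₂ q₁⁻¹) s₁ (q₂ q₁⁻¹)⁻¹
        have hconj : (q₂ * q₁⁻¹) * s₁ * (q₂ * q₁⁻¹)⁻¹ = s₂ := by
          have e1 : (q₂ * q₁⁻¹) * s₁ * (q₂ * q₁⁻¹)⁻¹ = q₂ * (q₁⁻¹ * s₁ * q₁) * q₂⁻¹ := by group
          rw [e1, h1, ← h2]; group
        have hga : (q₂ * q₁⁻¹) • a = a := by
          obtain ⟨p, hp, hpu⟩ := ro_invol_fix hS hs₂.2.1 hss₂
          have h3 : s₂ • a = a := mem_stabilizer_iff.mp hs₂.1
          have h4 : s₂ • (q₂ * q₁⁻¹) • a = (q₂ * q₁⁻¹) • a := by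
            rw [← hconj, mul_smul, mul_smul, inv_smul_smul, mem_stabilizer_iff.mp hs₁.1]
          rw [hpu _ h4, hpu _ h3]
        have hmem : q₂ * q₁⁻¹ ∈ Q.map (MulAut.conj t).toMonoidHom := mul_mem hq₂ (inv_mem hq₁)
        have h5 : q₂ * q₁⁻¹ = 1 := by
          apply ro_Q_inf_D (ro_symm hS) hmem
          rw [mem_stabilizer_iff, htta]; exact hga
        rw [h5] at hconj
        apply hne
        rw [← hconj]; group
      · exact ⟨_, ht₂, h2a, h2b, h2⟩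
    · exact ⟨_, ht₁, h1a, h1b, h1⟩
  obtain ⟨t', ht't', ht'a, ht'b, ht'ne⟩ := key
  have ht'i : t'⁻¹ = t' := inv_eq_of_mul_eq_one_left ht't'
  refine ⟨t * t', ⟨?_, ?_⟩, ?_⟩
  · rw [ro_mem_D_iff, mul_smul, mul_smul, ht'a, htta, ht'b]
    exact ⟨rfl, rfl⟩
  · rw [mul_inv_rev, ht'i, hti]
    calc t * (t * t') * t = (t * t) * t' * t := by group
      _ = t' * t := by rw [htt, one_mul]
  · intro h
    apply ht'ne
    have : t' = t⁻¹ := eq_inv_of_mul_eq_one_right h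
    rw [this, hti]

/-- Two distinct commuting involutions of `G` give two distinct involutions of `G_a`. -/
theorem ro_two_invol [Finite G] (hS : Cfsg.IsRankOneSetup G Ω a t Q)
    (h2 : ∃ x y : G, x ≠ 1 ∧ y ≠ 1 ∧ x ≠ y ∧ x * x = 1 ∧ y * y = 1 ∧ x * y = y * x) :
    ∃ s₁ s₂ : G, s₁ ∈ Cfsg.involutionsIn (stabilizer G a : Set G) ∧
      s₂ ∈ Cfsg.involutionsIn (stabilizer G a : Set G) ∧ s₁ ≠ s₂ := by
  obtain ⟨x, y, hx1, hy1, hxy, hxx, hyy, hc⟩ := h2
  obtain ⟨c, hxc, hcu⟩ := ro_invol_fix hS hx1 hxx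
  have hyc : y • c = c := by
    apply hcu
    rw [← mul_smul, hc, mul_smul, hxc]
  -- move c to a
  obtain ⟨g, hg⟩ : ∃ g : G, g • c = a := by
    by_cases hca : c = a
    · exact ⟨1, by rw [one_smul, hca]⟩
    · obtain ⟨g, hg, -⟩ := ro_two_trans hS (p := c) (p' := a) (r := a) (r' := t • a) hca
        (ro_ta_ne hS).symm
      exact ⟨g, hg⟩
  have hgi : g⁻¹ • a = c := by rw [inv_smul_eq_iff, hg]
  refine ⟨g * x * g⁻¹, g * y * g⁻¹, ⟨?_, ?_, ?_⟩, ⟨?_, ?_, ?_⟩, ?_⟩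
  · rw [SetLike.mem_coe, mem_stabilizer_iff, mul_smul, mul_smul, hgi, hxc, hg]
  · intro h
    apply hx1
    have : x = g⁻¹ * (g * x * g⁻¹) * g := by group
    rw [this, h]; group
  · have : (g * x * g⁻¹) * (g * x * g⁻¹) = g * (x * x) * g⁻¹ := by group
    rw [this, hxx]; group
  · rw [SetLike.mem_coe, mem_stabilizer_iff, mul_smul, mul_smul, hgi, hyc, hg]
  · intro h
    apply hy1
    have : y = g⁻¹ * (g * y * g⁻¹) * g := by group
    rw [this, h]; group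
  · have : (g * y * g⁻¹) * (g * y * g⁻¹) = g * (y * y) * g⁻¹ := by group
    rw [this, hyy]; group
  · intro h
    apply hxy
    have e1 : x = g⁻¹ * (g * x * g⁻¹) * g := by group
    have e2 : y = g⁻¹ * (g * y * g⁻¹) * g := by group
    rw [e1, e2, h]

/-- conjugation by an element of `G_a` as an automorphism of `Q`. -/
def roConjEquiv (hS : Cfsg.IsRankOneSetup G Ω a t Q) (d : G) (hd : d ∈ stabilizer G a) :
    ↥Q ≃* ↥Q where
  toFun q := ⟨d * q * d⁻¹, hS.conj_mem d hd q q.2⟩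
  invFun q := ⟨d⁻¹ * q * d, by
    have := hS.conj_mem d⁻¹ (inv_mem hd) q q.2
    rwa [inv_inv] at this⟩
  left_inv q := by
    apply Subtype.ext
    show d⁻¹ * (d * q * d⁻¹) * d = q
    group
  right_inv q := by
    apply Subtype.ext
    show d * (d⁻¹ * q * d) * d⁻¹ = q
    group
  map_mul' q q' := by
    apply Subtype.ext
    show d * (q * q') * d⁻¹ = (d * q * d⁻¹) * (d * q' * d⁻¹)
    group

theorem roConjEquiv_apply (hS : Cfsg.IsRankOneSetup G Ω a t Q) (d : G) (hd : d ∈ stabilizer G a)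
    (q : ↥Q) : ((roConjEquiv hS d hd q : ↥Q) : G) = d * q * d⁻¹ := rfl

theorem roConjEquiv_pow (hS : Cfsg.IsRankOneSetup G Ω a t Q) (d : G) (hd : d ∈ stabilizer G a)
    (n : ℕ) (q : ↥Q) : ((((roConjEquiv hS d hd) ^ n) q : ↥Q) : G) = d ^ n * q * (d ^ n)⁻¹ := by
  induction n generalizing q with
  | zero => simp
  | succ n ih =>
    rw [pow_succ, MulAut.mul_apply, ih, roConjEquiv_apply, pow_succ]
    group

/-- `Q` is nilpotent, given Thompson's theorem for `Q` and the fixed-point-freeness of `K#`. -/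
theorem ro_Q_nilpotent [Finite G] (hS : Cfsg.IsRankOneSetup G Ω a t Q)
    (h2 : ∃ x y : G, x ≠ 1 ∧ y ≠ 1 ∧ x ≠ y ∧ x * x = 1 ∧ y * y = 1 ∧ x * y = y * x)
    (hfpf : ∀ x ∈ Cfsg.invertedBy (stabilizer G a ⊓ stabilizer G (t • a)) t, x ≠ 1 →
      Q ⊓ Subgroup.centralizer {x} = ⊥)
    (hT : ∀ φ : ↥Q ≃* ↥Q, MonoidHom.FixedPointFree (φ : ↥Q →* ↥Q) → ∀ p : ℕ, p.Prime →
      orderOf φ = p → Group.IsNilpotent ↥Q) : Group.IsNilpotent ↥Q := by
  obtain ⟨s₁, s₂, hs₁, hs₂, hne⟩ := ro_two_invol hS h2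
  obtain ⟨k, ⟨hkD, hkt⟩, hk1⟩ := ro_exists_inverted hS hs₁ hs₂ hne
  -- an element of prime order in K
  have hn1 : orderOf k ≠ 1 := fun h => hk1 (orderOf_eq_one_iff.mp h)
  have hn0 : 0 < orderOf k := orderOf_pos k
  obtain ⟨r, hrdef⟩ : ∃ r : ℕ, r = (orderOf k).minFac := ⟨_, rfl⟩
  have hr : r.Prime := hrdef ▸ Nat.minFac_prime hn1
  have hrdvd : r ∣ orderOf k := hrdef ▸ Nat.minFac_dvd _
  obtain ⟨m, hm⟩ := hrdvd
  have hm0 : m ≠ 0 := by
    rintro rfl; rw [mul_zero] at hm; omega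
  obtain ⟨k', hk'def⟩ : ∃ k' : G, k' = k ^ m := ⟨_, rfl⟩
  have hk'ord : orderOf k' = r := by
    rw [hk'def, orderOf_pow_of_dvd hm0 (Dvd.intro_left r hm.symm), hm]
    exact Nat.mul_div_cancel _ (Nat.pos_of_ne_zero hm0)
  have hk'D : k' ∈ stabilizer G a ⊓ stabilizer G (t • a) := hk'def ▸ pow_mem hkD m
  have hk'a : k' ∈ stabilizer G a := (Subgroup.mem_inf.mp hk'D).1
  have hk't : t * k' * t⁻¹ = k'⁻¹ := by
    rw [hk'def, ← conj_pow, hkt, inv_pow]
  have hk'1 : k' ≠ 1 := by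
    intro h
    rw [h, orderOf_one] at hk'ord
    exact hr.one_lt.ne hk'ord
  have hbot := hfpf k' ⟨hk'D, hk't⟩ hk'1
  -- the automorphism
  have hfix : MonoidHom.FixedPointFree ((roConjEquiv hS k' hk'a : ↥Q ≃* ↥Q) : ↥Q →* ↥Q) := by
    intro q hq
    have h1 : k' * (q : G) * k'⁻¹ = q := congrArg Subtype.val hq
    have h3 : (q : G) ∈ Q ⊓ Subgroup.centralizer {k'} := by
      refine Subgroup.mem_inf.mpr ⟨q.2, ?_⟩
      rw [Subgroup.mem_centralizer_singleton_iff]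
      calc (q : G) * k' = (k' * q * k'⁻¹) * k' := by rw [h1]
        _ = k' * q := by group
    rw [hbot, Subgroup.mem_bot] at h3
    exact Subtype.ext h3
  have hord : orderOf (roConjEquiv hS k' hk'a) = r := by
    have hdvd : orderOf (roConjEquiv hS k' hk'a) ∣ r := by
      apply orderOf_dvd_of_pow_eq_one
      ext q
      rw [roConjEquiv_pow, ← hk'ord, pow_orderOf_eq_one]
      simp
    rcases (Nat.dvd_prime hr).mp hdvd with h | h
    · exfalso
      rw [orderOf_eq_one_iff] at h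
      obtain ⟨z, hzQ, hz1, -⟩ := ro_exists_invol hS
      have hz : (roConjEquiv hS k' hk'a) ⟨z, hzQ⟩ = ⟨z, hzQ⟩ := by rw [h]; rfl
      have := hfix ⟨z, hzQ⟩ hz
      exact hz1 (congrArg Subtype.val this)
    · exact h
  exact hT _ hfix r hr hord

/-- A nilpotent finite group of even order has a central involution. -/
theorem exists_central_involution {H : Type*} [Group H] [Finite H] (hnil : Group.IsNilpotent H)
    (heven : Even (Nat.card H)) : ∃ z : H, z ≠ 1 ∧ z * z = 1 ∧ ∀ x : H, z * x = x * z := by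
  have hp2 : Fact (Nat.Prime 2) := ⟨Nat.prime_two⟩
  obtain ⟨P⟩ : Nonempty (Sylow 2 H) := inferInstance
  have hall : ∀ (p : ℕ) (_hp : Fact p.Prime) (P : Sylow p H), (↑P : Subgroup H).Normal :=
    ((Group.isNilpotent_of_finite_tfae (G := H)).out 0 3).mp hnil
  have hPn : (P : Subgroup H).Normal := hall 2 hp2 P
  have hPne : (P : Subgroup H) ≠ ⊥ := P.ne_bot_of_dvd_card (even_iff_two_dvd.mp heven)
  obtain ⟨z, hzP, hzc, hz1⟩ := Cfsg.Agent.Lib.Helper69.exists_mem_center_of_normal (P : Subgroup H) hPne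
  -- z has order 2^j
  obtain ⟨j, hj⟩ := (IsPGroup.iff_orderOf.mp P.isPGroup') ⟨z, hzP⟩
  rw [Subgroup.orderOf_mk] at hj
  have hj0 : j ≠ 0 := by
    rintro rfl
    rw [pow_zero, orderOf_eq_one_iff] at hj
    exact hz1 hj
  obtain ⟨i, rfl⟩ : ∃ i, j = i + 1 := ⟨j - 1, by omega⟩
  refine ⟨z ^ 2 ^ i, ?_, ?_, ?_⟩
  · intro h
    have h1 := orderOf_dvd_of_pow_eq_one h
    rw [hj] at h1
    have h2 := Nat.le_of_dvd (by positivity) h1
    rw [pow_succ] at h2
    have : 0 < 2 ^ i := by positivity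
    omega
  · rw [← pow_add, ← two_mul, ← pow_succ', ← hj, pow_orderOf_eq_one]
  · intro x
    have h1 : x * z = z * x := Subgroup.mem_center_iff.mp hzc x
    exact ((Commute.pow_right (show Commute x z from h1) (2 ^ i)).eq).symm

/-- If `Q` is nilpotent, the involutions of `G_a` are central in `Q`. -/
theorem ro_invol_central [Finite G] (hS : Cfsg.IsRankOneSetup G Ω a t Q)
    (hnil : Group.IsNilpotent ↥Q) {s : G}
    (hs : s ∈ Cfsg.involutionsIn (stabilizer G a : Set G)) :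
    s ∈ Q ∧ ∀ x ∈ Q, s * x = x * s := by
  have hsQ : s ∈ Q := ro_invol_mem_Q hS hs.1 hs.2.2
  refine ⟨hsQ, ?_⟩
  obtain ⟨z, hz1, hzz, hzc⟩ := exists_central_involution hnil hS.even_card
  have hz : (z : G) ∈ Cfsg.involutionsIn (stabilizer G a : Set G) := by
    refine ⟨hS.le z.2, ?_, ?_⟩
    · intro h; exact hz1 (Subtype.ext h)
    · exact congrArg Subtype.val hzz
  obtain ⟨d, hd, hds⟩ := ro_D_trans_invol hS hz hs
  have hda : d ∈ stabilizer G a := (Subgroup.mem_inf.mp hd).1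
  intro x hx
  have hx' : d⁻¹ * x * d ∈ Q := by
    have := hS.conj_mem d⁻¹ (inv_mem hda) x hx
    rwa [inv_inv] at this
  have h1 : (z : G) * (d⁻¹ * x * d) = (d⁻¹ * x * d) * z :=
    congrArg Subtype.val (hzc ⟨d⁻¹ * x * d, hx'⟩)
  rw [← hds]
  calc d * (z : G) * d⁻¹ * x = d * ((z : G) * (d⁻¹ * x * d)) * d⁻¹ := by group
    _ = d * ((d⁻¹ * x * d) * z) * d⁻¹ := by rw [h1]
    _ = x * (d * (z : G) * d⁻¹) := by group

/-- If `Q` is nilpotent, two involutions of `G_a` commute. -/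
theorem ro_invol_comm [Finite G] (hS : Cfsg.IsRankOneSetup G Ω a t Q)
    (hnil : Group.IsNilpotent ↥Q) {s s' : G}
    (hs : s ∈ Cfsg.involutionsIn (stabilizer G a : Set G))
    (hs' : s' ∈ Cfsg.involutionsIn (stabilizer G a : Set G)) : s * s' = s' * s :=
  (ro_invol_central hS hnil hs).2 s' (ro_invol_central hS hnil hs').1

theorem card_modEq_of_involutive {F : Type*} [Finite F] (σ : F → F) (hσ : ∀ p, σ (σ p) = p) :
    Nat.card F ≡ Nat.card {p : F // σ p = p} [MOD 2] := by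
  classical
  have : Fintype F := Fintype.ofFinite F
  have hp2 : Fact (Nat.Prime 2) := ⟨Nat.prime_two⟩
  obtain ⟨f, hf⟩ : ∃ f : Function.End F, f = σ := ⟨σ, rfl⟩
  have h1 : f ^ 2 ^ 1 = 1 := by
    rw [pow_one, pow_two]
    funext p
    show f (f p) = p
    rw [hf]; exact hσ p
  have h2 := Equiv.Perm.card_fixedPoints_modEq (p := 2) h1
  simp only [Fintype.card_eq_nat_card] at h2
  rw [hf] at h2
  exact h2

/-- every point can be moved to `a`. -/
theorem ro_exists_move (hS : Cfsg.IsRankOneSetup G Ω a t Q) (c : Ω) : ∃ g : G, g • c = a := by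
  by_cases hca : c = a
  · exact ⟨1, by rw [one_smul, hca]⟩
  · obtain ⟨g, hg, -⟩ := ro_two_trans hS (p := c) (p' := a) (r := a) (r' := t • a) hca
      (ro_ta_ne hS).symm
    exact ⟨g, hg⟩

theorem ro_finite [Finite G] (hS : Cfsg.IsRankOneSetup G Ω a t Q) : Finite Ω := by
  apply Finite.of_surjective (fun g : G => g • a)
  intro c
  obtain ⟨g, hg⟩ := ro_exists_move hS c
  exact ⟨g⁻¹, by simp only; rw [inv_smul_eq_iff, hg]⟩

/-- If `Q` is nilpotent and `u v` is a product of two involutions with `(u v)² ≠ 1`, then `v` moves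
the fixed point of `u`. -/
theorem ro_prod_invol_moves [Finite G] (hS : Cfsg.IsRankOneSetup G Ω a t Q)
    (hnil : Group.IsNilpotent ↥Q) {u v : G} (hu1 : u ≠ 1) (hu2 : u * u = 1) (hv1 : v ≠ 1)
    (hv2 : v * v = 1) (hx : (u * v) * (u * v) ≠ 1) {c : Ω} (huc : u • c = c) : v • c ≠ c := by
  intro hvc
  obtain ⟨g, hg⟩ := ro_exists_move hS c
  have hgi : g⁻¹ • a = c := by rw [inv_smul_eq_iff, hg]
  have hu' : g * u * g⁻¹ ∈ Cfsg.involutionsIn (stabilizer G a : Set G) := by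
    refine ⟨?_, ?_, ?_⟩
    · rw [SetLike.mem_coe, mem_stabilizer_iff, mul_smul, mul_smul, hgi, huc, hg]
    · intro h
      apply hu1
      have : u = g⁻¹ * (g * u * g⁻¹) * g := by group
      rw [this, h]; group
    · have : (g * u * g⁻¹) * (g * u * g⁻¹) = g * (u * u) * g⁻¹ := by group
      rw [this, hu2]; group
  have hv' : g * v * g⁻¹ ∈ Cfsg.involutionsIn (stabilizer G a : Set G) := by
    refine ⟨?_, ?_, ?_⟩
    · rw [SetLike.mem_coe, mem_stabilizer_iff, mul_smul, mul_smul, hgi, hvc, hg]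
    · intro h
      apply hv1
      have : v = g⁻¹ * (g * v * g⁻¹) * g := by group
      rw [this, h]; group
    · have : (g * v * g⁻¹) * (g * v * g⁻¹) = g * (v * v) * g⁻¹ := by group
      rw [this, hv2]; group
  have hcomm := ro_invol_comm hS hnil hu' hv'
  have huv : u * v = v * u := by
    have e1 : u * v = g⁻¹ * ((g * u * g⁻¹) * (g * v * g⁻¹)) * g := by group
    rw [e1, hcomm]; group
  apply hx
  calc u * v * (u * v) = u * (v * u) * v := by group
    _ = u * (u * v) * v := by rw [huv]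
    _ = (u * u) * (v * v) := by group
    _ = 1 := by rw [hu2, hv2, one_mul]

/-- `S1135`, given that `Q` is nilpotent. -/
theorem ro_prod_invol [Finite G] (hS : Cfsg.IsRankOneSetup G Ω a t Q)
    (hnil : Group.IsNilpotent ↥Q) (u v : G) (hu1 : u ≠ 1) (hu2 : u * u = 1) (hv1 : v ≠ 1)
    (hv2 : v * v = 1) (hx : (u * v) * (u * v) ≠ 1) :
    (∃ g : G, ∃ u' ∈ Cfsg.involutionsIn (stabilizer G a : Set G), g * (u * v) * g⁻¹ = u' * t) ∧
      Odd (Nat.card ↥(Subgroup.centralizer {u * v})) := by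
  obtain ⟨cu, hcu, hcuu⟩ := ro_invol_fix hS hu1 hu2
  obtain ⟨cv, hcv, hcvu⟩ := ro_invol_fix hS hv1 hv2
  have hmove := ro_prod_invol_moves hS hnil hu1 hu2 hv1 hv2 hx hcu
  have hui : u⁻¹ = u := inv_eq_of_mul_eq_one_left hu2
  have hvi : v⁻¹ = v := inv_eq_of_mul_eq_one_left hv2
  constructor
  · obtain ⟨g, hg1, hg2⟩ := ro_two_trans hS (p := cu) (p' := v • cu) (r := a) (r' := t • a)
      (Ne.symm hmove) (ro_ta_ne hS).symm
    have hgi : g⁻¹ • a = cu := by rw [inv_smul_eq_iff, hg1]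
    have hgi2 : g⁻¹ • t • a = v • cu := by rw [inv_smul_eq_iff, hg2]
    have hv₁ : (g * v * g⁻¹) * (g * v * g⁻¹) = 1 := by
      have : (g * v * g⁻¹) * (g * v * g⁻¹) = g * (v * v) * g⁻¹ := by group
      rw [this, hv2]; group
    have hv₁a : (g * v * g⁻¹) • a = t • a := by
      rw [mul_smul, mul_smul, hgi, hg2]
    have hv₁b : (g * v * g⁻¹) • t • a = a := by
      rw [mul_smul, mul_smul, hgi2, ← mul_smul v v, hv2, one_smul, hg1]
    obtain ⟨k, hk, hkt⟩ := ro_swap_conj hS hv₁ hv₁a hv₁b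
    have hka : k ∈ stabilizer G a := (Subgroup.mem_inf.mp hk).1
    refine ⟨k * g, k * (g * u * g⁻¹) * k⁻¹, ⟨?_, ?_, ?_⟩, ?_⟩
    · have h1 : g * u * g⁻¹ ∈ stabilizer G a := by
        rw [mem_stabilizer_iff, mul_smul, mul_smul, hgi, hcu, hg1]
      exact mul_mem (mul_mem hka h1) (inv_mem hka)
    · intro h
      apply hu1
      have : u = g⁻¹ * (k⁻¹ * (k * (g * u * g⁻¹) * k⁻¹) * k) * g := by group
      rw [this, h]; group
    · have : (k * (g * u * g⁻¹) * k⁻¹) * (k * (g * u * g⁻¹) * k⁻¹) = k * g * (u * u) * g⁻¹ * k⁻¹ := by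
        group
      rw [this, hu2]; group
    · rw [← hkt]; group
  · -- the centralizer has odd order
    by_contra hodd
    rw [Nat.not_odd_iff_even] at hodd
    have hp2 : Fact (Nat.Prime 2) := ⟨Nat.prime_two⟩
    obtain ⟨w, hw⟩ := exists_prime_orderOf_dvd_card' (G := ↥(Subgroup.centralizer {u * v})) 2
      (even_iff_two_dvd.mp hodd)
    have hw1 : (w : G) ≠ 1 := by
      intro h
      have : w = 1 := Subtype.ext h
      rw [this, orderOf_one] at hw
      omega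
    have hw2 : (w : G) * w = 1 := by
      have : w ^ 2 = 1 := by rw [← hw, pow_orderOf_eq_one]
      rw [pow_two] at this
      exact congrArg Subtype.val this
    have hwx : (u * v) * (w : G) = w * (u * v) :=
      (Subgroup.mem_centralizer_iff.mp w.2) (u * v) rfl
    obtain ⟨cw, hcw, hcwu⟩ := ro_invol_fix hS hw1 hw2
    have hfin : Finite Ω := ro_finite hS
    -- the fixed-point set of x = u v
    have hxinv : ∀ p : Ω, (u * v) • p = p → (v * u) • p = p := by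
      intro p hp
      have : (v * u) * (u * v) = 1 := by
        calc (v * u) * (u * v) = v * (u * u) * v := by group
          _ = 1 := by rw [hu2, mul_one, hv2]
      calc (v * u) • p = (v * u) • (u * v) • p := by rw [hp]
        _ = p := by rw [← mul_smul, this, one_smul]
    have huF : ∀ p : Ω, (u * v) • p = p → (u * v) • u • p = u • p := by
      intro p hp
      have h1 := hxinv p hp
      rw [mul_smul] at h1
      rw [mul_smul, h1]
    have hvu : ∀ p : Ω, (u * v) • p = p → v • p = u • p := by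
      intro p hp
      rw [mul_smul] at hp
      calc v • p = u • u • v • p := by rw [← mul_smul u u, hu2, one_smul]
        _ = u • p := by rw [hp]
    have hwF : ∀ p : Ω, (u * v) • p = p → (u * v) • (w : G) • p = (w : G) • p := by
      intro p hp
      rw [← mul_smul, hwx, mul_smul, hp]
    have hcwF : (u * v) • cw = cw := by
      apply hcwu
      rw [← mul_smul, ← hwx, mul_smul, hcw]
    have h1 := card_modEq_of_involutive (F := {p : Ω // (u * v) • p = p})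
      (fun p => ⟨u • p.1, huF p.1 p.2⟩)
      (fun p => Subtype.ext (by show u • u • p.1 = p.1; rw [← mul_smul, hu2, one_smul]))
    have h2 := card_modEq_of_involutive (F := {p : Ω // (u * v) • p = p})
      (fun p => ⟨(w : G) • p.1, hwF p.1 p.2⟩)
      (fun p => Subtype.ext (by show (w : G) • (w : G) • p.1 = p.1; rw [← mul_smul, hw2, one_smul]))
    have he1 : Nat.card {p : {p : Ω // (u * v) • p = p} //
        (⟨u • p.1, huF p.1 p.2⟩ : {p : Ω // (u * v) • p = p}) = p} = 0 := by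
      have : IsEmpty {p : {p : Ω // (u * v) • p = p} //
          (⟨u • p.1, huF p.1 p.2⟩ : {p : Ω // (u * v) • p = p}) = p} := by
        constructor
        rintro ⟨⟨p, hp⟩, hfix⟩
        have hup : u • p = p := congrArg Subtype.val hfix
        have hvp : v • p = p := by rw [hvu p hp, hup]
        have hpc : p = cu := hcuu p hup
        rw [hpc] at hvp
        exact hmove hvp
      exact Nat.card_of_isEmpty
    have he2 : Nat.card {p : {p : Ω // (u * v) • p = p} //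
        (⟨(w : G) • p.1, hwF p.1 p.2⟩ : {p : Ω // (u * v) • p = p}) = p} = 1 := by
      rw [Nat.card_eq_one_iff_unique]
      constructor
      · constructor
        rintro ⟨⟨p, hp⟩, hfix⟩ ⟨⟨p', hp'⟩, hfix'⟩
        have h3 : (w : G) • p = p := congrArg Subtype.val hfix
        have h4 : (w : G) • p' = p' := congrArg Subtype.val hfix'
        apply Subtype.ext
        apply Subtype.ext
        show p = p'
        rw [hcwu p h3, hcwu p' h4]
      · exact ⟨⟨⟨cw, hcwF⟩, Subtype.ext hcw⟩⟩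
    rw [he1] at h1
    rw [he2] at h2
    have := h1.symm.trans h2
    exact absurd this (by decide)

end

end Cfsg.Agent.Lib.Helper26
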