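import Mathlib
import Cfsg.Agent.Lib.Helper95.Ru.Defs

/-!
# S0459 (Rudvalis group on 4060 points): keystone C2 — the F₂-linear group and rigidity
-/

set_option autoImplicit false

namespace Cfsg.Agent.Lib.Helper26.RuKey

open Cfsg.Agent.Lib.Helper95.Ru

theorem c2_allBelow_spec {p : Nat → Bool} {n : Nat} (h : allBelow p n = true) :
    ∀ x, x < n → p x = true := by
  induction n with
  | zero => intro x hx; omega
  | succ n ih =>
    intro x hx
    have h' : (p n && allBelow p n) = true := h
    rw [Bool.and_eq_true] at h'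
    rcases Nat.lt_succ_iff_lt_or_eq.mp hx with hlt | rfl
    · exact ih h'.2 x hlt
    · exact h'.1

/-- The submonoid of permutations acting on the patterns through an xor-additive map. -/
def linMonoid (PT : Nat) : Submonoid P where
  carrier := {g | ∃ f : Nat → Nat, (∀ u v, f (u ^^^ v) = f u ^^^ f v) ∧
    ∀ x : Fin 4060, pat PT (g x).val = f (pat PT x.val)}
  one_mem' := ⟨id, fun _ _ => rfl, fun _ => rfl⟩
  mul_mem' := by
    rintro g h ⟨f₁, hf₁, hg⟩ ⟨f₂, hf₂, hh⟩
    refine ⟨f₁ ∘ f₂, fun u v => ?_, fun x => ?_⟩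
    · simp only [Function.comp_apply, hf₂, hf₁]
    · simp only [Function.comp_apply, Equiv.Perm.coe_mul, hg, hh]

/-- Permutations acting on the patterns through an xor-additive map. -/
noncomputable def linGroup (PT : Nat) : Subgroup P :=
  { linMonoid PT with
    inv_mem' := by
      intro g hg
      have hfin : IsOfFinOrder g := isOfFinOrder_of_finite g
      have hmem : g⁻¹ ∈ Submonoid.powers g := by
        rw [hfin.mem_powers_iff_mem_zpowers]
        exact inv_mem (Subgroup.mem_zpowers g)
      obtain ⟨n, hn⟩ := hmem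
      have hn' : g ^ n = g⁻¹ := hn
      have : g ^ n ∈ linMonoid PT := pow_mem hg n
      rw [hn'] at this
      exact this }

theorem mem_linGroup_iff (PT : Nat) (g : P) : g ∈ linGroup PT ↔
    ∃ f : Nat → Nat, (∀ u v, f (u ^^^ v) = f u ^^^ f v) ∧
      ∀ x : Fin 4060, pat PT (g x).val = f (pat PT x.val) := Iff.rfl

theorem mulM_nil (v : Nat) : mulM [] v = 0 := rfl

theorem mulM_cons (c : Nat) (cs : List Nat) (v : Nat) :
    mulM (c :: cs) v = (cond (Nat.testBit v 0) c 0) ^^^ mulM cs (v >>> 1) := rfl

/-- `mulM cols` is xor-additive. -/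
theorem mulM_xor (cols : List Nat) (u v : Nat) :
    mulM cols (u ^^^ v) = mulM cols u ^^^ mulM cols v := by
  induction cols generalizing u v with
  | nil => simp [mulM_nil]
  | cons c cs ih =>
    rw [mulM_cons, mulM_cons, mulM_cons, Nat.shiftRight_xor_distrib, ih, Nat.testBit_xor]
    cases hu : Nat.testBit u 0 <;> cases hv : Nat.testBit v 0 <;>
      simp only [cond_true, cond_false, Bool.xor_false, Bool.xor_true, Bool.not_false,
        Bool.not_true]
    · simp
    · simp only [Nat.zero_xor]
      rw [← Nat.xor_assoc, Nat.xor_comm c (mulM cs (u >>> 1)), Nat.xor_assoc]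
    · simp only [Nat.zero_xor]
      rw [Nat.xor_assoc]
    · simp only [Nat.zero_xor]
      rw [Nat.xor_assoc, ← Nat.xor_assoc (mulM cs (u >>> 1)), Nat.xor_comm (mulM cs (u >>> 1)) c,
        Nat.xor_assoc c, ← Nat.xor_assoc c c, Nat.xor_self, Nat.zero_xor]

theorem mem_linGroup_of_linCheck (PT T : Nat) (cols : List Nat) (g : P) (hg : Rep T g)
    (h : linCheck PT T cols = true) : g ∈ linGroup PT := by
  rw [mem_linGroup_iff]
  refine ⟨mulM cols, mulM_xor cols, fun x => ?_⟩
  have h1 := c2_allBelow_spec h x.val x.isLt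
  have h2 : pat PT (tb T x.val) = mulM cols (pat PT x.val) := Nat.eq_of_beq_eq_true h1
  rw [hg x, h2]

theorem c2_patMono_lt {PT : Nat} (hmono : patMono PT = true) {x y : Nat} (hxy : x < y)
    (hy : y < 4060) : pat PT x < pat PT y := by
  have hstep : ∀ z, z < 4059 → pat PT z < pat PT (z + 1) := by
    intro z hz
    have := c2_allBelow_spec hmono z hz
    simpa [Nat.blt_eq] using this
  induction y with
  | zero => omega
  | succ y ih =>
    rcases Nat.lt_succ_iff_lt_or_eq.mp hxy with hlt | rfl
    · exact lt_trans (ih hlt (by omega)) (hstep y (by omega))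
    · exact hstep x (by omega)

theorem c2_patMono_inj {PT : Nat} (hmono : patMono PT = true) {x y : Nat} (hx : x < 4060)
    (hy : y < 4060) (h : pat PT x = pat PT y) : x = y := by
  rcases lt_trichotomy x y with hlt | heq | hgt
  · exact absurd h (ne_of_lt (c2_patMono_lt hmono hlt hy))
  · exact heq
  · exact absurd h.symm (ne_of_lt (c2_patMono_lt hmono hgt hx))

theorem c2_map_mulM (f : Nat → Nat) (hf : ∀ u v, f (u ^^^ v) = f u ^^^ f v) (cs : List Nat)
    (c : Nat) : f (mulM cs c) = mulM (cs.map f) c := by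
  have h0 : f 0 = 0 := by
    have := hf 0 0
    rw [Nat.xor_self] at this
    rw [this, Nat.xor_self]
  induction cs generalizing c with
  | nil => simpa [mulM_nil] using h0
  | cons c0 cs ih =>
    rw [List.map_cons, mulM_cons, mulM_cons, hf, ih]
    cases Nat.testBit c 0 <;> simp [h0]

/-- Rigidity.  (Hypothesis `hB` added to the original spec: the basis points are in range.) -/
theorem eq_one_of_fix_basis (PT CT : Nat) (B : List Nat) (hmono : patMono PT = true)
    (hspan : spanCheck PT CT B = true) (hB : ∀ b ∈ B, b < 4060)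
    (g : P) (hg : g ∈ linGroup PT)
    (hfix : ∀ b ∈ B, ∀ hb : b < 4060, (g ⟨b, hb⟩).val = b) : g = 1 := by
  obtain ⟨f, hf, hgf⟩ := (mem_linGroup_iff PT g).mp hg
  have hfB : (B.map (pat PT)).map f = B.map (pat PT) := by
    rw [List.map_map]
    apply List.map_congr_left
    intro b hb
    have h1 := hgf ⟨b, hB b hb⟩
    rw [hfix b hb (hB b hb)] at h1
    exact h1.symm
  ext x
  have hsp : pat PT x.val = mulM (B.map (pat PT)) (pat CT x.val) :=
    Nat.eq_of_beq_eq_true (c2_allBelow_spec hspan x.val x.isLt)
  have h2 : pat PT (g x).val = pat PT x.val := by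
    rw [hgf x]
    conv_lhs => rw [hsp]
    rw [c2_map_mulM f hf, hfB, ← hsp]
  have := c2_patMono_inj hmono (g x).isLt x.isLt h2
  simpa using this

/-- Variant of `eq_one_of_fix_basis` with the range condition as a kernel-friendly Bool check. -/
theorem eq_one_of_fix_basis_bool (PT CT : Nat) (B : List Nat) (hmono : patMono PT = true)
    (hspan : spanCheck PT CT B = true) (hB : B.all (fun b => Nat.blt b 4060) = true)
    (g : P) (hg : g ∈ linGroup PT)
    (hfix : ∀ b ∈ B, ∀ hb : b < 4060, (g ⟨b, hb⟩).val = b) : g = 1 := by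
  refine eq_one_of_fix_basis PT CT B hmono hspan (fun b hb => ?_) g hg hfix
  have := List.all_eq_true.mp hB b hb
  simpa [Nat.blt_eq] using this

end Cfsg.Agent.Lib.Helper26.RuKey
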