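import Mathlib
import Cfsg.Agent.S0801

set_option autoImplicit false

namespace Cfsg.Agent.Lib.Helper26.SL2Gen

open Matrix

section basic

variable {R : Type*} [CommRing R]

/-- upper unitriangular -/
def am (x : R) : Matrix.SpecialLinearGroup (Fin 2) R :=
  ⟨!![1, x; 0, 1], by simp [Matrix.det_fin_two_of]⟩

/-- lower unitriangular -/
def bm (y : R) : Matrix.SpecialLinearGroup (Fin 2) R :=
  ⟨!![1, 0; y, 1], by simp [Matrix.det_fin_two_of]⟩

/-- the Weyl element -/
def wm : Matrix.SpecialLinearGroup (Fin 2) R :=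
  ⟨!![0, 1; -1, 0], by simp [Matrix.det_fin_two_of]⟩

/-- diagonal -/
def dm (μ ν : R) (h : μ * ν = 1) : Matrix.SpecialLinearGroup (Fin 2) R :=
  ⟨!![μ, 0; 0, ν], by simp [Matrix.det_fin_two_of, h]⟩

@[simp] lemma coe_am (x : R) : ((am x : Matrix.SpecialLinearGroup (Fin 2) R) :
    Matrix (Fin 2) (Fin 2) R) = !![1, x; 0, 1] := rfl
@[simp] lemma coe_bm (x : R) : ((bm x : Matrix.SpecialLinearGroup (Fin 2) R) :
    Matrix (Fin 2) (Fin 2) R) = !![1, 0; x, 1] := rfl
@[simp] lemma coe_wm : ((wm : Matrix.SpecialLinearGroup (Fin 2) R) :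
    Matrix (Fin 2) (Fin 2) R) = !![0, 1; -1, 0] := rfl
@[simp] lemma coe_dm (μ ν : R) (h : μ * ν = 1) : ((dm μ ν h : Matrix.SpecialLinearGroup (Fin 2) R) :
    Matrix (Fin 2) (Fin 2) R) = !![μ, 0; 0, ν] := rfl

lemma am_add (x y : R) : am (x + y) = am x * am y := by
  apply Subtype.ext
  ext i j
  fin_cases i <;> fin_cases j <;>
    simp [Matrix.SpecialLinearGroup.coe_mul, Matrix.mul_apply, Fin.sum_univ_two, add_comm]

lemma am_neg (x : R) : am (-x) = (am x)⁻¹ := by
  rw [eq_inv_iff_mul_eq_one, ← am_add]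
  apply Subtype.ext
  ext i j
  fin_cases i <;> fin_cases j <;> simp

lemma wm_bm (y : R) : (wm : Matrix.SpecialLinearGroup (Fin 2) R) * bm y * wm⁻¹ = am (-y) := by
  apply Subtype.ext
  ext i j
  fin_cases i <;> fin_cases j <;>
    simp [Matrix.SpecialLinearGroup.coe_mul, Matrix.SpecialLinearGroup.coe_inv,
      Matrix.adjugate_fin_two, Matrix.mul_apply, Fin.sum_univ_two]

lemma wm_am (y : R) : (wm : Matrix.SpecialLinearGroup (Fin 2) R) * am y * wm⁻¹ = bm (-y) := by
  apply Subtype.ext
  ext i j
  fin_cases i <;> fin_cases j <;>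
    simp [Matrix.SpecialLinearGroup.coe_mul, Matrix.SpecialLinearGroup.coe_inv,
      Matrix.adjugate_fin_two, Matrix.mul_apply, Fin.sum_univ_two]

lemma wm_dm (μ ν : R) (h : μ * ν = 1) :
    (wm : Matrix.SpecialLinearGroup (Fin 2) R) * dm μ ν h * wm⁻¹ =
      dm ν μ (by rw [mul_comm]; exact h) := by
  apply Subtype.ext
  ext i j
  fin_cases i <;> fin_cases j <;>
    simp [Matrix.SpecialLinearGroup.coe_mul, Matrix.SpecialLinearGroup.coe_inv,
      Matrix.adjugate_fin_two, Matrix.mul_apply, Fin.sum_univ_two]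

lemma dm_am (μ ν : R) (h : μ * ν = 1) (x : R) :
    dm μ ν h * am x * (dm μ ν h)⁻¹ = am (μ ^ 2 * x) := by
  apply Subtype.ext
  ext i j
  fin_cases i <;> fin_cases j <;>
    simp [Matrix.SpecialLinearGroup.coe_mul, Matrix.SpecialLinearGroup.coe_inv,
      Matrix.adjugate_fin_two, Matrix.mul_apply, Fin.sum_univ_two, h]
  · ring
  · rw [mul_comm ν μ, h]

variable {S : Type*} [CommRing S]

lemma map_am (f : R →+* S) (x : R) :
    Matrix.SpecialLinearGroup.map f (am x) = am (f x) := by
  apply Subtype.ext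
  ext i j
  fin_cases i <;> fin_cases j <;> simp [Matrix.SpecialLinearGroup.map_apply_coe]

lemma map_bm (f : R →+* S) (x : R) :
    Matrix.SpecialLinearGroup.map f (bm x) = bm (f x) := by
  apply Subtype.ext
  ext i j
  fin_cases i <;> fin_cases j <;> simp [Matrix.SpecialLinearGroup.map_apply_coe]

lemma map_dm (f : R →+* S) (μ ν : R) (h : μ * ν = 1) :
    Matrix.SpecialLinearGroup.map f (dm μ ν h) =
      dm (f μ) (f ν) (by rw [← map_mul, h, map_one]) := by
  apply Subtype.ext
  ext i j
  fin_cases i <;> fin_cases j <;> simp [Matrix.SpecialLinearGroup.map_apply_coe]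

lemma am_zero : am (0 : R) = 1 := by
  apply Subtype.ext
  ext i j
  fin_cases i <;> fin_cases j <;> simp

end basic

section main

lemma exists_sq_ne_one {k : Type*} [Field k] [Finite k]
    (hk2 : ringChar k ≠ 2) (hk3 : Nat.card k ≠ 3) : ∃ c : k, c ≠ 0 ∧ c ^ 2 ≠ 1 := by
  classical
  have := Fintype.ofFinite k
  have h2 : (2 : k) ≠ 0 := Ring.two_ne_zero hk2
  have h1 : (1 : k) ≠ -1 := by
    intro h
    apply h2
    linear_combination h
  by_contra hcon
  push Not at hcon
  have hall : ∀ c : k, c = 0 ∨ c = 1 ∨ c = -1 := by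
    intro c
    by_cases hc : c = 0
    · exact Or.inl hc
    · right
      have h3 := hcon c hc
      have h' : (c - 1) * (c + 1) = 0 := by linear_combination h3
      rcases mul_eq_zero.mp h' with h | h
      · left; linear_combination h
      · right; linear_combination h
  have huniv : (Finset.univ : Finset k) = {0, 1, -1} := by
    ext c
    simp only [Finset.mem_univ, Finset.mem_insert, Finset.mem_singleton, true_iff]
    exact hall c
  have hcard : Fintype.card k = 3 := by
    rw [← Finset.card_univ, huniv]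
    rw [Finset.card_insert_of_notMem, Finset.card_insert_of_notMem, Finset.card_singleton]
    · simpa using h1
    · simp only [Finset.mem_insert, Finset.mem_singleton, not_or]
      refine ⟨zero_ne_one, ?_⟩
      intro h
      exact one_ne_zero (neg_eq_zero.mp h.symm)
  exact hk3 (by rw [Nat.card_eq_fintype_card]; exact hcard)

lemma exists_lam {k K : Type*} [Field k] [Field K] [Algebra k K] [Finite k]
    (hk2 : ringChar k ≠ 2) (hk3 : Nat.card k ≠ 3) (α : K) :
    ∃ c : k, c ≠ 0 ∧ (algebraMap k K c * α) ^ 2 ≠ -1 := by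
  obtain ⟨c₁, hc₁, hc₁'⟩ := exists_sq_ne_one hk2 hk3
  by_cases h : (algebraMap k K 1 * α) ^ 2 = -1
  · refine ⟨c₁, hc₁, ?_⟩
    intro h'
    rw [map_one, one_mul] at h
    rw [mul_pow, h] at h'
    have h4 : algebraMap k K (c₁ ^ 2) = algebraMap k K 1 := by
      rw [map_pow, map_one]
      linear_combination -h'
    exact hc₁' ((algebraMap k K).injective h4)
  · exact ⟨1, one_ne_zero, h⟩

/-- the closure of `lam'` inside `Subfield.closure {lam}` is everything -/
lemma closure_self_eq_top {K : Type*} [Field K] (lam : K) :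
    Subfield.closure ({(⟨lam, Subfield.subset_closure rfl⟩ : ↥(Subfield.closure ({lam} : Set K)))} :
      Set ↥(Subfield.closure ({lam} : Set K))) = ⊤ := by
  set F := Subfield.closure ({lam} : Set K) with hF
  set S := Subfield.closure ({(⟨lam, Subfield.subset_closure rfl⟩ : ↥F)} : Set ↥F) with hS
  have h1 : F ≤ S.map F.subtype := by
    refine Subfield.closure_le.mpr ?_
    intro y hy
    rw [Set.mem_singleton_iff] at hy
    rw [hy]
    exact ⟨⟨lam, Subfield.subset_closure rfl⟩, Subfield.subset_closure rfl, rfl⟩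
  rw [eq_top_iff]
  rintro y -
  obtain ⟨s, hs, hsy⟩ := h1 y.2
  have : s = y := Subtype.ext hsy
  rw [← this]
  exact hs

theorem finite_core {k K : Type*} [Field k] [Field K] [Algebra k K] [Finite k]
    (hk2 : ringChar k ≠ 2) (hk3 : Nat.card k ≠ 3) (α : K) (hα : IsAlgebraic k α) (hα0 : α ≠ 0)
    (G : Subgroup (Matrix.SpecialLinearGroup (Fin 2) K))
    (hGa : ∀ c : k, am (algebraMap k K c) ∈ G)
    (hGb : ∀ c : k, bm (algebraMap k K c * α) ∈ G)
    (x : K) (hx : x ∈ IntermediateField.adjoin k ({α} : Set K)) : am x ∈ G := by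
  classical
  obtain ⟨c₀, hc₀, hlam2⟩ := exists_lam hk2 hk3 α
  set lam : K := algebraMap k K c₀ * α with hlam
  set L := IntermediateField.adjoin k ({α} : Set K) with hL
  set F := Subfield.closure ({lam} : Set K) with hF
  -- F is finite
  have hFL : F ≤ L.toSubfield := by
    refine Subfield.closure_le.mpr ?_
    intro y hy
    rw [Set.mem_singleton_iff] at hy
    rw [hy]
    exact L.mul_mem (L.algebraMap_mem c₀) (IntermediateField.mem_adjoin_simple_self k α)
  have : FiniteDimensional k L := IntermediateField.adjoin.finiteDimensional hα.isIntegral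
  have : Finite L := Module.finite_of_finite k
  have : Finite F :=
    Finite.of_injective (fun y : F => (⟨y.1, hFL y.2⟩ : L))
      (fun y z h => Subtype.ext (congrArg (fun t : L => (t : K)) h))
  haveI : Fintype F := Fintype.ofFinite F
  have h2k : (2 : k) ≠ 0 := Ring.two_ne_zero hk2
  have h2K : (2 : K) ≠ 0 := by
    have h2' : (2 : K) = algebraMap k K 2 := (map_ofNat (algebraMap k K) 2).symm
    rw [h2']
    intro h
    exact h2k ((algebraMap k K).injective (by rw [h, map_zero]))
  have h2F : (2 : F) ≠ 0 := by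
    intro h
    apply h2K
    have h2' : (2 : K) = F.subtype 2 := (map_ofNat F.subtype 2).symm
    rw [h2', h, map_zero]
  have hlam0 : lam ≠ 0 := by
    rw [hlam]
    refine mul_ne_zero ?_ hα0
    intro h
    exact hc₀ ((algebraMap k K).injective (by rw [h, map_zero]))
  set lam' : F := ⟨lam, Subfield.subset_closure rfl⟩ with hlam'
  have hlam'0 : lam' ≠ 0 := by
    intro h
    exact hlam0 (congrArg (fun t : F => (t : K)) h)
  have hgenF : Subfield.closure ({lam'} : Set F) = ⊤ := closure_self_eq_top lam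
  have hcl : Subgroup.closure {g : Matrix.SpecialLinearGroup (Fin 2) F |
      (g : Matrix (Fin 2) (Fin 2) F) = !![1, 0; 1, 1] ∨
      (g : Matrix (Fin 2) (Fin 2) F) = !![1, lam'; 0, 1]} = ⊤ := by
    rcases Cfsg.Agent.S0801.result h2F lam' hlam'0 hgenF with h | h
    · exact h.1
    · exfalso
      apply hlam2
      have h' := congrArg (fun t : F => (t : K)) h.2.1
      simpa using h'
  -- the homomorphism θ
  have hθ : ∀ g : Matrix.SpecialLinearGroup (Fin 2) F,
      wm * Matrix.SpecialLinearGroup.map F.subtype g * wm⁻¹ ∈ G := by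
    intro g
    have hle : (⊤ : Subgroup (Matrix.SpecialLinearGroup (Fin 2) F)) ≤
        (G.comap (MulAut.conj (wm : Matrix.SpecialLinearGroup (Fin 2) K)).toMonoidHom).comap
          (Matrix.SpecialLinearGroup.map F.subtype) := by
      rw [← hcl, Subgroup.closure_le]
      rintro g (hg | hg)
      · have hg' : g = bm 1 := Subtype.ext hg
        subst hg'
        show (MulAut.conj (wm : Matrix.SpecialLinearGroup (Fin 2) K))
          (Matrix.SpecialLinearGroup.map F.subtype (bm 1)) ∈ G
        rw [MulAut.conj_apply, map_bm, wm_bm]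
        have := hGa (-1)
        simpa using this
      · have hg' : g = am lam' := Subtype.ext hg
        subst hg'
        show (MulAut.conj (wm : Matrix.SpecialLinearGroup (Fin 2) K))
          (Matrix.SpecialLinearGroup.map F.subtype (am lam')) ∈ G
        rw [MulAut.conj_apply, map_am, wm_am]
        have := hGb (-c₀)
        simpa [hlam', hlam] using this
    have := hle (Subgroup.mem_top g)
    simpa [Subgroup.mem_comap, MulAut.conj_apply] using this
  -- F ⊆ A
  have hFA : ∀ y : F, am (y : K) ∈ G := by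
    intro y
    have := hθ (bm (-y))
    rw [map_bm, wm_bm] at this
    simpa using this
  -- squares
  have hsq : ∀ μ : F, ∀ x : K, am x ∈ G → am ((μ : K) ^ 2 * x) ∈ G := by
    intro μ x hx
    by_cases hμ : μ = 0
    · rw [hμ]
      simp only [ZeroMemClass.coe_zero, ne_eq, OfNat.ofNat_ne_zero, not_false_eq_true, zero_pow,
        zero_mul]
      rw [am_zero]
      exact G.one_mem
    · have hd := hθ (dm μ⁻¹ μ (inv_mul_cancel₀ hμ))
      rw [map_dm, wm_dm] at hd
      have := G.mul_mem (G.mul_mem hd hx) (G.inv_mem hd)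
      rw [dm_am] at this
      simpa using this
  -- F-multiplication
  have hmul : ∀ f : F, ∀ x : K, am x ∈ G → am ((f : K) * x) ∈ G := by
    intro f x hx
    have h1 := hsq ((f + 1) / 2) x hx
    have h2 := hsq ((f - 1) / 2) x hx
    have h3 := G.mul_mem h1 (G.inv_mem h2)
    rw [← am_neg, ← am_add] at h3
    have h4 : (f : K) * x = (((f + 1) / 2 : F) : K) ^ 2 * x + -((((f - 1) / 2 : F) : K) ^ 2 * x) := by
      have h2c : ((2 : F) : K) = 2 := map_ofNat F.subtype 2
      have e1 : (((f + 1) / 2 : F) : K) = ((f : K) + 1) / 2 := by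
        rw [← h2c]; exact map_div₀ F.subtype (f + 1) 2
      have e2 : (((f - 1) / 2 : F) : K) = ((f : K) - 1) / 2 := by
        rw [← h2c]; exact map_div₀ F.subtype (f - 1) 2
      rw [e1, e2]
      field_simp
      ring
    rw [h4]
    exact h3
  -- monomials
  have hmono : ∀ (a : k) (n : ℕ), am (algebraMap k K a * α ^ n) ∈ G := by
    intro a n
    have h1 := hmul (lam' ^ n) _ (hGa (a * (c₀⁻¹) ^ n))
    have h2 : ((lam' ^ n : F) : K) * algebraMap k K (a * (c₀⁻¹) ^ n) = algebraMap k K a * α ^ n := by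
      have hl : ((lam' ^ n : F) : K) = lam ^ n := map_pow F.subtype lam' n
      rw [hl, hlam]
      simp only [map_mul, map_pow, map_inv₀, mul_pow]
      have : algebraMap k K c₀ ≠ 0 := by
        intro h
        exact hc₀ ((algebraMap k K).injective (by rw [h, map_zero]))
      rw [inv_pow]
      field_simp
    rw [h2] at h1
    exact h1
  -- polynomials
  have hpoly : ∀ p : Polynomial k, am (Polynomial.aeval α p) ∈ G := by
    intro p
    induction p using Polynomial.induction_on' with
    | add p q hp hq =>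
      rw [map_add, am_add]
      exact G.mul_mem hp hq
    | monomial n a =>
      rw [Polynomial.aeval_monomial]
      exact hmono a n
  have hx' : x ∈ (IntermediateField.adjoin k ({α} : Set K)).toSubalgebra := hx
  rw [IntermediateField.adjoin_simple_toSubalgebra_of_isAlgebraic hα,
    Algebra.adjoin_singleton_eq_range_aeval] at hx'
  obtain ⟨p, rfl⟩ := hx'
  exact hpoly p

/-- K-S5060-A  FINITE CASE via the landed S0801. -/
theorem finite_case {k K : Type*} [Field k] [Field K] [Algebra k K] [Finite k]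
    (hk2 : ringChar k ≠ 2) (hk3 : Nat.card k ≠ 3) (α : K) (hα : IsAlgebraic k α) (hα0 : α ≠ 0)
    (x : K) (hx : x ∈ IntermediateField.adjoin k ({α} : Set K))
    (g : Matrix.SpecialLinearGroup (Fin 2) K)
    (hg : (g : Matrix (Fin 2) (Fin 2) K) = !![1, x; 0, 1]) :
    g ∈ Subgroup.closure
      ({g : Matrix.SpecialLinearGroup (Fin 2) K | ∃ c : k, (g : Matrix (Fin 2) (Fin 2) K) = !![1, algebraMap k K c; 0, 1]} ∪
        {g : Matrix.SpecialLinearGroup (Fin 2) K | ∃ c : k, (g : Matrix (Fin 2) (Fin 2) K) = !![1, 0; algebraMap k K c * α, 1]}) := by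
  have hg' : g = am x := Subtype.ext hg
  rw [hg']
  refine finite_core hk2 hk3 α hα hα0 _ ?_ ?_ x hx
  · intro c
    exact Subgroup.subset_closure (Or.inl ⟨c, rfl⟩)
  · intro c
    exact Subgroup.subset_closure (Or.inr ⟨c, rfl⟩)

end main

end Cfsg.Agent.Lib.Helper26.SL2Gen
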