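/-
Keystone K-SLO-9 (id 598109, architect helper49): diagonalisation of a nondegenerate quadratic form
in odd characteristic, and the case `x² = l²` of the involution analysis for S5981.
-/
import Mathlib
import Cfsg.Prelude.Def_Classical
import Cfsg.Prelude.Def_GeometricClasses
import Cfsg.Agent.Lib.Helper49.SLODefs
import Cfsg.Agent.Lib.Helper49.SubfieldInvol
import Cfsg.Agent.Lib.Helper50.GeoBridge

set_option autoImplicit false
set_option linter.unusedSectionVars false

namespace Cfsg.Agent.Lib.Helper26.SLO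

open Matrix Cfsg.Agent.Lib.Helper49.SLO Cfsg.Agent.Lib.Helper50

section gl

variable {F : Type*} [Field F] {ι : Type} [Fintype ι] [DecidableEq ι]

/-- a linear automorphism of `F^ι` is given by an invertible matrix -/
theorem exists_gl_of_linearEquiv (ψ : (ι → F) ≃ₗ[F] (ι → F)) :
    ∃ g : GL ι F, ∀ v, (g : Matrix ι ι F) *ᵥ v = ψ v := by
  refine ⟨Matrix.GeneralLinearGroup.toLin.symm (LinearMap.GeneralLinearGroup.ofLinearEquiv ψ),
    fun v => ?_⟩
  have h : Matrix.GeneralLinearGroup.toLin (Matrix.GeneralLinearGroup.toLin.symm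
      (LinearMap.GeneralLinearGroup.ofLinearEquiv ψ)) =
      LinearMap.GeneralLinearGroup.ofLinearEquiv ψ := MulEquiv.apply_symm_apply _ _
  have h3 : ((Matrix.GeneralLinearGroup.toLin (Matrix.GeneralLinearGroup.toLin.symm
      (LinearMap.GeneralLinearGroup.ofLinearEquiv ψ)) : LinearMap.GeneralLinearGroup F (ι → F)) :
      (ι → F) →ₗ[F] (ι → F)) v = ψ v := by
    rw [h]; rfl
  rw [Matrix.GeneralLinearGroup.coe_toLin, Matrix.mulVecLin_apply] at h3
  exact h3

end gl

variable {F : Type*} [Field F] [Fintype F]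

/-- **K-SLO-9 (a).** A nondegenerate quadratic form in odd characteristic is diagonalisable. -/
theorem exists_diag (h2 : (2 : F) ≠ 0) (n : ℕ) (Q : (Fin n → F) → F)
    (hQ : Cfsg.Geo.IsNondegenerateQuadraticForm Q) :
    ∃ (g : GL (Fin n) F) (c : Fin n → F), (∀ j, c j ≠ 0) ∧
      ∀ v, Q ((g : Matrix (Fin n) (Fin n) F) *ᵥ v) = diagQ c v := by
  classical
  have hinv : Invertible (2 : F) := invertibleOfNonzero h2
  set Qf : QuadraticForm F (Fin n → F) := geoForm Q hQ with hQf
  have hQfapp : ∀ v, Qf v = Q v := fun v => rfl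
  obtain ⟨b0, hb0⟩ :=
    LinearMap.BilinForm.exists_orthogonal_basis (QuadraticForm.associated_isSymm F Qf)
  have hfr : Module.finrank F (Fin n → F) = n := Module.finrank_fin_fun F
  set b : Module.Basis (Fin n) F (Fin n → F) := b0.reindex (finCongr hfr) with hb
  have hbo : (QuadraticMap.associated (R := F) Qf).IsOrthoᵢ b := by
    intro i j hij
    simp only [Function.onFun, hb, Module.Basis.reindex_apply]
    exact hb0 (fun h => hij ((finCongr hfr).symm.injective h))
  have hsep : (QuadraticMap.associated (R := F) Qf).SeparatingLeft := by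
    intro x hx
    by_contra hx0
    obtain ⟨y, hy⟩ := (hQ.nondegenerate x hx0).2
    apply hy
    have h1 := hx y
    have h3 : QuadraticMap.polarBilin Qf x y = (2 • QuadraticMap.associated (R := F) Qf) x y := by
      rw [QuadraticMap.two_nsmul_associated]
    rw [LinearMap.smul_apply, LinearMap.smul_apply, h1, smul_zero] at h3
    exact h3
  have hc : ∀ j, Q (b j) ≠ 0 := by
    intro j hj
    have h1 := hbo.not_isOrtho_basis_self_of_separatingLeft hsep j
    apply h1
    change QuadraticMap.associated (R := F) Qf (b j) (b j) = 0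
    rw [QuadraticMap.associated_eq_self_apply]
    exact hj
  have key : ∀ v : Fin n → F, Qf (∑ j, v j • b j) = ∑ j, Qf (b j) • (v j * v j) := by
    intro v
    have h1 := QuadraticMap.basisRepr_eq_of_iIsOrtho Qf b hbo
    have h2 := congrArg (fun R : QuadraticForm F (Fin n → F) => R v) h1
    simpa [QuadraticMap.basisRepr_apply, QuadraticMap.weightedSumSquares_apply] using h2
  obtain ⟨g, hg⟩ := exists_gl_of_linearEquiv b.equivFun.symm
  refine ⟨g, fun j => Q (b j), hc, fun v => ?_⟩
  rw [hg, Module.Basis.equivFun_symm_apply, ← hQfapp, key]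
  unfold diagQ
  refine Finset.sum_congr rfl (fun j _ => ?_)
  rw [hQfapp, smul_eq_mul, pow_two]

/-- **K-SLO-9 (b).** If `x² = l²` is a square scalar then `x` is `GL`-conjugate into the
similarity group of every diagonal form. -/
theorem invol_sq (h2 : (2 : F) ≠ 0) (n : ℕ) (c : Fin n → F) (x : GL (Fin n) F) (l : F)
    (hx : ((x ^ 2 : GL (Fin n) F) : Matrix (Fin n) (Fin n) F) =
      (l ^ 2) • (1 : Matrix (Fin n) (Fin n) F)) :
    ∃ g : GL (Fin n) F, g⁻¹ * x * g ∈ Cfsg.Geo.quadSimilarityGroup (diagQ c) := by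
  classical
  rcases Nat.eq_zero_or_pos n with rfl | hn0
  · refine ⟨1, 1, fun v => ?_⟩
    have h0 : ∀ w : Fin 0 → F, w = v := fun w => Subsingleton.elim _ _
    rw [h0 (_ *ᵥ v), Units.val_one, one_mul]
  have : Nonempty (Fin n) := ⟨⟨0, hn0⟩⟩
  have hl0 : l ≠ 0 := by
    rintro rfl
    have h1 : ((x ^ 2 : GL (Fin n) F) : Matrix (Fin n) (Fin n) F).det = 0 := by
      rw [hx]; simp
    have h3 := (Matrix.GeneralLinearGroup.det (x ^ 2)).ne_zero
    rw [Matrix.GeneralLinearGroup.val_det_apply] at h3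
    exact h3 h1
  set s : Matrix (Fin n) (Fin n) F := l⁻¹ • (x : Matrix (Fin n) (Fin n) F) with hs_def
  have hxs : (x : Matrix (Fin n) (Fin n) F) = l • s := by
    rw [hs_def, smul_smul, mul_inv_cancel₀ hl0, one_smul]
  have hs : s * s = 1 := by
    have hxx : (x : Matrix (Fin n) (Fin n) F) * (x : Matrix (Fin n) (Fin n) F) =
        (l ^ 2) • (1 : Matrix (Fin n) (Fin n) F) := by
      rw [← pow_two, ← Units.val_pow_eq_pow_val]; exact hx
    rw [hs_def, Matrix.smul_mul, Matrix.mul_smul, smul_smul, hxx, smul_smul]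
    have : l⁻¹ * l⁻¹ * l ^ 2 = 1 := by field_simp
    rw [this, one_smul]
  obtain ⟨P, ε, hPdet, hε, hsP⟩ := Cfsg.Agent.Lib.Helper49.exists_sl_conj_diag h2 hn0 s hs
  set g : GL (Fin n) F := Matrix.GeneralLinearGroup.mkOfDetNeZero P
    (by rw [hPdet]; exact one_ne_zero) with hg
  have hgP : (g : Matrix (Fin n) (Fin n) F) = P := rfl
  have hconj : ((g⁻¹ * x * g : GL (Fin n) F) : Matrix (Fin n) (Fin n) F) =
      l • Matrix.diagonal ε := by
    have h1 : (x : Matrix (Fin n) (Fin n) F) * (g : Matrix (Fin n) (Fin n) F) =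
        (g : Matrix (Fin n) (Fin n) F) * (l • Matrix.diagonal ε) := by
      rw [hgP, hxs, Matrix.smul_mul, hsP, Matrix.mul_smul]
    have h2' : ((g⁻¹ : GL (Fin n) F) : Matrix (Fin n) (Fin n) F) *
        (g : Matrix (Fin n) (Fin n) F) = 1 := by
      rw [← Units.val_mul, inv_mul_cancel, Units.val_one]
    rw [Units.val_mul, Units.val_mul, mul_assoc, h1, ← mul_assoc, h2', one_mul]
  refine ⟨g, Units.mk0 (l ^ 2) (pow_ne_zero 2 hl0), fun v => ?_⟩
  rw [hconj, Units.val_mk0]
  unfold diagQ
  rw [Finset.mul_sum]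
  refine Finset.sum_congr rfl (fun j _ => ?_)
  rw [Matrix.smul_mulVec, Pi.smul_apply, Matrix.mulVec_diagonal, smul_eq_mul]
  rcases hε j with h | h <;> rw [h] <;> ring

end Cfsg.Agent.Lib.Helper26.SLO
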