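import Mathlib
import Cfsg.Agent.Lib.Helper72.SNCDefs
import Cfsg.Agent.Lib.Helper19.DicksonUse

/-!
# K-SNC pack (S4073 converse), leaf SNC-12: cardinalities of `PSL₂` / `PGL₂` in characteristic 2
-/

set_option autoImplicit false

namespace Cfsg.Agent.Lib.Helper26.SNC

open Cfsg.Agent.Lib.Helper72.SNC

universe u v

/-- 407312 SNC-12 (a) -/
theorem card_six_of_card_two {K : Type} [Field K] [Fintype K] (hK : Fintype.card K = 2) :
    Nat.card (Matrix.ProjectiveSpecialLinearGroup (Fin 2) K) = 6 ∧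
      Nat.card (Matrix.ProjGenLinGroup (Fin 2) K) = 6 := by
  constructor
  · have h := Cfsg.Agent.Lib.Helper19.DicksonUse.card_psl_mul_d (F := K)
    rw [hK] at h
    norm_num at h
    exact h
  · rw [Cfsg.Agent.Lib.Helper19.DicksonUse.card_pgl K, hK]

/-- 407312 SNC-12 (b) -/
theorem card_eq_of_card_eq {F : Type} [Field F] [Fintype F] {K : Type} [Field K] [Fintype K] (n : ℕ)
    (hn : 1 ≤ n) (hF : Fintype.card F = 2 ^ n) (hK : Fintype.card K = 2 ^ n) :
    Nat.card (Matrix.ProjectiveSpecialLinearGroup (Fin 2) K) =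
        Nat.card (Matrix.ProjectiveSpecialLinearGroup (Fin 2) F) ∧
      Nat.card (Matrix.ProjGenLinGroup (Fin 2) K) =
        Nat.card (Matrix.ProjectiveSpecialLinearGroup (Fin 2) F) := by
  have hev : Even (2 ^ n) := (Nat.even_pow' (by omega)).2 even_two
  have hpos : 0 < 2 ^ n := by positivity
  have hg : Nat.gcd 2 (2 ^ n - 1) = 1 :=
    Cfsg.Agent.Lib.Helper19.DicksonUse.gcd_two_even hev hpos
  have h1 := Cfsg.Agent.Lib.Helper19.DicksonUse.card_psl_mul_d (F := K)
  have h2 := Cfsg.Agent.Lib.Helper19.DicksonUse.card_psl_mul_d (F := F)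
  rw [hK, hg, mul_one] at h1
  rw [hF, hg, mul_one] at h2
  constructor
  · rw [h1, h2]
  · rw [Cfsg.Agent.Lib.Helper19.DicksonUse.card_pgl K, hK, h2]

end Cfsg.Agent.Lib.Helper26.SNC
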