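import Mathlib
import Cfsg.Prelude.Def_Solvable
import Cfsg.Prelude.Def_Local
import Cfsg.Prelude.Def_SolvableStructure
import Cfsg.Agent.Lib.Helper41.SchmidtPLDefs

/-!
# K-SPL-G3a (keystone 439418, S4394 pack of helper41): `|Q : H| = p ⟹ |Z(Q)| = p`

Also the shared tools for K-SPL-G3c: `exists_yOf_not_zIn`, `commHom`, `le_of_prime_index`.
-/

set_option autoImplicit false

namespace Cfsg.Agent.Lib.Helper26.SPL

open Cfsg Cfsg.Agent.Lib.Helper41.SchmidtPL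
open scoped commutatorElement

/-- shared: an element of `Y` outside `Z(Q)` -/
theorem exists_yOf_not_zIn {W : Type*} [Group W] {p : ℕ} {Q : Subgroup W}
    (hlt : ¬ Q ≤ Cfsg.pCore p W)
    (hC : ∀ g ∈ Q, (∀ y ∈ yOf Q, g * y = y * g) → g ∈ Cfsg.pCore p W) :
    ∃ y ∈ yOf Q, y ∉ zIn Q := by
  by_contra hcon
  push Not at hcon
  apply hlt
  intro g hg
  apply hC g hg
  intro y hy
  exact (mem_zIn.mp (hcon y hy)).2 g hg

theorem comm_mul_right_of_central {W : Type*} [Group W] (y g g' : W)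
    (hc : g * ⁅y, g'⁆ = ⁅y, g'⁆ * g) : ⁅y, g * g'⁆ = ⁅y, g⁆ * ⁅y, g'⁆ := by
  have h1 : ⁅y, g'⁆ = g * ⁅y, g'⁆ * g⁻¹ := by rw [hc]; group
  conv_rhs => rw [h1]
  simp only [commutatorElement_def]
  group

/-- `g ↦ ⁅y, g⁆` as a hom `L → Z(Q)` for `y ∈ Q`, `L ≤ Q`, `Q` of class 2 -/
noncomputable def commHom {W : Type*} [Group W] {Q : Subgroup W}
    (hcl : ∀ x ∈ Q, ∀ y ∈ Q, ⁅x, y⁆ ∈ zIn Q) (y : W) (hy : y ∈ Q) (L : Subgroup W)
    (hL : L ≤ Q) : ↥L →* ↥(zIn Q) :=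
  MonoidHom.mk' (fun g => ⟨⁅y, (g : W)⁆, hcl y hy g (hL g.2)⟩) (by
    intro a b
    apply Subtype.ext
    show ⁅y, (a : W) * b⁆ = ⁅y, (a : W)⁆ * ⁅y, (b : W)⁆
    exact comm_mul_right_of_central y a b
      ((mem_zIn.mp (hcl y hy b (hL b.2))).2 a (hL a.2)))

theorem commHom_apply {W : Type*} [Group W] {Q : Subgroup W}
    (hcl : ∀ x ∈ Q, ∀ y ∈ Q, ⁅x, y⁆ ∈ zIn Q) (y : W) (hy : y ∈ Q) (L : Subgroup W)
    (hL : L ≤ Q) (g : ↥L) : ((commHom hcl y hy L hL g : ↥(zIn Q)) : W) = ⁅y, (g : W)⁆ := rfl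

theorem mem_ker_commHom {W : Type*} [Group W] {Q : Subgroup W}
    (hcl : ∀ x ∈ Q, ∀ y ∈ Q, ⁅x, y⁆ ∈ zIn Q) (y : W) (hy : y ∈ Q) (L : Subgroup W)
    (hL : L ≤ Q) (g : ↥L) : g ∈ (commHom hcl y hy L hL).ker ↔ y * (g : W) = (g : W) * y := by
  rw [MonoidHom.mem_ker, ← commutatorElement_eq_one_iff_mul_comm]
  constructor
  · intro h
    have := congrArg (fun z : ↥(zIn Q) => (z : W)) h
    simpa [commHom_apply] using this
  · intro h
    apply Subtype.ext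
    rw [commHom_apply, h]; rfl

/-- a subgroup strictly between is everything when the index is prime -/
theorem le_of_prime_index {W : Type*} [Group W] [Finite W] {p : ℕ} (hp : p.Prime)
    {H M Q : Subgroup W} (hHM : H ≤ M) (hMQ : M ≤ Q) (hidx : Nat.card Q = p * Nat.card H)
    (hne : ¬ M ≤ H) : Q ≤ M := by
  have hHpos : 0 < Nat.card H := Nat.card_pos
  obtain ⟨m, hm⟩ := Subgroup.card_dvd_of_le hHM
  have h2 : Nat.card M ∣ Nat.card Q := Subgroup.card_dvd_of_le hMQ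
  rw [hidx, hm, mul_comm p] at h2
  have h3 : m ∣ p := Nat.dvd_of_mul_dvd_mul_left hHpos h2
  rcases (Nat.dvd_prime hp).mp h3 with h4 | h4
  · exfalso
    apply hne
    rw [h4, mul_one] at hm
    exact (Subgroup.eq_of_le_of_card_ge hHM hm.le).ge
  · have : Nat.card Q ≤ Nat.card M := by rw [hidx, hm, h4, mul_comm]
    exact (Subgroup.eq_of_le_of_card_ge hMQ this).ge

theorem card_zIn_eq {W : Type*} [Group W] [Finite W] {p : ℕ} [Fact p.Prime] {Q : Subgroup W}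
    (h : WCtx p Q)
    (hY : zIn Q ≤ yOf Q ∧ yOf Q ≤ Cfsg.pCore p W ∧
      (∀ y ∈ yOf Q, ∀ x ∈ Cfsg.pCore p W, y * x = x * y) ∧ (∀ y ∈ yOf Q, y ^ p = 1))
    (hC : ∀ g ∈ Q, (∀ y ∈ yOf Q, g * y = y * g) → g ∈ Cfsg.pCore p W)
    (hidx : Nat.card Q = p * Nat.card (Cfsg.pCore p W)) :
    Nat.card (zIn Q) = p := by
  have hp : p.Prime := Fact.out
  obtain ⟨y, hyY, hyZ⟩ := exists_yOf_not_zIn h.lt hC
  have hyQ : y ∈ Q := h.le (hY.2.1 hyY)
  set f := commHom h.schm.class2 y hyQ Q le_rfl with hf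
  have hsurj : Function.Surjective f := by
    intro z
    obtain ⟨g, hg, hgz⟩ := h.schm.camina y hyQ hyZ z z.2
    exact ⟨⟨g, hg⟩, Subtype.ext hgz⟩
  have hker : (Cfsg.pCore p W).subgroupOf Q ≤ f.ker := by
    intro g hg
    rw [hf, mem_ker_commHom]
    exact hY.2.2.1 y hyY g (Subgroup.mem_subgroupOf.mp hg)
  have h1 : f.ker.index = Nat.card (zIn Q) := by
    rw [Subgroup.index_ker, MonoidHom.range_eq_top.mpr hsurj, Subgroup.card_top]
  have h2 : f.ker.index ∣ ((Cfsg.pCore p W).subgroupOf Q).index := Subgroup.index_dvd_of_le hker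
  have h3 : ((Cfsg.pCore p W).subgroupOf Q).index = p := by
    have h4 := Subgroup.card_mul_index ((Cfsg.pCore p W).subgroupOf Q)
    have h5 : Nat.card ((Cfsg.pCore p W).subgroupOf Q) = Nat.card (Cfsg.pCore p W) :=
      Nat.card_congr (Subgroup.subgroupOfEquivOfLe h.le).toEquiv
    rw [h5, hidx, mul_comm p] at h4
    exact Nat.eq_of_mul_eq_mul_left Nat.card_pos h4
  rw [h1, h3] at h2
  rcases (Nat.dvd_prime hp).mp h2 with h4 | h4
  · exfalso
    obtain ⟨a, ha, b, hb, hab⟩ := h.schm.nonab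
    have hc := h.schm.class2 a ha b hb
    have hbot : zIn Q = ⊥ := Subgroup.card_eq_one.mp h4
    rw [hbot, Subgroup.mem_bot, commutatorElement_eq_one_iff_mul_comm] at hc
    exact hab hc
  · exact h4

end Cfsg.Agent.Lib.Helper26.SPL
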