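import Mathlib
import Cfsg.Prelude.Def_Solvable
import Cfsg.Prelude.Def_Local
import Cfsg.Prelude.Def_SolvableStructure
import Cfsg.Agent.Lib.Helper41.SchmidtPLDefs
import Cfsg.Agent.Lib.Helper26.SPLG3a

/-!
# K-SPL-G3c (keystone 439420, S4394 pack of helper41): `|Q| = p^3` and `H ∖ Z` has an element of
order `p`.
-/

set_option autoImplicit false

namespace Cfsg.Agent.Lib.Helper26.SPL

open Cfsg Cfsg.Agent.Lib.Helper41.SchmidtPL
open scoped commutatorElement

theorem card_cube {W : Type*} [Group W] [Finite W] {p : ℕ} [Fact p.Prime] {Q : Subgroup W}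
    (h : WCtx p Q)
    (hY : zIn Q ≤ yOf Q ∧ yOf Q ≤ Cfsg.pCore p W ∧
      (∀ y ∈ yOf Q, ∀ x ∈ Cfsg.pCore p W, y * x = x * y) ∧ (∀ y ∈ yOf Q, y ^ p = 1))
    (hC : ∀ g ∈ Q, (∀ y ∈ yOf Q, g * y = y * g) → g ∈ Cfsg.pCore p W)
    (hidx : Nat.card Q = p * Nat.card (Cfsg.pCore p W))
    (hZ : Nat.card (zIn Q) = p)
    (hab : ∀ x ∈ Cfsg.pCore p W, ∀ y ∈ Cfsg.pCore p W, x * y = y * x) :
    Nat.card Q = p ^ 3 ∧ ∃ y ∈ Cfsg.pCore p W, y ∉ zIn Q ∧ y ^ p = 1 := by
  have hp : p.Prime := Fact.out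
  obtain ⟨y, hyY, hyZ⟩ := exists_yOf_not_zIn h.lt hC
  have hyH : y ∈ Cfsg.pCore p W := hY.2.1 hyY
  refine ⟨?_, y, hyH, hyZ, hY.2.2.2 y hyY⟩
  obtain ⟨x, hxQ, hxH⟩ := SetLike.not_le_iff_exists.mp h.lt
  have hZH : zIn Q ≤ Cfsg.pCore p W := hY.1.trans hY.2.1
  set φ := commHom h.schm.class2 x hxQ (Cfsg.pCore p W) h.le with hφ
  have hker : φ.ker = (zIn Q).subgroupOf (Cfsg.pCore p W) := by
    ext g
    rw [hφ, mem_ker_commHom, Subgroup.mem_subgroupOf]
    constructor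
    · intro hg
      rw [mem_zIn]
      refine ⟨h.le g.2, ?_⟩
      have hM : Q ≤ Q ⊓ Subgroup.centralizer {(g : W)} := by
        apply le_of_prime_index hp (H := Cfsg.pCore p W) _ inf_le_left hidx
        · intro hle
          apply hxH
          apply hle
          exact Subgroup.mem_inf.mpr ⟨hxQ, Subgroup.mem_centralizer_singleton_iff.mpr hg⟩
        · intro a ha
          exact Subgroup.mem_inf.mpr ⟨h.le ha,
            Subgroup.mem_centralizer_singleton_iff.mpr (hab a ha g g.2)⟩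
      intro q hq
      exact Subgroup.mem_centralizer_singleton_iff.mp (Subgroup.mem_inf.mp (hM hq)).2
    · intro hg
      exact (mem_zIn.mp hg).2 x hxQ
  have h1 : Nat.card φ.ker = p := by
    rw [hker]
    exact (Nat.card_congr (Subgroup.subgroupOfEquivOfLe hZH).toEquiv).trans hZ
  have h2 : Nat.card φ.ker * Nat.card φ.range = Nat.card (Cfsg.pCore p W) := by
    rw [← Subgroup.index_ker]
    exact Subgroup.card_mul_index φ.ker
  have h3 : Nat.card φ.range ∣ p := by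
    have := Subgroup.card_subgroup_dvd_card φ.range
    rwa [hZ] at this
  rcases (Nat.dvd_prime hp).mp h3 with h4 | h4
  · exfalso
    rw [h1, h4, mul_one] at h2
    have : zIn Q = Cfsg.pCore p W :=
      Subgroup.eq_of_le_of_card_ge hZH (by rw [hZ, ← h2])
    apply hyZ
    rw [this]
    exact hyH
  · rw [h1, h4] at h2
    rw [hidx, ← h2]
    ring

end Cfsg.Agent.Lib.Helper26.SPL
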