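import Mathlib
import Cfsg.Prelude.Def_Solvable
import Cfsg.Prelude.Def_Local
import Cfsg.Prelude.Def_SolvableStructure
import Cfsg.Agent.Lib.Helper41.SchmidtPLDefs

/-!
# K-SPL-SA4b (keystone 439407, S4394 pack of helper41): `r ∣ |P| - |Z(P)|`
-/

set_option autoImplicit false

namespace Cfsg.Agent.Lib.Helper26.SPL

open Cfsg Cfsg.Agent.Lib.Helper41.SchmidtPL
open scoped commutatorElement

theorem opData_r_dvd {X : Type*} [Group X] [Finite X] {p r : ℕ} [Fact p.Prime] {P K : Subgroup X}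
    (h : OpData p r P K)
    (hfix : ∀ x ∈ P, (∀ k ∈ K, k * x = x * k) ↔ x ∈ zIn P) :
    r ∣ Nat.card P - Nat.card (zIn P) := by
  classical
  have hrP : Fact r.Prime := ⟨h.hr⟩
  let act : MulAction ↥K ↥P :=
    { smul := fun k x => ⟨(k : X) * x * (k : X)⁻¹, h.norm k k.2 x x.2⟩
      one_smul := fun x => by
        apply Subtype.ext
        show ((1 : ↥K) : X) * x * ((1 : ↥K) : X)⁻¹ = x
        simp
      mul_smul := fun a b x => by
        apply Subtype.ext
        show ((a * b : ↥K) : X) * x * ((a * b : ↥K) : X)⁻¹ = (a : X) * ((b : X) * x * (b : X)⁻¹) * (a : X)⁻¹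
        simp [mul_assoc] }
  have hsm : ∀ (k : ↥K) (x : ↥P), ((k • x : ↥P) : X) = (k : X) * x * (k : X)⁻¹ := fun _ _ => rfl
  have h1 := h.hK.card_modEq_card_fixedPoints ↥P
  have h2 : Nat.card (MulAction.fixedPoints ↥K ↥P) = Nat.card (zIn P) := by
    apply Nat.card_congr
    refine ⟨fun x => ⟨((x : ↥P) : X), ?_⟩, fun z => ⟨⟨(z : X), ?_⟩, ?_⟩, ?_, ?_⟩
    · rw [← hfix _ (x : ↥P).2]
      intro k hk
      have := x.2 ⟨k, hk⟩
      have h3 := congrArg (fun y : ↥P => (y : X)) this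
      simp only [hsm] at h3
      calc k * ((x : ↥P) : X) = (k * ((x : ↥P) : X) * k⁻¹) * k := by group
        _ = ((x : ↥P) : X) * k := by rw [h3]
    · exact (mem_zIn.mp z.2).1
    · intro k
      apply Subtype.ext
      rw [hsm]
      have := (hfix _ (mem_zIn.mp z.2).1).mpr z.2 k k.2
      show (k : X) * (z : X) * (k : X)⁻¹ = (z : X)
      rw [this]; simp
    · intro x; rfl
    · intro z; rfl
  have hle : Nat.card (zIn P) ≤ Nat.card P :=
    Nat.card_le_card_of_injective (Subgroup.inclusion (inf_le_left : zIn P ≤ P))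
      (Subgroup.inclusion_injective _)
  rw [h2] at h1
  exact (Nat.modEq_iff_dvd' hle).mp h1.symm

end Cfsg.Agent.Lib.Helper26.SPL
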