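import Mathlib
import Cfsg.Prelude.Def_GeometricClasses
import Cfsg.Agent.Lib.Helper51.SUMax2

/-!
K-SUMax-N2 (keystone 581103), architect helper44: `SU_n(q)` (`n ≥ 3`) lies in no decomposition
stabiliser.  Proof: the union `U` of the members of the decomposition would be invariant, while
`SU` is transitive on the non-zero vectors of a given norm; (1) some non-zero isotropic vector is
outside `U` (hyperbolic lines have three isotropic points), hence `U` has no non-zero isotropic
vector; (2) then there are at least three members, every vector outside `U` is isotropic, and the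
norms of `d₀ + β d₁ + γ d₂` give a contradiction.
-/

set_option autoImplicit false
set_option linter.unusedVariables false
set_option linter.unusedSectionVars false

namespace Cfsg.Agent.Lib.Helper26.SUMax

open Cfsg Cfsg.Geo Cfsg.Agent.Lib.Helper08 Cfsg.Agent.Lib.Helper51
open Cfsg.Agent.Lib.Helper19 (pow_q_pow_q add_pow_q)
open scoped Matrix Kronecker MatrixGroups

variable {F : Type*} [Field F] [Fintype F] {n q : ℕ}

local notation "hh" => hform (Fin n) F q

/-- the norm of a sum of three vectors. -/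
lemma hh_three (hF : Fintype.card F = q ^ 2) (x y z : Fin n → F) :
    hh (x + y + z) (x + y + z) = hh (x + y) (x + y) + hh (x + z) (x + z) + hh (y + z) (y + z)
      - hh x x - hh y y - hh z z := by
  simp only [hform_add_left, hform_add_right hF]
  ring

/-- a subspace of dimension at least two contains a non-zero isotropic vector. -/
lemma exists_isotropic_of_finrank (hF : Fintype.card F = q ^ 2) (W : Submodule F (Fin n → F))
    (hW : 2 ≤ Module.finrank F W) : ∃ v ∈ W, v ≠ 0 ∧ hh v v = 0 := by
  have hWne : W ≠ ⊥ := by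
    rintro rfl
    rw [finrank_bot] at hW
    omega
  obtain ⟨x, hxW, hx0⟩ := Submodule.exists_mem_ne_zero_of_ne_bot hWne
  by_cases hNx : hh x x = 0
  · exact ⟨x, hxW, hx0, hNx⟩
  have hnle : ¬ W ≤ Submodule.span F {x} := by
    intro hle
    have h1 := Submodule.finrank_mono hle
    have h2 : Module.finrank F (Submodule.span F {x}) ≤ 1 := by
      have := finrank_span_le_card (R := F) ({x} : Set (Fin n → F))
      simpa using this
    omega
  obtain ⟨y, hyW, hyx⟩ := SetLike.not_le_iff_exists.mp hnle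
  set c : F := hh y x / hh x x with hc
  set y' : Fin n → F := y - c • x with hy'
  have hy'W : y' ∈ W := W.sub_mem hyW (W.smul_mem _ hxW)
  have hy'x : hh y' x = 0 := by
    rw [hy', hform_sub_left, hform_smul_left, hc, div_mul_cancel₀ _ hNx, sub_self]
  have hxy' : hh x y' = 0 := by
    rw [← hform_conj hF, hy'x, zero_pow (q_ne_zero' hF)]
  have hy'span : ∀ l : F, y' + l • x ≠ 0 := by
    intro l h0
    apply hyx
    have : y = (c - l) • x := by
      have h1 : y - c • x + l • x = 0 := h0
      rw [sub_smul]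
      have h2 : y = y - c • x + l • x + (c • x - l • x) := by abel
      rw [h2, h1, zero_add]
    rw [this]
    exact Submodule.smul_mem _ _ (Submodule.mem_span_singleton_self x)
  by_cases hNy : hh y' y' = 0
  · refine ⟨y', hy'W, ?_, hNy⟩
    have := hy'span 0
    simpa using this
  -- solve `N(λ) N(x) = - N(y')`
  have hfix : (-(hh y' y') / hh x x) ^ q = -(hh y' y') / hh x x := by
    rw [div_pow, neg_pow_q hF, hform_self_pow hF, hform_self_pow hF]
  obtain ⟨l, hl⟩ := exists_nm_eq hF _ hfix
  refine ⟨y' + l • x, W.add_mem hy'W (W.smul_mem _ hxW), hy'span l, ?_⟩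
  rw [hform_add_left, hform_add_right hF, hform_add_right hF, hform_smul_left, hform_smul_left,
    hform_smul_right, hform_smul_right, hy'x, hxy']
  have : l * (l ^ q * hh x x) = -(hh y' y') := by
    rw [← mul_assoc, hl, div_mul_cancel₀ _ hNx]
  rw [this]
  ring

/-- **K-SUMax-N2.** -/
theorem su_not_le_decompositionStabilizer (hF : Fintype.card F = q ^ 2) (hn : 3 ≤ n)
    (hex : ¬ (n = 3 ∧ q = 2)) {t k : ℕ}
    (D : Fin t → Submodule F (Fin n → F)) (hD : IsMDecomposition k D) :
    ¬ GU n F q ⊓ specialLinear (Fin n) F ≤ decompositionStabilizer D := by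
  intro hle
  have hq0 : q ≠ 0 := q_ne_zero' hF
  have ht : 2 ≤ t := hD.two_le
  -- transitivity of `SU` on vectors of equal norm keeps the union invariant
  have step1 : ∀ u v : Fin n → F, (∃ i, u ∈ D i) → u ≠ 0 → v ≠ 0 → hh u u = hh v v →
      ∃ j, v ∈ D j := by
    rintro u v ⟨i, hu⟩ hu0 hv0 huv
    obtain ⟨A, hA, hAu, hdet⟩ := exists_iso_same_norm_det hF hn u v hu0 hv0 huv 1
      (by rw [one_pow, mul_one])
    let g : GL (Fin n) F := (hA.isUnit hF).unit
    have hg : g ∈ GU n F q ⊓ specialLinear (Fin n) F := (mem_GUSL_iff g).mpr ⟨hA, hdet⟩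
    obtain ⟨σ, hσ⟩ := hle hg
    refine ⟨σ i, ?_⟩
    rw [← hσ i, ← hAu]
    exact Submodule.mem_map.mpr ⟨u, hu, by rw [Matrix.toLin'_apply]; rfl⟩
  -- independence
  have hdisj : ∀ a : Fin t, ∀ x : Fin n → F, x ∈ D a → x ∈ ⨆ (j) (_ : j ≠ a), D j → x = 0 :=
    fun a x h1 h2 => Submodule.disjoint_def.mp (hD.indep a) x h1 h2
  have hsup : ∀ a b : Fin t, b ≠ a → ∀ x : Fin n → F, x ∈ D b → x ∈ ⨆ (j) (_ : j ≠ a), D j :=
    fun a b hba x hx => (le_iSup₂ (f := fun j (_ : j ≠ a) => D j) b hba) hx
  -- key lemma: `x ∈ D a` non-zero, `y` in the other members, `x + y ∈ D l` forces `y = 0`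
  have keyL : ∀ (a : Fin t) (x y : Fin n → F), x ∈ D a → x ≠ 0 →
      y ∈ ⨆ (j) (_ : j ≠ a), D j → ∀ l, x + y ∈ D l → l = a ∧ y = 0 := by
    intro a x y hx hx0 hy l hxy
    by_cases hla : l = a
    · refine ⟨hla, ?_⟩
      subst hla
      apply hdisj l y _ hy
      have := (D l).sub_mem hxy hx
      simpa using this
    · exfalso
      apply hx0
      apply hdisj a x hx
      have h1 := hsup a l hla _ hxy
      have := Submodule.sub_mem _ h1 hy
      simpa using this
  have hne : ∀ i, D i ≠ ⊥ := by
    intro i h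
    have := hD.finrank_eq i
    rw [h, finrank_bot] at this
    have := hD.pos
    omega
  set i0 : Fin t := ⟨0, by omega⟩ with hi0
  set i1 : Fin t := ⟨1, by omega⟩ with hi1
  have h01 : i1 ≠ i0 := by
    intro h
    have := congrArg Fin.val h
    simp [hi0, hi1] at this
  obtain ⟨d0, hd0, hd00⟩ := Submodule.exists_mem_ne_zero_of_ne_bot (hne i0)
  obtain ⟨d1, hd1, hd10⟩ := Submodule.exists_mem_ne_zero_of_ne_bot (hne i1)
  -- Step 2: a non-zero isotropic vector outside the union
  have step2 : ∃ v : Fin n → F, v ≠ 0 ∧ hh v v = 0 ∧ ∀ l, v ∉ D l := by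
    by_contra hcon
    push Not at hcon
    obtain ⟨z, hzz, hzd0, hzd1⟩ := exists_isotropic_two hF (by omega) d0 d1 hd00 hd10
    have hz0 : z ≠ 0 := by
      rintro rfl
      exact hzd0 (hform_zero_left _)
    obtain ⟨a', hza'⟩ := hcon z hz0 hzz
    -- `z` lies in the member of any `d` it is not orthogonal to
    have hS : ∀ (a : Fin t) (d : Fin n → F), d ∈ D a → d ≠ 0 → hh z d ≠ 0 → a' = a := by
      intro a d hda hd0' hc
      by_contra hne'
      set c : F := hh z d with hc'
      have hdz : hh d z = c ^ q := by rw [hc', hform_conj hF]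
      have hη : (-(hh d d)) ^ q = -(hh d d) := by rw [neg_pow_q hF, hform_self_pow hF]
      obtain ⟨μ₁, hμ₁⟩ := exists_tr_eq hF _ hη
      obtain ⟨s, hs0, hs⟩ := exists_skew_ne_zero hF
      have hμ₂ : (μ₁ + s) + (μ₁ + s) ^ q = -(hh d d) := by
        rw [add_pow_q hF, ← hμ₁]
        linear_combination hs
      have hiso : ∀ μ : F, μ + μ ^ q = -(hh d d) →
          hh (d + (μ / c) • z) (d + (μ / c) • z) = 0 := by
        intro μ hμ
        rw [hform_add_left, hform_add_right hF, hform_add_right hF, hform_smul_left,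
          hform_smul_left, hform_smul_right, hform_smul_right, hzz, hdz, ← hc', div_pow,
          div_mul_cancel₀ _ (pow_ne_zero _ hc), div_mul_cancel₀ _ hc]
        linear_combination hμ
      have hnz : ∀ μ : F, d + (μ / c) • z ≠ 0 := by
        intro μ h0
        have h1 : hh z (d + (μ / c) • z) = c := by
          rw [hform_add_right hF, hform_smul_right, hzz, mul_zero, add_zero]
        rw [h0] at h1
        have h2 : hh z (0 : Fin n → F) = 0 := by
          rw [← hform_conj hF, hform_zero_left, zero_pow hq0]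
        exact hc (h1.symm.trans h2)
      have hzsup : ∀ l : F, l • z ∈ ⨆ (j) (_ : j ≠ a), D j := fun l =>
        Submodule.smul_mem _ _ (hsup a a' hne' z hza')
      obtain ⟨b₁, hb₁⟩ := hcon _ (hnz μ₁) (hiso μ₁ hμ₁)
      obtain ⟨b₂, hb₂⟩ := hcon _ (hnz (μ₁ + s)) (hiso (μ₁ + s) hμ₂)
      have e1 := (keyL a d _ hda hd0' (hzsup _) b₁ hb₁).2
      have e2 := (keyL a d _ hda hd0' (hzsup _) b₂ hb₂).2
      have f1 : μ₁ / c = 0 := by
        rcases smul_eq_zero.mp e1 with h | h
        · exact h
        · exact absurd h hz0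
      have f2 : (μ₁ + s) / c = 0 := by
        rcases smul_eq_zero.mp e2 with h | h
        · exact h
        · exact absurd h hz0
      have g1 : μ₁ = 0 := by
        rcases div_eq_zero_iff.mp f1 with h | h
        · exact h
        · exact absurd h hc
      have g2 : μ₁ + s = 0 := by
        rcases div_eq_zero_iff.mp f2 with h | h
        · exact h
        · exact absurd h hc
      apply hs0
      rw [g1, zero_add] at g2
      exact g2
    have e0 := hS i0 d0 hd0 hd00 hzd0
    have e1 := hS i1 d1 hd1 hd10 hzd1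
    exact h01 (e1.symm.trans e0)
  obtain ⟨v0, hv00, hv0iso, hv0U⟩ := step2
  -- Step 3: the union has no non-zero isotropic vector
  have step3 : ∀ u : Fin n → F, (∃ i, u ∈ D i) → u ≠ 0 → hh u u ≠ 0 := by
    intro u hu hu0 hiso
    obtain ⟨j, hj⟩ := step1 u v0 hu hu0 hv00 (hiso.trans hv0iso.symm)
    exact hv0U j hj
  -- Step 4: at least three members
  have ht3 : 3 ≤ t := by
    by_contra hlt
    have ht2 : t = 2 := by omega
    have hall : ∀ i : Fin t, i = i0 ∨ i = i1 := by
      intro i
      have hi := i.2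
      rcases Nat.lt_or_ge i.1 1 with h | h
      · left; apply Fin.ext; simp [hi0]; omega
      · right; apply Fin.ext; simp [hi1]; omega
    have htop : (⊤ : Submodule F (Fin n → F)) ≤ D i0 ⊔ D i1 := by
      rw [← hD.iSup_eq_top]
      apply iSup_le
      intro i
      rcases hall i with h | h
      · rw [h]; exact le_sup_left
      · rw [h]; exact le_sup_right
    have h1 := Submodule.finrank_mono htop
    have h2 := Submodule.finrank_add_le_finrank_add_finrank (D i0) (D i1)
    rw [finrank_top, Module.finrank_fintype_fun_eq_card, Fintype.card_fin] at h1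
    rw [hD.finrank_eq, hD.finrank_eq] at h2
    have hk : 2 ≤ Module.finrank F (D i0) := by
      rw [hD.finrank_eq]; omega
    obtain ⟨v, hvW, hv0, hviso⟩ := exists_isotropic_of_finrank hF (D i0) hk
    exact step3 v ⟨i0, hvW⟩ hv0 hviso
  set i2 : Fin t := ⟨2, by omega⟩ with hi2
  have h20 : i2 ≠ i0 := by
    intro h
    have := congrArg Fin.val h
    simp [hi0, hi2] at this
  have h21 : i2 ≠ i1 := by
    intro h
    have := congrArg Fin.val h
    simp [hi1, hi2] at this
  obtain ⟨d2, hd2, hd20⟩ := Submodule.exists_mem_ne_zero_of_ne_bot (hne i2)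
  have hA := step3 d0 ⟨i0, hd0⟩ hd00
  have hB := step3 d1 ⟨i1, hd1⟩ hd10
  have hC := step3 d2 ⟨i2, hd2⟩ hd20
  -- Step 5: vectors outside the union are isotropic
  have step5 : ∀ v : Fin n → F, (∀ l, v ∉ D l) → hh v v = 0 := by
    intro v hvU
    by_contra hNv
    have hv0 : v ≠ 0 := by
      rintro rfl
      exact hNv (hform_zero_left _)
    have hfix : (hh v v / hh d0 d0) ^ q = hh v v / hh d0 d0 := by
      rw [div_pow, hform_self_pow hF, hform_self_pow hF]
    obtain ⟨l, hl⟩ := exists_nm_eq hF _ hfix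
    have hl0 : l ≠ 0 := by
      rintro rfl
      rw [zero_mul] at hl
      exact (div_ne_zero hNv hA) hl.symm
    have hu : hh (l • d0) (l • d0) = hh v v := by
      rw [hform_smul_left, hform_smul_right, ← mul_assoc, hl, div_mul_cancel₀ _ hA]
    obtain ⟨j, hj⟩ := step1 (l • d0) v ⟨i0, (D i0).smul_mem _ hd0⟩
      (smul_ne_zero hl0 hd00) hv0 hu
    exact hvU j hj
  -- the norm equation
  have hnorm : ∀ β γ : F, β ≠ 0 → γ ≠ 0 →
      hh d0 d0 + β * β ^ q * hh d1 d1 + γ * γ ^ q * hh d2 d2 = 0 := by
    intro β γ hβ hγ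
    have hb1 : β • d1 ∈ D i1 := (D i1).smul_mem _ hd1
    have hb10 : β • d1 ≠ 0 := smul_ne_zero hβ hd10
    have hc2 : γ • d2 ∈ D i2 := (D i2).smul_mem _ hd2
    have hc20 : γ • d2 ≠ 0 := smul_ne_zero hγ hd20
    have n1 : hh (d0 + β • d1) (d0 + β • d1) = 0 := by
      apply step5
      intro l hl
      exact hb10 (keyL i0 d0 _ hd0 hd00 (hsup i0 i1 h01 _ hb1) l hl).2
    have n2 : hh (d0 + γ • d2) (d0 + γ • d2) = 0 := by
      apply step5
      intro l hl
      exact hc20 (keyL i0 d0 _ hd0 hd00 (hsup i0 i2 h20 _ hc2) l hl).2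
    have n3 : hh (β • d1 + γ • d2) (β • d1 + γ • d2) = 0 := by
      apply step5
      intro l hl
      exact hc20 (keyL i1 _ _ hb1 hb10 (hsup i1 i2 h21 _ hc2) l hl).2
    have n4 : hh (d0 + β • d1 + γ • d2) (d0 + β • d1 + γ • d2) = 0 := by
      apply step5
      intro l hl
      rw [add_assoc] at hl
      have h5 := (keyL i0 d0 _ hd0 hd00
        (Submodule.add_mem _ (hsup i0 i1 h01 _ hb1) (hsup i0 i2 h20 _ hc2)) l hl).2
      have h6 : β • d1 + γ • d2 ∈ D i1 := by rw [h5]; exact (D i1).zero_mem
      exact hc20 (keyL i1 _ _ hb1 hb10 (hsup i1 i2 h21 _ hc2) i1 h6).2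
    have h7 := hh_three hF d0 (β • d1) (γ • d2)
    rw [n1, n2, n3, n4, hform_smul_left, hform_smul_right, hform_smul_left, hform_smul_right] at h7
    linear_combination h7
  -- all norms are one
  have hnm1 : ∀ β : F, β ≠ 0 → β * β ^ q = 1 := by
    intro β hβ
    have e1 := hnorm β 1 hβ one_ne_zero
    have e2 := hnorm 1 1 one_ne_zero one_ne_zero
    have e3 : (β * β ^ q - 1) * hh d1 d1 = 0 := by
      rw [one_pow, mul_one, one_mul] at e2
      rw [one_pow, mul_one, one_mul] at e1
      linear_combination e1 - e2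
    rcases mul_eq_zero.mp e3 with h | h
    · exact sub_eq_zero.mp h
    · exact absurd h hB
  have hfix1 : ∀ x : F, x ≠ 0 → x ^ q = x → x = 1 := by
    intro x hx0 hx
    obtain ⟨l, hl⟩ := exists_nm_eq hF x hx
    have hl0 : l ≠ 0 := by
      rintro rfl
      rw [zero_mul] at hl
      exact hx0 hl.symm
    rw [← hl]
    exact hnm1 l hl0
  have hA1 := hfix1 _ hA (hform_self_pow hF d0)
  have hB1 := hfix1 _ hB (hform_self_pow hF d1)
  have hC1 := hfix1 _ hC (hform_self_pow hF d2)
  have e := hnorm 1 1 one_ne_zero one_ne_zero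
  rw [hA1, hB1, hC1, one_pow, mul_one, mul_one] at e
  have h2fix : ((1 : F) + 1) ^ q = 1 + 1 := by rw [add_pow_q hF, one_pow]
  by_cases h2 : (1 : F) + 1 = 0
  · rw [h2, zero_add] at e
    exact one_ne_zero e
  · have := hfix1 _ h2 h2fix
    have : (1 : F) = 0 := by linear_combination this
    exact one_ne_zero this

end Cfsg.Agent.Lib.Helper26.SUMax
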