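import Mathlib
import Cfsg.Prelude.Def_GeometricClasses
import Cfsg.Agent.Lib.Helper61.AschDefs
import Cfsg.Agent.Lib.Helper43.SpAschDefs
import Cfsg.Agent.Lib.Helper43.SpAschDefs2
import Cfsg.Agent.Lib.Helper60.AschE5Core
import Cfsg.Agent.Lib.Helper70.AschE1
import Cfsg.Agent.Lib.Helper14.AschB4
import Cfsg.Agent.Lib.Helper53.SpAschG1

/-!
# K-SpAsch-Ee (keystone 566222): the first central factor gives a tensor-left subalgebra

First half of `Helper60.Asch.geom_of_nonsimple_perfect_of_pos` for the first central factor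
`A₀ = spanAlg (Q i₀)`: normalized by `N`, `≅ M_a(F)` with `2 ≤ a`, `IsTensorLeft` with `2 ≤ b`,
adjoint-closed.
-/

set_option autoImplicit false

namespace Cfsg.Agent.Lib.Helper26.SpAsch

open Cfsg Cfsg.Geo Cfsg.Agent.Lib.Helper61.Asch Cfsg.Agent.Lib.Helper60.Asch
open scoped Matrix Kronecker MatrixGroups

variable {F : Type*} [Field F] [Fintype F] {n : ℕ}

local notation "V" => (Fin n → F)
local notation "Mat" => Matrix (Fin n) (Fin n) F
local notation "Z" => scalars (Fin n) F

/-- **K-SpAsch-Ee**. -/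
theorem exists_tensorLeft_factor {f : V → V → F} (hf : IsSymplecticForm f) (K N : Subgroup (GL (Fin n) F))
    (hn : 3 ≤ n) (hNΔ : N ≤ similarityGroup f) (hZN : Z ≤ N) (hNK : N ≤ K) (hKN : NormBy K N)
    (hspan : spanAlg N = ⊤) (hperf : ⁅N, N⁆ ⊔ Z = N)
    (hmin : ∀ M : Subgroup (GL (Fin n) F), Z ≤ M → M ≤ N → NormBy K M → M = Z ∨ M = N)
    (hns : ∃ M : Subgroup (GL (Fin n) F), Z ≤ M ∧ M ≤ N ∧ NormBy N M ∧ M ≠ Z ∧ M ≠ N) :
    ∃ (A₀ : Subalgebra F Mat) (a b : ℕ) (e : Fin n ≃ Fin a × Fin b) (P : GL (Fin n) F), 2 ≤ a ∧ 2 ≤ b ∧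
      NormAlg N A₀ ∧ IsAdjointClosedFor f A₀ ∧ IsTensorLeft A₀ a b e P := by
  classical
  obtain ⟨t, Q, ht, hQN, hQZ, hQcomm, hNQ, -, -⟩ :=
    Cfsg.Agent.Lib.Helper70.Asch.exists_central_factors K N hZN hNK hKN hperf hmin hns
  have hn0 : 0 < n := by omega
  set A : Fin t → Subalgebra F Mat := fun i => spanAlg (Q i) with hA
  have hQA : ∀ i, matrixSet (Q i) ⊆ A i := fun i => Algebra.subset_adjoin
  -- elements of `A i` and `A j` commute
  have hAcomm : ∀ i j, i ≠ j → ∀ x ∈ A i, ∀ y ∈ A j, x * y = y * x := by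
    intro i j hij
    apply commute_adjoin
    rintro _ ⟨g, hg, rfl⟩ _ ⟨h, hh, rfl⟩
    have h1 := hQcomm i j hij g hg h hh
    rw [← Units.val_mul, ← Units.val_mul, h1]
  -- `N` lies in `unitsIn B` as soon as all `Q j` do
  have hNB : ∀ B : Subalgebra F Mat, (∀ j, matrixSet (Q j) ⊆ B) → N ≤ unitsIn B := by
    intro B hB
    exact hNQ.trans (sup_le (iSup_le fun j => le_unitsIn_of_matrixSet_subset _ _ (hB j))
      (scalars_le_unitsIn B))
  have hNirr : ActsIrreducibly (matrixSet N) := actsIrreducibly_of_spanAlg_eq_top N hspan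
  -- `N` normalizes every `A i`
  have hNnorm : ∀ i, N ≤ subalgebraNormalizer (A i) := by
    intro i
    refine hNQ.trans (sup_le (iSup_le fun j => ?_) ?_)
    · by_cases hji : j = i
      · subst hji
        exact (le_unitsIn_of_matrixSet_subset _ _ (hQA j)).trans (unitsIn_le_subalgebraNormalizer _)
      · refine (le_unitsIn_of_matrixSet_subset _ _ ?_).trans
          (unitsIn_centralizer_le_subalgebraNormalizer (A i))
        intro x hx
        rw [SetLike.mem_coe, Subalgebra.mem_centralizer_iff]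
        intro y hy
        exact hAcomm i j (Ne.symm hji) y hy x (hQA j hx)
    · exact (scalars_le_unitsIn (A i)).trans (unitsIn_le_subalgebraNormalizer _)
  have hNormAlg : ∀ i, NormAlg N (A i) := fun i k hk x hx => ((hNnorm i hk) x).1 hx
  have hss : ∀ i, IsSemisimpleModule (A i) V := fun i =>
    Cfsg.Agent.Lib.Helper42.Asch.isSemisimpleModule_of_normAlg N (A i) hNirr (hNormAlg i)
  have hiso : ∀ i, IsIsotypic (A i) V := by
    intro i
    refine Cfsg.Agent.Lib.Helper22.Asch.isIsotypic_of_generated N (A i) hNirr (hss i)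
      {g | (∃ j, g ∈ Q j) ∨ g ∈ Z} ?_ ?_
    · refine hNQ.trans (sup_le (iSup_le fun j => ?_) ?_)
      · intro g hg
        exact Subgroup.subset_closure (Or.inl ⟨j, hg⟩)
      · intro g hg
        exact Subgroup.subset_closure (Or.inr hg)
    · rintro g (⟨j, hg⟩ | hg)
      · by_cases hji : j = i
        · subst hji
          exact Or.inl (hQA j ⟨g, hg, rfl⟩)
        · right
          intro x hx
          exact hAcomm j i hji _ (hQA j ⟨g, hg, rfl⟩) x hx
      · right
        intro x hx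
        rw [mem_scalars_iff] at hg
        obtain ⟨c, hc⟩ := hg
        rw [hc, smul_mul_assoc, one_mul, mul_smul_comm, mul_one]
  have hsimple : ∀ i, IsSimpleRing (A i) := fun i =>
    Cfsg.Agent.Lib.Helper29.Asch.isSimpleRing_of_isIsotypic (A i) hn0 (hss i) (hiso i)
  have hcenter : ∀ i, Subalgebra.center F (A i) = ⊥ := by
    intro i
    rw [eq_bot_iff]
    intro c hc
    rw [Subalgebra.mem_center_iff] at hc
    have h1 : ∀ s ∈ matrixSet N, s * (c : Mat) = (c : Mat) * s := by
      have h2 : N ≤ unitsIn (Subalgebra.centralizer F {(c : Mat)}) := by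
        apply hNB
        intro j
        rintro _ ⟨g, hg, rfl⟩
        rw [SetLike.mem_coe, Subalgebra.mem_centralizer_iff]
        intro z hz
        rw [Set.mem_singleton_iff] at hz
        subst hz
        by_cases hji : j = i
        · subst hji
          have h3 := hc ⟨(g : Mat), hQA j ⟨g, hg, rfl⟩⟩
          exact (congrArg Subtype.val h3).symm
        · exact hAcomm i j (Ne.symm hji) c c.2 g (hQA j ⟨g, hg, rfl⟩)
      intro s hs
      have h3 := matrixSet_subset_of_le_unitsIn N _ h2 hs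
      rw [SetLike.mem_coe, Subalgebra.mem_centralizer_iff] at h3
      exact (h3 c rfl).symm
    obtain ⟨r, hr⟩ := eq_smul_one_of_commute N hspan c h1
    rw [Algebra.mem_bot]
    refine ⟨r, Subtype.ext ?_⟩
    rw [hr]
    simp [Algebra.algebraMap_eq_smul_one]
  have hB3 : ∀ i, ∃ a : ℕ, 0 < a ∧ Nonempty (Matrix (Fin a) (Fin a) F ≃ₐ[F] A i) := fun i => by
    have := hsimple i
    exact Cfsg.Agent.Lib.Helper29.Asch.exists_algEquiv_matrix_of_center_eq_bot (A i) (hcenter i)
  have hfr : ∀ i (a : ℕ), Nonempty (Matrix (Fin a) (Fin a) F ≃ₐ[F] A i) →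
      Module.finrank F (A i) = a * a := by
    rintro i a ⟨ψ⟩
    rw [← ψ.toLinearEquiv.finrank_eq, Module.finrank_matrix]
    simp
  -- a non-scalar element of a `Q i` is not a scalar matrix
  have hunit_ne : ∀ (g : GL (Fin n) F) (r : F), (g : Mat) = r • (1 : Mat) → r ≠ 0 := by
    intro g r h2 h0
    rw [h0, zero_smul] at h2
    have h4 : (g : Mat) * ((g⁻¹ : GL (Fin n) F) : Mat) = 1 := by
      rw [← Units.val_mul, mul_inv_cancel, Units.val_one]
    rw [h2, zero_mul] at h4
    have : Nonempty (Fin n) := ⟨⟨0, hn0⟩⟩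
    exact zero_ne_one h4
  obtain ⟨i0, i1, h01⟩ : ∃ i0 i1 : Fin t, i0 ≠ i1 :=
    ⟨⟨0, by omega⟩, ⟨1, by omega⟩, by simp [Fin.ext_iff]⟩
  obtain ⟨a, ha, ⟨ψ⟩⟩ := hB3 i0
  -- `a ≥ 2`
  have ha2 : 2 ≤ a := by
    by_contra hlt
    have ha1 : a = 1 := by omega
    subst ha1
    apply hQZ i0
    intro g hg
    have hgA : (g : Mat) ∈ A i0 := hQA i0 ⟨g, hg, rfl⟩
    set y := ψ.symm ⟨(g : Mat), hgA⟩ with hy
    have h1 : y = (y 0 0) • (1 : Matrix (Fin 1) (Fin 1) F) := by
      ext a b
      have ha : a = 0 := Subsingleton.elim _ _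
      have hb : b = 0 := Subsingleton.elim _ _
      subst ha; subst hb
      simp
    have h2 : (g : Mat) = (y 0 0) • (1 : Mat) := by
      have h3 : ψ y = ⟨(g : Mat), hgA⟩ := by rw [hy]; simp
      have h4 : ((ψ y : A i0) : Mat) = (g : Mat) := by rw [h3]
      rw [← h4, h1, map_smul, map_one]
      simp
    have h3 : y 0 0 ≠ 0 := hunit_ne g _ h2
    rw [mem_scalars_iff]
    exact ⟨Units.mk0 _ h3, h2⟩
  set φ : Matrix (Fin a) (Fin a) F →ₐ[F] Mat := (A i0).val.comp ψ.toAlgHom with hφdef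
  have hφmem : ∀ x, φ x ∈ A i0 := fun x => (ψ x).2
  have hφsurj : ∀ z ∈ A i0, ∃ x, φ x = z := by
    intro z hz
    refine ⟨ψ.symm ⟨z, hz⟩, ?_⟩
    simp [hφdef]
  obtain ⟨b, e, P, hφ⟩ := Cfsg.Agent.Lib.Helper14.Asch.exists_tensorLeft_of_algHom a ha φ
  have hTL : IsTensorLeft (A i0) a b e P := by
    intro M
    constructor
    · intro hM
      obtain ⟨x, hx⟩ := hφsurj M hM
      exact ⟨x, by rw [← hφ x, hx]⟩
    · rintro ⟨x, rfl⟩
      rw [← hφ x]
      exact hφmem x
  -- `n = a * b`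
  have hcard : n = a * b := by
    have := Fintype.card_congr e
    simpa using this
  have hb2 : 2 ≤ b := by
    by_contra hlt
    have hb01 : b = 0 ∨ b = 1 := by omega
    rcases hb01 with rfl | rfl
    · omega
    · -- `A i0 = ⊤`, so `Q i1` is scalar
      have hna : n = a := by omega
      have hfin : Module.finrank F (A i0) = Module.finrank F Mat := by
        rw [hfr i0 a ⟨ψ⟩, Module.finrank_matrix]
        simp [hna]
      have htop : (A i0).toSubmodule = ⊤ := Submodule.eq_top_of_finrank_eq hfin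
      have hmemtop : ∀ M : Mat, M ∈ A i0 := by
        intro M
        have : M ∈ (A i0).toSubmodule := by rw [htop]; exact Submodule.mem_top
        exact this
      apply hQZ i1
      intro g hg
      have hgA : (g : Mat) ∈ A i1 := hQA i1 ⟨g, hg, rfl⟩
      have h1 : ∀ s ∈ matrixSet N, s * (g : Mat) = (g : Mat) * s := fun s _ =>
        hAcomm i0 i1 h01 s (hmemtop s) _ hgA
      obtain ⟨r, hr⟩ := eq_smul_one_of_commute N hspan (g : Mat) h1
      rw [mem_scalars_iff]
      exact ⟨Units.mk0 _ (hunit_ne g r hr), hr⟩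
  exact ⟨A i0, a, b, e, P, ha2, hb2, hNormAlg i0,
    Cfsg.Agent.Lib.Helper53.SpAsch.isAdjointClosedFor_spanAlg hf.bilinear (Q i0)
      ((hQN i0).trans hNΔ), hTL⟩

end Cfsg.Agent.Lib.Helper26.SpAsch
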