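/-
Keystone K-SpO-1 (id 598301, architect helper49): the order of the isometry group of an ABSTRACT
nondegenerate quadratic form on `F^(2d)` (finite field of characteristic 2), by type.
Also exports the classification / transport step (`glCongr`, `card_isometryGroup_congr`,
`exists_plus_model`, `exists_minus_model`) for K-SpO-4.
-/
import Mathlib
import Cfsg.Prelude.Def_GeometricClasses
import Cfsg.Agent.Lib.Helper49.SpODefs
import Cfsg.Agent.Lib.Helper50.GeoBridge
import Cfsg.Agent.Lib.Helper50.TypeCriteria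
import Cfsg.Agent.Lib.Helper50.WittMain
import Cfsg.Agent.Lib.Helper50.IsometryDisc
import Cfsg.Agent.Lib.Helper50.DecompAux
import Cfsg.Agent.Lib.Helper08.GOPlus
import Cfsg.Agent.Lib.Helper08.GOMinus

set_option autoImplicit false
set_option linter.unusedSectionVars false

namespace Cfsg.Agent.Lib.Helper26.SpO

open Matrix Module QuadraticMap Cfsg.Agent.Lib.Helper50 Cfsg.Agent.Lib.Helper49.OInv
  Cfsg.Agent.Lib.Helper49.SpO

section transport

variable {F : Type*} [Field F] {ι κ : Type} [Fintype ι] [DecidableEq ι] [Fintype κ] [DecidableEq κ]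

/-- membership in the isometry group of a function `Q` -/
theorem mem_isometryGroup_spo (Q : (ι → F) → F) (g : GL ι F) :
    g ∈ Cfsg.isometryGroup F Q ↔ ∀ v, Q ((g : Matrix ι ι F) *ᵥ v) = Q v :=
  ⟨fun h v => h v v, fun h u _ => h u⟩

/-- the isomorphism `GL ι F ≃* GL κ F` induced by a linear equivalence of the coordinate spaces -/
noncomputable def glCongr (φ : (ι → F) ≃ₗ[F] (κ → F)) : GL ι F ≃* GL κ F :=
  (Matrix.GeneralLinearGroup.toLin).trans
    ((LinearMap.GeneralLinearGroup.congrLinearEquiv φ).trans Matrix.GeneralLinearGroup.toLin.symm)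

theorem glCongr_mulVec (φ : (ι → F) ≃ₗ[F] (κ → F)) (g : GL ι F) (v : ι → F) :
    ((glCongr φ g : GL κ F) : Matrix κ κ F) *ᵥ (φ v) = φ ((g : Matrix ι ι F) *ᵥ v) := by
  have h : Matrix.GeneralLinearGroup.toLin (glCongr φ g) =
      LinearMap.GeneralLinearGroup.congrLinearEquiv φ (Matrix.GeneralLinearGroup.toLin g) := by
    simp [glCongr]
  have h2 := congrArg
    (fun L : LinearMap.GeneralLinearGroup F (κ → F) => (L : (κ → F) →ₗ[F] (κ → F)) (φ v)) h
  simpa using h2

/-- `glCongr φ` maps the isometry group of `Q` onto the isometry group of `R` when `φ` is an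
isometry from `Q` to `R`. -/
theorem mem_isometryGroup_glCongr (Q : (ι → F) → F) (R : (κ → F) → F)
    (φ : (ι → F) ≃ₗ[F] (κ → F)) (hφ : ∀ v, R (φ v) = Q v) (g : GL ι F) :
    g ∈ Cfsg.isometryGroup F Q ↔ glCongr φ g ∈ Cfsg.isometryGroup F R := by
  rw [mem_isometryGroup_spo, mem_isometryGroup_spo]
  constructor
  · intro h w
    obtain ⟨v, rfl⟩ := φ.surjective w
    rw [glCongr_mulVec, hφ, hφ, h]
  · intro h v
    have := h (φ v)
    rwa [glCongr_mulVec, hφ, hφ] at this

/-- the isometry groups of isometric forms are isomorphic -/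
noncomputable def isometryGroupCongr (Q : (ι → F) → F) (R : (κ → F) → F)
    (φ : (ι → F) ≃ₗ[F] (κ → F)) (hφ : ∀ v, R (φ v) = Q v) :
    ↥(Cfsg.isometryGroup F Q) ≃* ↥(Cfsg.isometryGroup F R) where
  toEquiv := (glCongr φ).toEquiv.subtypeEquiv (fun g => mem_isometryGroup_glCongr Q R φ hφ g)
  map_mul' := by
    intro a b
    apply Subtype.ext
    exact map_mul (glCongr φ) (a : GL ι F) (b : GL ι F)

/-- **Transport.** A linear isometry between `Q` and `R` gives isometry groups of the same order. -/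
theorem card_isometryGroup_congr (Q : (ι → F) → F) (R : (κ → F) → F)
    (φ : (ι → F) ≃ₗ[F] (κ → F)) (hφ : ∀ v, R (φ v) = Q v) :
    Nat.card (Cfsg.isometryGroup F Q) = Nat.card (Cfsg.isometryGroup F R) :=
  Nat.card_congr (isometryGroupCongr Q R φ hφ).toEquiv

end transport

section models

variable {F : Type*} [Field F] [Fintype F]

theorem finrank_sum_fun (d : ℕ) : Module.finrank F (Fin d ⊕ Fin d → F) = 2 * d := by
  rw [Module.finrank_pi, Fintype.card_sum, Fintype.card_fin]; ring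

/-- **Classification, plus type.** A nondegenerate quadratic form of plus type on `F^(2d)` is
isometric to the standard hyperbolic form. -/
theorem exists_plus_model (d : ℕ) (Q : (Fin d ⊕ Fin d → F) → F)
    (hQ : Cfsg.Geo.IsNondegenerateQuadraticForm Q) (hplus : Cfsg.Geo.IsPlusTypeOn Q ⊤) :
    ∃ φ : (Fin d ⊕ Fin d → F) ≃ₗ[F] (Fin d ⊕ Fin d → F),
      ∀ v, Cfsg.quadFormPlus d F (φ v) = Q v := by
  have hnd : Cfsg.Geo.IsNondegenerateOn (polar (⇑(geoForm Q hQ)))
      (⊤ : Submodule F (Fin d ⊕ Fin d → F)) := by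
    intro w _ hw
    obtain ⟨⟨x, hx⟩, ⟨y, hy⟩⟩ := hQ.nondegenerate w hw
    exact ⟨⟨x, Submodule.mem_top, hx⟩, ⟨y, Submodule.mem_top, hy⟩⟩
  obtain ⟨ψ, hψ⟩ := exists_plus_coords (geoForm Q hQ) ⊤ d
    (by rw [finrank_top, finrank_sum_fun]) hnd hplus
  refine ⟨(Submodule.topEquiv (R := F) (M := Fin d ⊕ Fin d → F)).symm.trans ψ, fun v => ?_⟩
  rw [LinearEquiv.trans_apply, hψ]
  rfl

/-- **Classification, not plus type.** A nondegenerate quadratic form on `F^(2d)` which is not of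
plus type is isometric to a standard elliptic form. -/
theorem exists_minus_model (d : ℕ) (Q : (Fin d ⊕ Fin d → F) → F)
    (hQ : Cfsg.Geo.IsNondegenerateQuadraticForm Q) (hminus : ¬ Cfsg.Geo.IsPlusTypeOn Q ⊤) :
    ∃ (ζ : F) (φ : (Fin d ⊕ Fin d → F) ≃ₗ[F] ((Fin (d - 1) ⊕ Fin (d - 1)) ⊕ Fin 2 → F)),
      1 ≤ d ∧ (∀ t : F, t ^ 2 + t + ζ ≠ 0) ∧
      ∀ v, Cfsg.quadFormMinus (d - 1) F 1 ζ (φ v) = Q v := by
  have hqnd : QND (geoForm Q hQ) := QND_of_nondegenerate _ (geoForm_nondegenerate Q hQ)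
  rcases witt_type (2 * d) (geoForm Q hQ) (finrank_sum_fun d) hqnd with
    ⟨m, hm, hp⟩ | ⟨m, ζ, hm, hζ, hp⟩ | ⟨m, c, hm, -, -⟩
  · exfalso
    apply hminus
    obtain rfl : m = d := by omega
    obtain ⟨X, hX, hX0⟩ := exists_totally_singular_of_plusType (geoForm Q hQ) m hp
    refine ⟨X, le_top, hX0, ?_⟩
    rw [hX, finrank_top, finrank_sum_fun]
  · obtain rfl : d = m + 1 := by omega
    obtain ⟨φ, hφ⟩ := hp
    exact ⟨ζ, φ, by omega, hζ, hφ⟩
  · omega

end models

section main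

variable {F : Type*} [Field F] [Fintype F] [CharP F 2]

/-- **K-SpO-1, plus type.** -/
theorem card_isometryGroup_of_plus {q : ℕ} (hq : Fintype.card F = q) (d : ℕ) (hd : 1 ≤ d)
    (Q : (Fin d ⊕ Fin d → F) → F) (hQ : Cfsg.Geo.IsNondegenerateQuadraticForm Q)
    (hplus : Cfsg.Geo.IsPlusTypeOn Q ⊤) :
    Nat.card (Cfsg.isometryGroup F Q) = oPlusOrd q d := by
  obtain ⟨φ, hφ⟩ := exists_plus_model d Q hQ hplus
  rw [card_isometryGroup_congr Q _ φ hφ, Cfsg.Agent.Lib.Helper08.card_GOplus hq d hd]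
  rfl

/-- **K-SpO-1, not plus type.** -/
theorem card_isometryGroup_of_not_plus {q : ℕ} (hq : Fintype.card F = q) (d : ℕ) (hd : 1 ≤ d)
    (Q : (Fin d ⊕ Fin d → F) → F) (hQ : Cfsg.Geo.IsNondegenerateQuadraticForm Q)
    (hminus : ¬ Cfsg.Geo.IsPlusTypeOn Q ⊤) :
    Nat.card (Cfsg.isometryGroup F Q) = oMinusOrd q d := by
  obtain ⟨ζ, φ, -, hζ, hφ⟩ := exists_minus_model d Q hQ hminus
  rw [card_isometryGroup_congr Q _ φ hφ,
    Cfsg.Agent.Lib.Helper08.card_GOminus hq d hd 1 ζ (anis_of_irred ζ hζ)]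
  rfl

end main

end Cfsg.Agent.Lib.Helper26.SpO
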