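import Cfsg.Agent.Lib.Helper44.SpUTools

/-!
# K-SpU2-N1 (keystone 566502, S5665 pack of helper44): normaliser facts for `K = F + F δ`
-/

set_option autoImplicit false
set_option linter.unusedSimpArgs false
set_option linter.unusedVariables false
set_option linter.unusedSectionVars false

namespace Cfsg.Agent.Lib.Helper26.SpU

open Matrix Cfsg.Agent.Lib.Helper18 Cfsg.Agent.Lib.Helper11.SpMax Cfsg.Agent.Lib.Helper44.SpU
open Cfsg.Agent.Lib.Helper43.UF

variable {F : Type*} [Field F] [Fintype F] {m : ℕ}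

local notation "V" => (Fin m ⊕ Fin m → F)
local notation "ff" => Cfsg.sympForm m F
local notation "GLm" => Matrix.GeneralLinearGroup (Fin m ⊕ Fin m) F
local notation "Mat" => Matrix (Fin m ⊕ Fin m) (Fin m ⊕ Fin m) F

/-- if both conjugates of `δ` lie in `K = F + F δ` then `g` normalises `K` -/
theorem mem_normalizer_of_conj_mem (U : SData m F) (K : Subalgebra F Mat) (hδ : U.δ ∈ K)
    (hspan : ∀ k ∈ K, ∃ a b : F, k = a • (1 : Mat) + b • U.δ) (g : GLm)
    (h1 : (g : Mat) * U.δ * ((g⁻¹ : GLm) : Mat) ∈ K)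
    (h2 : ((g⁻¹ : GLm) : Mat) * U.δ * (g : Mat) ∈ K) :
    g ∈ Cfsg.Geo.subalgebraNormalizer K := by
  show ∀ k : Mat, k ∈ K ↔ (g : Mat) * k * ((g⁻¹ : GLm) : Mat) ∈ K
  intro k
  constructor
  · intro hk
    obtain ⟨a, b, rfl⟩ := hspan k hk
    have h3 : (g : Mat) * (a • (1 : Mat) + b • U.δ) * ((g⁻¹ : GLm) : Mat) =
        a • (1 : Mat) + b • ((g : Mat) * U.δ * ((g⁻¹ : GLm) : Mat)) := by
      rw [mul_add, add_mul, mul_smul_comm, smul_mul_assoc, mul_one, Units.mul_inv, mul_smul_comm,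
        smul_mul_assoc]
    rw [h3]
    exact K.add_mem (K.smul_mem K.one_mem a) (K.smul_mem h1 b)
  · intro hk
    obtain ⟨a, b, hab⟩ := hspan _ hk
    have h3 : k = ((g⁻¹ : GLm) : Mat) * ((g : Mat) * k * ((g⁻¹ : GLm) : Mat)) * (g : Mat) := by
      rw [← mul_assoc, ← mul_assoc, Units.inv_mul, one_mul, mul_assoc, Units.inv_mul, mul_one]
    rw [hab] at h3
    have h4 : ((g⁻¹ : GLm) : Mat) * (a • (1 : Mat) + b • U.δ) * (g : Mat) =
        a • (1 : Mat) + b • (((g⁻¹ : GLm) : Mat) * U.δ * (g : Mat)) := by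
      rw [mul_add, add_mul, mul_smul_comm, smul_mul_assoc, mul_one, Units.inv_mul, mul_smul_comm,
        smul_mul_assoc]
    rw [h3, h4]
    exact K.add_mem (K.smul_mem K.one_mem a) (K.smul_mem h2 b)

/-- an invertible matrix commuting with `δ` normalises `K = F + F δ` -/
theorem mem_normalizer_of_comm (U : SData m F) (K : Subalgebra F Mat) (hδ : U.δ ∈ K)
    (hspan : ∀ k ∈ K, ∃ a b : F, k = a • (1 : Mat) + b • U.δ) (g : GLm)
    (hg : (g : Mat) * U.δ = U.δ * (g : Mat)) : g ∈ Cfsg.Geo.subalgebraNormalizer K := by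
  apply mem_normalizer_of_conj_mem U K hδ hspan g
  · rw [hg, mul_assoc, Units.mul_inv, mul_one]; exact hδ
  · rw [mul_assoc, ← hg, ← mul_assoc, Units.inv_mul, one_mul]; exact hδ

/-- if `g⁻¹ δ g ∈ F + F δ` then `g` normalises `K` -/
theorem mem_normalizer_of_conj (U : SData m F) (K : Subalgebra F Mat) (hδ : U.δ ∈ K)
    (hspan : ∀ k ∈ K, ∃ a b : F, k = a • (1 : Mat) + b • U.δ) (g : GLm)
    (h : ∃ a b : F, ((g⁻¹ : GLm) : Mat) * U.δ * (g : Mat) = a • (1 : Mat) + b • U.δ) :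
    g ∈ Cfsg.Geo.subalgebraNormalizer K := by
  obtain ⟨a, b, hab⟩ := h
  rcases Nat.eq_zero_or_pos m with hm0 | hm0
  · -- trivial matrix ring
    subst hm0
    show ∀ k : Matrix (Fin 0 ⊕ Fin 0) (Fin 0 ⊕ Fin 0) F, k ∈ K ↔ _ ∈ K
    intro k
    have : (g : Matrix (Fin 0 ⊕ Fin 0) (Fin 0 ⊕ Fin 0) F) * k *
        ((g⁻¹ : Matrix.GeneralLinearGroup (Fin 0 ⊕ Fin 0) F) :
          Matrix (Fin 0 ⊕ Fin 0) (Fin 0 ⊕ Fin 0) F) = k := Subsingleton.elim _ _
    rw [this]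
  -- `δ = a + b g δ g⁻¹`
  have h5 : U.δ = a • (1 : Mat) + b • ((g : Mat) * U.δ * ((g⁻¹ : GLm) : Mat)) := by
    have h6 : U.δ = (g : Mat) * (((g⁻¹ : GLm) : Mat) * U.δ * (g : Mat)) * ((g⁻¹ : GLm) : Mat) := by
      calc U.δ = ((g : Mat) * ((g⁻¹ : GLm) : Mat)) * U.δ * ((g : Mat) * ((g⁻¹ : GLm) : Mat)) := by
            rw [Units.mul_inv, one_mul, mul_one]
        _ = _ := by simp only [mul_assoc]
    rw [hab] at h6
    rw [mul_add, add_mul, mul_smul_comm, smul_mul_assoc, mul_one, Units.mul_inv, mul_smul_comm,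
      smul_mul_assoc] at h6
    exact h6
  have hb : b ≠ 0 := by
    rintro rfl
    rw [zero_smul, add_zero] at h5
    apply U.nsq
    refine ⟨a, ?_⟩
    have h7 := U.sq
    rw [h5, smul_mul_smul_comm, mul_one] at h7
    have h8 := congrFun (congrFun h7 (Sum.inl ⟨0, hm0⟩)) (Sum.inl ⟨0, hm0⟩)
    simp only [Matrix.smul_apply, Matrix.one_apply_eq, smul_eq_mul, mul_one] at h8
    exact h8.symm
  have h7 : (g : Mat) * U.δ * ((g⁻¹ : GLm) : Mat) = b⁻¹ • (U.δ - a • (1 : Mat)) := by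
    have h8 : U.δ - a • (1 : Mat) = b • ((g : Mat) * U.δ * ((g⁻¹ : GLm) : Mat)) := by
      rw [sub_eq_iff_eq_add, add_comm]; exact h5
    rw [h8, smul_smul, inv_mul_cancel₀ hb, one_smul]
  apply mem_normalizer_of_conj_mem U K hδ hspan g
  · rw [h7]
    exact K.smul_mem (K.sub_mem hδ (K.smul_mem K.one_mem a)) b⁻¹
  · rw [hab]
    exact K.add_mem (K.smul_mem K.one_mem a) (K.smul_mem hδ b)

end Cfsg.Agent.Lib.Helper26.SpU
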