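import Mathlib
import Cfsg.Prelude.Def_Solvable
import Cfsg.Prelude.Def_SolvableStructure
import Cfsg.Agent.Lib.Helper02.Fitting
import Cfsg.Agent.Lib.Helper01.Fitting

/-!
# S4130, second layer, M6: structure of a group with squarefree class sizes and cyclic
squarefree commutator subgroup.
-/

set_option autoImplicit false

namespace Cfsg.Agent.Lib.Helper26.SqF

open Subgroup
open scoped commutatorElement

universe u

/-- If `f, y ∈ F` and `f y f⁻¹ = y ^ k` then `y ^ ((k-1)^j)` lies in the `j`-th term
of the lower central series of `F`. -/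
theorem zpow_mem_lowerCentralSeries {G : Type u} [Group G] (F : Subgroup G) (f y : G)
    (hf : f ∈ F) (hy : y ∈ F) (k : ℤ)
    (hk : f * y * f⁻¹ = y ^ k) (j : ℕ) : y ^ ((k - 1) ^ j) ∈ F.lowerCentralSeries j := by
  induction j with
  | zero => simpa using hy
  | succ j ih =>
    rw [Subgroup.lowerCentralSeries_succ]
    have hconj : ∀ m : ℤ, f * y ^ m * f⁻¹ = (y ^ m) ^ k := by
      intro m
      have h1 : f * y ^ m * f⁻¹ = (f * y * f⁻¹) ^ m := by
        rw [conj_zpow]
      rw [h1, hk, ← zpow_mul, ← zpow_mul, mul_comm]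
    have h2 : y ^ ((k - 1) ^ (j + 1)) = ⁅f, y ^ ((k - 1) ^ j)⁆ := by
      rw [commutatorElement_def, hconj, pow_succ, zpow_mul, zpow_sub, zpow_one]
    rw [h2, Subgroup.commutator_comm]
    exact Subgroup.commutator_mem_commutator hf ih

/-- A normal cyclic subgroup of squarefree order in a nilpotent group is central
(elementwise form). -/
theorem commute_of_nilpotent_of_squarefree {G : Type u} [Group G] (F : Subgroup G)
    (hF : Group.IsNilpotent F) (f y : G) (hf : f ∈ F) (hy : y ∈ F)
    (hn : f * y * f⁻¹ ∈ Subgroup.zpowers y) (hsq : Squarefree (orderOf y)) :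
    f * y = y * f := by
  obtain ⟨k, hk⟩ := Subgroup.mem_zpowers_iff.mp hn
  obtain ⟨j, hj⟩ := (Subgroup.isNilpotent_iff_lowerCentralSeries F).mp hF
  have h1 := zpow_mem_lowerCentralSeries F f y hf hy k hk.symm j
  rw [hj, Subgroup.mem_bot] at h1
  have h2 : (orderOf y : ℤ) ∣ (k - 1) ^ j := (orderOf_dvd_iff_zpow_eq_one).mpr h1
  have hsq' : Squarefree (orderOf y : ℤ) := Int.squarefree_natCast.mpr hsq
  have h3 : (orderOf y : ℤ) ∣ (k - 1) := by
    rcases Nat.eq_zero_or_pos j with h0 | hpos
    · subst h0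
      rw [pow_zero] at h2
      exact Dvd.dvd.trans h2 (one_dvd _)
    · exact (hsq'.dvd_pow_iff_dvd hpos.ne').mp h2
  have h4 : y ^ (k - 1) = 1 := (orderOf_dvd_iff_zpow_eq_one).mp h3
  have h5 : y ^ k = y := by
    rw [zpow_sub, zpow_one, mul_inv_eq_one] at h4
    exact h4
  rw [h5] at hk
  calc f * y = f * y * f⁻¹ * f := by group
    _ = y * f := by rw [← hk]

theorem structure_of_cyclic_commutator {G : Type u} [Group G] [Finite G]
    (h : ∀ x : G, Squarefree (centralizer ({x} : Set G)).index)
    (hc : IsCyclic (commutator G)) (hsq : Squarefree (Nat.card (commutator G))) :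
    (∀ _h : (Cfsg.fittingSubgroup G).Normal,
        IsCyclic (G ⧸ Cfsg.fittingSubgroup G) ∧ Squarefree (Cfsg.fittingSubgroup G).index) ∧
      Subgroup.upperCentralSeries ↥(Cfsg.fittingSubgroup G) 2 = ⊤ ∧
      commutator ↥(commutator G) = ⊥ := by
  obtain ⟨⟨y, hyY⟩, hgen⟩ := hc.exists_generator
  -- every element of `Y` is a power of `y`
  have hpow : ∀ z ∈ commutator G, z ∈ Subgroup.zpowers y := by
    intro z hz
    obtain ⟨k, hk⟩ := Subgroup.mem_zpowers_iff.mp (hgen ⟨z, hz⟩)
    refine Subgroup.mem_zpowers_iff.mpr ⟨k, ?_⟩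
    have := congrArg Subtype.val hk
    simpa using this
  have hord : orderOf y = Nat.card (commutator G) := by
    have h1 : orderOf (⟨y, hyY⟩ : commutator G) = Nat.card (commutator G) :=
      orderOf_eq_card_of_forall_mem_zpowers hgen
    rw [← h1]
    exact (Subgroup.orderOf_mk y hyY).symm
  set C : Subgroup G := centralizer ({y} : Set G) with hC
  have hmemC : ∀ c : G, c ∈ C ↔ c * y = y * c := by
    intro c
    rw [hC, Subgroup.mem_centralizer_singleton_iff]
  -- `C` centralizes `Y`
  have hCY : ∀ c ∈ C, ∀ z ∈ commutator G, c * z = z * c := by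
    intro c hc' z hz
    obtain ⟨k, rfl⟩ := Subgroup.mem_zpowers_iff.mp (hpow z hz)
    have : Commute c y := (hmemC c).mp hc'
    exact (this.zpow_right k).eq
  have hYC : commutator G ≤ C := by
    intro z hz
    rw [hmemC]
    obtain ⟨k, rfl⟩ := Subgroup.mem_zpowers_iff.mp (hpow z hz)
    exact ((Commute.refl y).zpow_left k).eq
  have hCn : C.Normal := by
    refine ⟨fun c hc' g => ?_⟩
    have h1 : g * c * g⁻¹ = ⁅g, c⁆ * c := by
      rw [commutatorElement_def]; group
    rw [h1]
    refine C.mul_mem (hYC ?_) hc'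
    rw [_root_.commutator_def]
    exact Subgroup.commutator_mem_commutator (Subgroup.mem_top g) (Subgroup.mem_top c)
  have hCnil : Group.IsNilpotent C := by
    apply Cfsg.Agent.Lib.Helper02.isNilpotent_of_commutator_commutator_eq_bot
    rw [Subgroup.commutator_eq_bot_iff_le_centralizer]
    intro z hz
    have hzY : z ∈ commutator G := by
      rw [_root_.commutator_def]
      exact Subgroup.commutator_mono le_top le_top hz
    rw [Subgroup.mem_centralizer_iff]
    intro c hc'
    exact hCY c hc' z hzY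
  have hCF : C ≤ Cfsg.fittingSubgroup G :=
    Cfsg.Agent.Lib.Helper02.le_fittingSubgroup C hCn hCnil
  have hYF : commutator G ≤ Cfsg.fittingSubgroup G := hYC.trans hCF
  have hFidx : Squarefree (Cfsg.fittingSubgroup G).index :=
    Squarefree.squarefree_of_dvd (Subgroup.index_dvd_of_le hCF) (h y)
  have hFnil : Group.IsNilpotent (Cfsg.fittingSubgroup G) :=
    Cfsg.Agent.Lib.Helper01.fitting_isNilpotent
  have hYn : (commutator G).Normal := inferInstance
  -- `F` centralizes `y`
  have hFy : ∀ f ∈ Cfsg.fittingSubgroup G, f * y = y * f := by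
    intro f hf
    apply commute_of_nilpotent_of_squarefree _ hFnil f y hf (hYF hyY)
    · exact hpow _ (hYn.conj_mem y hyY f)
    · rw [hord]; exact hsq
  have hFY : ∀ f ∈ Cfsg.fittingSubgroup G, ∀ z ∈ commutator G, f * z = z * f := by
    intro f hf z hz
    exact hCY f ((hmemC f).mpr (hFy f hf)) z hz
  refine ⟨?_, ?_, ?_⟩
  · intro hN
    have := hN
    refine ⟨?_, hFidx⟩
    have hcomm : IsMulCommutative (G ⧸ Cfsg.fittingSubgroup G) :=
      Subgroup.Normal.quotient_commutative_iff_commutator_le.mpr hYF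
    have : Group.IsNilpotent (G ⧸ Cfsg.fittingSubgroup G) :=
      ⟨1, Subgroup.upperCentralSeries_one_eq_top_iff.mpr hcomm⟩
    have : IsZGroup (G ⧸ Cfsg.fittingSubgroup G) := by
      apply IsZGroup.of_squarefree
      rw [← Subgroup.index_eq_card]
      exact hFidx
    infer_instance
  · rw [eq_top_iff]
    intro a _
    rw [Subgroup.mem_upperCentralSeries_succ_iff]
    intro b
    rw [Subgroup.upperCentralSeries_one, Subgroup.mem_center_iff]
    intro f
    apply Subtype.ext
    have hz : ((a * b * a⁻¹ * b⁻¹ : Cfsg.fittingSubgroup G) : G) ∈ commutator G := by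
      rw [_root_.commutator_def]
      have : ((a * b * a⁻¹ * b⁻¹ : Cfsg.fittingSubgroup G) : G) = ⁅(a : G), (b : G)⁆ := by
        rw [commutatorElement_def]; simp
      rw [this]
      exact Subgroup.commutator_mem_commutator (Subgroup.mem_top _) (Subgroup.mem_top _)
    have := hFY f f.2 _ hz
    simpa [commutatorElement_def] using this
  · rw [_root_.commutator_def ↥(_root_.commutator G), Subgroup.commutator_eq_bot_iff_le_centralizer]
    intro a _
    rw [Subgroup.mem_centralizer_iff]
    intro b _
    obtain ⟨k, rfl⟩ := Subgroup.mem_zpowers_iff.mp (hgen a)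
    obtain ⟨l, rfl⟩ := Subgroup.mem_zpowers_iff.mp (hgen b)
    rw [← zpow_add, ← zpow_add, add_comm]

end Cfsg.Agent.Lib.Helper26.SqF
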