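import Cfsg.Agent.Lib.Helper64.StBDefs

/-!
# K-S2311-A4: the longest element of a finite group with a (B,N)-pair

`exists_longest`: there is `n₀ ∈ N` all of whose left and right descents are everything, and any
`n ∈ N` with full left (or right) descent set is `Eqv` to `n₀`.
-/

set_option autoImplicit false

namespace Cfsg.Agent.Lib.Helper26.StB

open Cfsg Cfsg.Agent.Lib.Helper08 Cfsg.Agent.Lib.Helper64.StB

variable {G : Type*} [Group G] (P : Cfsg.BNPair G)

/-- for `n m ∈ N`, `n ≡ m → n⁻¹ ≡ m⁻¹`. -/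
theorem lg_Eqv_inv {n m : G} (hn : n ∈ P.N) (hm : m ∈ P.N) (h : Eqv P n m) :
    Eqv P n⁻¹ m⁻¹ := by
  have h1 : m⁻¹ * n ∈ P.B := by
    have := P.B.inv_mem h
    simpa [Eqv] using this
  have h2 : m⁻¹ * n ∈ P.N := P.N.mul_mem (P.N.inv_mem hm) hn
  have h3 := conj_mem_B P hn h1 h2
  have e : n * (m⁻¹ * n) * n⁻¹ = n⁻¹⁻¹ * m⁻¹ := by group
  rw [e] at h3
  exact h3

/-- the reversed word represents the inverse. -/
theorem lg_rev_prod : ∀ l : List G, (∀ a ∈ l, a ∈ P.S) → Eqv P l.reverse.prod (l.prod)⁻¹ := by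
  intro l
  induction l with
  | nil => intro _; simp [Eqv_refl]
  | cons s l ih =>
    intro hl
    have hs : s ∈ P.S := hl s (List.mem_cons_self ..)
    have hl' : ∀ a ∈ l, a ∈ P.S := fun a ha => hl a (List.mem_cons_of_mem _ ha)
    have hrev : ∀ a ∈ l.reverse, a ∈ P.S := fun a ha => hl' a (List.mem_reverse.1 ha)
    have h1 : Eqv P (l.reverse.prod * s) ((l.prod)⁻¹ * s) :=
      Eqv_mul_right P (prod_mem_N P hrev) (P.N.inv_mem (prod_mem_N P hl')) (S_mem_N P hs) (ih hl')
    have h2 : Eqv P ((l.prod)⁻¹ * s) ((l.prod)⁻¹ * s⁻¹) :=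
      Eqv_mul_left P _ (Eqv_symm P (Eqv_inv_S P hs))
    have e1 : (s :: l).reverse.prod = l.reverse.prod * s := by simp
    have e2 : ((s :: l).prod)⁻¹ = (l.prod)⁻¹ * s⁻¹ := by simp
    rw [e1, e2]
    exact Eqv_trans P h1 h2

theorem lg_len_inv_le {n : G} (hn : n ∈ P.N) : len P n⁻¹ ≤ len P n := by
  obtain ⟨l, hlen, hl, heqv⟩ := exists_word_len P hn
  have hrev : ∀ a ∈ l.reverse, a ∈ P.S := fun a ha => hl a (List.mem_reverse.1 ha)
  have h1 : Eqv P l.reverse.prod n⁻¹ :=
    Eqv_trans P (lg_rev_prod P l hl) (lg_Eqv_inv P (prod_mem_N P hl) hn heqv)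
  have := len_le P (l := l.reverse) ⟨hrev, h1⟩
  rw [List.length_reverse, hlen] at this
  exact this

/-- `len n⁻¹ = len n` for `n ∈ N`. -/
theorem lg_len_inv {n : G} (hn : n ∈ P.N) : len P n⁻¹ = len P n := by
  refine le_antisymm (lg_len_inv_le P hn) ?_
  have := lg_len_inv_le P (P.N.inv_mem hn)
  rwa [inv_inv] at this

/-- `len (n * s) = len (s * n⁻¹)`. -/
theorem lg_len_mul_S {s n : G} (hs : s ∈ P.S) (hn : n ∈ P.N) :
    len P (n * s) = len P (s * n⁻¹) := by
  have hns : n * s ∈ P.N := P.N.mul_mem hn (S_mem_N P hs)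
  have h1 : len P (n * s) = len P (n * s)⁻¹ := (lg_len_inv P hns).symm
  have h2 : (n * s)⁻¹ = s⁻¹ * n⁻¹ := by simp
  rw [h1, h2]
  exact len_congr P (Eqv_inv_mul P hs (P.N.inv_mem hn))

theorem lg_len_mul_S_ne {s n : G} (hs : s ∈ P.S) (hn : n ∈ P.N) :
    len P (n * s) ≠ len P n := by
  rw [lg_len_mul_S P hs hn, ← lg_len_inv P hn]
  exact len_S_mul_ne P hs (P.N.inv_mem hn)

/-- a suffix of a reduced word is reduced (one letter). -/
theorem lg_reduced_tail {s : G} {l : List G} (h : Reduced P (s :: l)) : Reduced P l := by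
  have hs : s ∈ P.S := h.1 s (List.mem_cons_self ..)
  have hl : ∀ a ∈ l, a ∈ P.S := fun a ha => h.1 a (List.mem_cons_of_mem _ ha)
  refine ⟨hl, le_antisymm (len_le P ⟨hl, Eqv_refl P _⟩) ?_⟩
  have h1 := h.2
  rw [List.prod_cons, List.length_cons] at h1
  have h2 := len_S_mul_le P hs (prod_mem_N P hl)
  omega

/-- PREFIX LEMMA: if every `s ∈ S` is a left descent of `n`, every reduced word extends to a
reduced word of `n`. -/
theorem lg_prefix {n : G} (hn : n ∈ P.N) (hdesc : ∀ s ∈ P.S, len P (s * n) < len P n) :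
    ∀ l : List G, Reduced P l → ∃ z : List G, Reduced P (l ++ z) ∧ Eqv P (l ++ z).prod n := by
  intro l
  induction l with
  | nil =>
    intro _
    obtain ⟨z, hlen, hz, heqv⟩ := exists_word_len P hn
    refine ⟨z, ⟨by simpa using hz, ?_⟩, by simpa using heqv⟩
    rw [List.nil_append, hlen]
    exact len_congr P heqv
  | cons s l ih =>
    intro hred
    have hs : s ∈ P.S := hred.1 s (List.mem_cons_self ..)
    have hsN : s ∈ P.N := S_mem_N P hs
    have hredl : Reduced P l := lg_reduced_tail P hred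
    obtain ⟨z, hLred, hLeqv⟩ := ih hredl
    have hLN : (l ++ z).prod ∈ P.N := prod_mem_N P hLred.1
    have hlenL : len P (l ++ z).prod = len P n := len_congr P hLeqv
    have hlt : len P (s * (l ++ z).prod) < len P (l ++ z).prod := by
      rw [len_congr P (Eqv_mul_left P s hLeqv), hlenL]
      exact hdesc s hs
    obtain ⟨l1, t, l2, hsplit, hE⟩ := exchange P hs (l ++ z) hLred hlt
    -- the deleted letter lies in `z`
    have key : ∃ a, l1 = l ++ a ∧ z = a ++ t :: l2 := by
      rcases List.append_eq_append_iff.1 hsplit with ⟨a, ha1, ha2⟩ | ⟨c, hc1, hc2⟩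
      · exact ⟨a, ha1, ha2⟩
      · rcases c with _ | ⟨t', c⟩
        · refine ⟨[], by simpa using hc1.symm, by simpa using hc2.symm⟩
        · exfalso
          rw [List.cons_append, List.cons.injEq] at hc2
          obtain ⟨rfl, hl2⟩ := hc2
          -- `l = l1 ++ t :: c`, `l2 = c ++ z`
          have hzS : ∀ a ∈ z, a ∈ P.S := fun a ha => hLred.1 a (List.mem_append_right _ ha)
          have hzN : z.prod ∈ P.N := prod_mem_N P hzS
          have hlS : ∀ a ∈ l, a ∈ P.S := hredl.1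
          have hl1cS : ∀ a ∈ l1 ++ c, a ∈ P.S := by
            intro a ha
            apply hlS
            rw [hc1]
            rcases List.mem_append.1 ha with ha | ha
            · exact List.mem_append_left _ ha
            · exact List.mem_append_right _ (List.mem_cons_of_mem _ ha)
          have e1 : s * (l ++ z).prod = (s * l.prod) * z.prod := by
            rw [List.prod_append, mul_assoc]
          have e2 : (l1 ++ l2).prod = (l1 ++ c).prod * z.prod := by
            rw [hl2]; simp [List.prod_append, mul_assoc]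
          rw [e1, e2] at hE
          have h3 := Eqv_mul_right P (P.N.mul_mem (P.N.mul_mem hsN (prod_mem_N P hlS)) hzN)
            (P.N.mul_mem (prod_mem_N P hl1cS) hzN) (P.N.inv_mem hzN) hE
          rw [mul_inv_cancel_right, mul_inv_cancel_right] at h3
          have h4 : len P (s * l.prod) = len P (l1 ++ c).prod := len_congr P h3
          have h5 : len P (l1 ++ c).prod ≤ (l1 ++ c).length := len_le P ⟨hl1cS, Eqv_refl P _⟩
          have h6 := hred.2
          rw [List.prod_cons, List.length_cons] at h6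
          have h7 : l.length = (l1 ++ c).length + 1 := by
            rw [hc1]; simp; omega
          omega
    obtain ⟨a, ha1, ha2⟩ := key
    have hzS : ∀ x ∈ z, x ∈ P.S := fun x hx => hLred.1 x (List.mem_append_right _ hx)
    have hal2S : ∀ x ∈ a ++ l2, x ∈ P.S := by
      intro x hx
      apply hzS
      rw [ha2]
      rcases List.mem_append.1 hx with hx | hx
      · exact List.mem_append_left _ hx
      · exact List.mem_append_right _ (List.mem_cons_of_mem _ hx)
    have e3 : s :: l ++ (a ++ l2) = s :: (l1 ++ l2) := by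
      rw [ha1]; simp
    have hS' : ∀ x ∈ s :: l ++ (a ++ l2), x ∈ P.S := by
      intro x hx
      rcases List.mem_append.1 hx with hx | hx
      · exact hred.1 x hx
      · exact hal2S x hx
    have hEq : Eqv P (s :: l ++ (a ++ l2)).prod n := by
      rw [e3, List.prod_cons]
      have h1 : Eqv P (s * (l1 ++ l2).prod) (s * (s * (l ++ z).prod)) :=
        Eqv_mul_left P s (Eqv_symm P hE)
      exact Eqv_trans P h1 (Eqv_trans P (Eqv_sq_mul P hs hLN) hLeqv)
    refine ⟨a ++ l2, ⟨hS', ?_⟩, hEq⟩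
    rw [len_congr P hEq, ← hlenL, hLred.2, ha2]
    simp
    omega

/-- if `n` has full left descent set and `m ∈ N` then `len m ≤ len n`, with equality only if
`m ≡ n`. -/
theorem lg_eqv_of_len_le {n m : G} (hn : n ∈ P.N) (hm : m ∈ P.N)
    (hdesc : ∀ s ∈ P.S, len P (s * n) < len P n) (hle : len P n ≤ len P m) : Eqv P n m := by
  obtain ⟨l, hlen, hl, heqv⟩ := exists_word_len P hm
  have hred : Reduced P l := ⟨hl, by rw [len_congr P heqv, hlen]⟩
  obtain ⟨z, hzred, hzeqv⟩ := lg_prefix P hn hdesc l hred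
  have h1 : len P n = (l ++ z).length := by rw [← len_congr P hzeqv, hzred.2]
  rw [List.length_append, hlen] at h1
  have hz : z = [] := List.length_eq_zero_iff.1 (by omega)
  subst hz
  rw [List.append_nil] at hzeqv
  exact Eqv_trans P (Eqv_symm P hzeqv) heqv

/-- K-A4 (longest element). -/
theorem exists_longest [Finite G] :
    ∃ n₀ ∈ P.N, (∀ s ∈ P.S, len P (s * n₀) < len P n₀) ∧ (∀ s ∈ P.S, len P (n₀ * s) < len P n₀) ∧
      (∀ n ∈ P.N, (∀ s ∈ P.S, len P (s * n) < len P n) → Eqv P n n₀) ∧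
      (∀ n ∈ P.N, (∀ s ∈ P.S, len P (n * s) < len P n) → Eqv P n n₀) := by
  obtain ⟨⟨n₀, hn₀⟩, hmax⟩ := Finite.exists_max (fun n : P.N => len P (n : G))
  have hmax' : ∀ n ∈ P.N, len P n ≤ len P n₀ := fun n hn => hmax ⟨n, hn⟩
  have hL : ∀ s ∈ P.S, len P (s * n₀) < len P n₀ := fun s hs =>
    lt_of_le_of_ne (hmax' _ (P.N.mul_mem (S_mem_N P hs) hn₀)) (len_S_mul_ne P hs hn₀)
  have hR : ∀ s ∈ P.S, len P (n₀ * s) < len P n₀ := fun s hs =>
    lt_of_le_of_ne (hmax' _ (P.N.mul_mem hn₀ (S_mem_N P hs))) (lg_len_mul_S_ne P hs hn₀)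
  have huniqL : ∀ n ∈ P.N, (∀ s ∈ P.S, len P (s * n) < len P n) → Eqv P n n₀ :=
    fun n hn hdesc => lg_eqv_of_len_le P hn hn₀ hdesc (hmax' n hn)
  -- right descents of `n` are left descents of `n⁻¹`
  have hinvdesc : ∀ n ∈ P.N, (∀ s ∈ P.S, len P (n * s) < len P n) →
      ∀ s ∈ P.S, len P (s * n⁻¹) < len P n⁻¹ := by
    intro n hn h s hs
    rw [← lg_len_mul_S P hs hn, lg_len_inv P hn]
    exact h s hs
  refine ⟨n₀, hn₀, hL, hR, huniqL, ?_⟩
  intro n hn hdesc
  have h1 : Eqv P n⁻¹ n₀ := huniqL n⁻¹ (P.N.inv_mem hn) (hinvdesc n hn hdesc)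
  have h2 : Eqv P n₀⁻¹ n₀ := huniqL n₀⁻¹ (P.N.inv_mem hn₀) (hinvdesc n₀ hn₀ hR)
  have h3 : Eqv P n⁻¹⁻¹ n₀⁻¹ := lg_Eqv_inv P (P.N.inv_mem hn) hn₀ h1
  rw [inv_inv] at h3
  exact Eqv_trans P h3 h2

end Cfsg.Agent.Lib.Helper26.StB
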