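import Mathlib
import Cfsg.Agent.Lib.Helper69.StNDefs

/-!
# K-StN-D2 (keystone 240111, S2401, architect helper69): `hh_swap` and `hh_eq`.
-/

set_option autoImplicit false

namespace Cfsg.Agent.Lib.Helper26.StN

open Cfsg.Agent.Lib.Helper69.StN Matrix

variable {n : ℕ} {K : Type*} [Field K] {S : Type*} [Group S] {X : Fin n → Fin n → K → S}

/-- `w_ij(u) = w_ji(-1/u)` (conjugate `w_ij(u)` by itself) -/
theorem w_symm_d2 (hX : IsSt X) (hA : HasActsW X) {i j : Fin n} (hij : i ≠ j) {u : K}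
    (hu : u ≠ 0) : w X i j u = w X j i (-u⁻¹) := by
  have h := hX.conj_w_of_acts (hA i j hij u hu) hij hu
  rw [mul_inv_cancel_right] at h
  rw [h, Equiv.swap_apply_left, Equiv.swap_apply_right]
  congr 1
  have e1 : dW i j u i = -u⁻¹ := by simp [dW]
  have e2 : dW i j u j = u := by simp [dW, hij.symm]
  rw [e1, e2]
  field_simp

/-- `hh_ij(1/u) = hh_ij(u)⁻¹` -/
theorem hh_inv_d2 (hX : IsSt X) (hM : HasHhMul X) {i j : Fin n} (hij : i ≠ j) {u : K}
    (hu : u ≠ 0) : hh X i j u⁻¹ = (hh X i j u)⁻¹ := by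
  rw [eq_inv_iff_mul_eq_one, ← hM i j hij _ _ (inv_ne_zero hu) hu, inv_mul_cancel₀ hu,
    hX.hh_one hij]

/-- `hh_ij(-u) * hh_ij(-1)⁻¹ = hh_ij(u)` -/
theorem hh_neg_d2 (hM : HasHhMul X) {i j : Fin n} (hij : i ≠ j) {u : K}
    (hu : u ≠ 0) : hh X i j (-u) * (hh X i j (-1))⁻¹ = hh X i j u := by
  have e : -u = u * (-1) := by ring
  rw [e, hM i j hij u (-1) hu (neg_ne_zero.mpr one_ne_zero), mul_inv_cancel_right]

theorem hh_swap (hX : IsSt X) (hA : HasActsW X) (hM : HasHhMul X) {i j : Fin n} (hij : i ≠ j)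
    {u : K} (hu : u ≠ 0) : hh X j i u = (hh X i j u)⁻¹ := by
  have h1 : w X j i u = w X i j (-u⁻¹) := w_symm_d2 hX hA hij.symm hu
  have h2 : w X j i (-1 : K) = w X i j 1 := by
    have := w_symm_d2 hX hA hij.symm (u := (-1 : K)) (neg_ne_zero.mpr one_ne_zero)
    rw [this]
    congr 1
    rw [inv_neg, neg_neg, inv_one]
  have h3 : hh X j i u = w X i j (-u⁻¹) * w X i j 1 := by
    unfold hh
    rw [h1, h2]
  rw [h3, hX.w_eq_hh_mul hij (-u⁻¹), mul_assoc, hX.w_one_sq hij, hh_neg_d2 hM hij (inv_ne_zero hu),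
    hh_inv_d2 hX hM hij hu]

theorem hh_eq (hX : IsSt X) (hA : HasActsW X) (hM : HasHhMul X) {i0 i j : Fin n}
    (h1 : i0 ≠ i) (h2 : i0 ≠ j) (h3 : i ≠ j) {u : K} (hu : u ≠ 0) :
    hh X i j u = (hh X i0 i u)⁻¹ * hh X i0 j u := by
  have hone : (1 : K) ≠ 0 := one_ne_zero
  have hneg : (-1 : K) ≠ 0 := neg_ne_zero.mpr one_ne_zero
  set g : S := w X i0 i 1 with hg
  set t : S := hh X i0 j u with ht
  -- (1) `g t g⁻¹ = hh_ij(u)`
  have hgA : Acts X g (Equiv.swap i0 i) (dW i0 i 1) := hA i0 i h1 1 hone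
  have c1 : g * t * g⁻¹ = hh X i j u := by
    have := hX.conj_hh_of_acts hgA h2 hu
    rw [this, Equiv.swap_apply_left, Equiv.swap_apply_of_ne_of_ne h2.symm h3.symm]
    have e1 : dW i0 i (1 : K) i0 = -1 := by simp [dW]
    have e2 : dW i0 i (1 : K) j = 1 := by simp [dW, h2.symm, h3.symm]
    rw [e1, e2, inv_one, mul_one, neg_one_mul]
    exact hh_neg_d2 hM h3 hu
  -- (2) `t g t⁻¹ = w_{i0 i}(u)`
  have htA : Acts X t (Equiv.swap i0 j * Equiv.swap i0 j)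
      (fun k => dW i0 j u (Equiv.swap i0 j k) * dW i0 j (-1) k) :=
    Acts.mul (hA i0 j h2 u hu) (hA i0 j h2 (-1) hneg)
  have c2 : t * g * t⁻¹ = w X i0 i u := by
    have := hX.conj_w_of_acts htA h1 hone
    rw [this]
    simp only [Equiv.swap_mul_self, Equiv.Perm.coe_one, id_eq]
    congr 1
    have e1 : dW i0 j u (Equiv.swap i0 j i0) = u := by
      rw [Equiv.swap_apply_left]; simp [dW, h2.symm]
    have e2 : dW i0 j (-1 : K) i0 = 1 := by simp [dW]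
    have e3 : dW i0 j u (Equiv.swap i0 j i) = 1 := by
      rw [Equiv.swap_apply_of_ne_of_ne h1.symm h3]; simp [dW, h1.symm, h3]
    have e4 : dW i0 j (-1 : K) i = 1 := by simp [dW, h1.symm, h3]
    rw [e1, e2, e3, e4]
    simp
  -- (3) assemble
  have c3 : t * g⁻¹ * t⁻¹ = w X i0 i (-u) := by
    rw [← hX.w_inv h1, ← c2]; group
  have c4 : (hh X i0 i u)⁻¹ = g * w X i0 i (-u) := by
    unfold hh
    rw [_root_.mul_inv_rev, hX.w_inv h1, hX.w_inv h1, neg_neg]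
  rw [← c1, c4, ← c3]
  group

end Cfsg.Agent.Lib.Helper26.StN
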