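import Cfsg.Agent.Lib.Helper53.StOmDefs

/-!
# K-StOm-M5 (keystone 254913, S2549, architect helper53): block monomial matrices normalise `T`.
-/

set_option autoImplicit false
set_option linter.unusedSectionVars false
set_option linter.unusedVariables false

namespace Cfsg.Agent.Lib.Helper26.StOm

open Cfsg Cfsg.Agent.Lib.Helper53.StOm

variable {m : ℕ} {F : Type*} [Field F] {a b : F}

/-- **LEAF M5 (254913).** -/
theorem conj_mem_T (n : OG m F a b) (σ : Equiv.Perm (MI m)) (h : MonWith m F a b n σ)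
    (t : OG m F a b) (ht : t ∈ Tsub m F a b) : n * t * n⁻¹ ∈ Tsub m F a b := by
  rw [mem_Tsub_iff] at ht ⊢
  obtain ⟨h1, h2, h3⟩ := h
  intro u v huv
  rw [mat_mul, mat_mul, Matrix.mul_apply]
  refine Finset.sum_eq_zero fun y _ => ?_
  rw [Matrix.mul_apply, Finset.sum_mul]
  refine Finset.sum_eq_zero fun x _ => ?_
  by_contra hne
  have hn1 : mat n u x ≠ 0 := fun h0 => hne (by rw [h0, zero_mul, zero_mul])
  have hn2 : mat t x y ≠ 0 := fun h0 => hne (by rw [h0, mul_zero, zero_mul])
  have hn3 : mat n⁻¹ y v ≠ 0 := fun h0 => hne (by rw [h0, mul_zero])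
  have e1 : pos m u = pos m (σ x) := h1 u x hn1
  have e2 : pos m x = pos m y := by
    by_contra hxy
    exact hn2 (ht x y hxy)
  have e3 : pos m y = pos m (σ.symm v) := h2 y v hn3
  have e4 : pos m (σ x) = pos m (σ (σ.symm v)) :=
    pos_perm_congr m σ h3 x (σ.symm v) (e2.trans e3)
  rw [Equiv.apply_symm_apply] at e4
  exact huv (e1.trans e4)

end Cfsg.Agent.Lib.Helper26.StOm
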