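import Mathlib
import Cfsg.Agent.Lib.Helper49.StOpDefs

/-!
# K-StOp pack (S2548), leaf R0b (254802, parallel hand helper26): `mat_xS`
(port of `Helper56.StOpR0c`).
-/

set_option autoImplicit false
set_option linter.unusedSectionVars false
set_option linter.unusedSimpArgs false

namespace Cfsg.Agent.Lib.Helper26.StOp

open Cfsg Cfsg.Agent.Lib.Helper49.StOp Matrix

variable {m : ℕ} {F : Type*} [Field F]

theorem xSMat_mulVec (i j : Fin m) (t : F) (u : OI m → F) :
    xSMat m F i j t *ᵥ u = fun a => u a + (if a = eI i then t * u (eI j) else 0)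
        - (if a = fI j then t * u (fI i) else 0) := by
  funext a
  unfold xSMat
  simp only [Matrix.add_mulVec, Matrix.sub_mulVec, Matrix.one_mulVec, Matrix.single_mulVec,
    Pi.add_apply, Pi.sub_apply, Function.update_apply, Pi.zero_apply]

theorem xSMat_mul_neg (i j : Fin m) (hij : i ≠ j) (t : F) :
    xSMat m F i j t * xSMat m F i j (-t) = 1 := by
  rw [Matrix.ext_iff_mulVec]
  intro u
  rw [← Matrix.mulVec_mulVec, Matrix.one_mulVec, xSMat_mulVec, xSMat_mulVec]
  funext a
  have hji : j ≠ i := hij.symm
  rcases a with a | a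
  · by_cases h : a = i
    · subst h; simp [hij, hji]
    · simp [h]
  · by_cases h : a = j
    · subst h; simp [hij, hji]
    · simp [h]

theorem quad_xSMat (i j : Fin m) (hij : i ≠ j) (t : F) (u : OI m → F) :
    Cfsg.quadFormPlus m F (xSMat m F i j t *ᵥ u) = Cfsg.quadFormPlus m F u := by
  rw [xSMat_mulVec]
  unfold Cfsg.quadFormPlus
  have hji : j ≠ i := hij.symm
  have h1 : ∀ k : Fin m,
      ((u (Sum.inl k) + (if (Sum.inl k : OI m) = eI i then t * u (eI j) else 0)
        - (if (Sum.inl k : OI m) = fI j then t * u (fI i) else 0)) *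
      (u (Sum.inr k) + (if (Sum.inr k : OI m) = eI i then t * u (eI j) else 0)
        - (if (Sum.inr k : OI m) = fI j then t * u (fI i) else 0)))
      = u (Sum.inl k) * u (Sum.inr k)
        + (if k = i then t * u (eI j) * u (fI i) else 0)
        - (if k = j then t * u (eI j) * u (fI i) else 0) := by
    intro k
    by_cases h : k = i <;> by_cases h' : k = j
    · subst h; exact absurd h' hij
    · subst h; simp [h']; ring
    · subst h'; simp [h]; ring
    · simp [h, h']
  simp only [h1, Finset.sum_sub_distrib, Finset.sum_add_distrib, Finset.sum_ite_eq',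
    Finset.mem_univ, if_true]
  ring

/-- **K-StOp-R0b**. -/
theorem mat_xS (i j : Fin m) (hij : i ≠ j) (t : F) : mat (xS m F i j t) = xSMat m F i j t := by
  unfold xS
  refine mat_ofMat _ (exists_of_isometry (xSMat m F i j t) (xSMat m F i j (-t))
    (xSMat_mul_neg i j hij t) ?_ (quad_xSMat i j hij t))
  have := xSMat_mul_neg (F := F) i j hij (-t)
  rwa [neg_neg] at this

end Cfsg.Agent.Lib.Helper26.StOp
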