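import Cfsg.Agent.Lib.Helper26.StOpC3c0
import Cfsg.Agent.Lib.Helper26.StOpR0b
import Cfsg.Agent.Lib.Helper59.StOpR0a
import Cfsg.Agent.Lib.Helper56.StOpR0c

/-!
# K-StOp-C3c (keystone 254818, S2548, architect helper49): `s B s ≠ B` for the simple reflections.
-/

set_option autoImplicit false
set_option linter.unusedSectionVars false
set_option linter.unusedVariables false

namespace Cfsg.Agent.Lib.Helper26.StOp

open Cfsg Cfsg.Agent.Lib.Helper49.StOp

variable {m : ℕ} {F : Type*} [Field F]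

/-- LEAF C3c (254818) -/
theorem S_conj_ne (s : OG m F) (hs : s ∈ Sset m F) :
    (fun b : OG m F => s * b * s) '' (Bsub m F : Set (OG m F)) ≠ (Bsub m F : Set (OG m F)) :=
  S_conj_ne_of Cfsg.Agent.Lib.Helper59.StOp.mat_sShort Cfsg.Agent.Lib.Helper59.StOp.mat_sCross
    mat_xS Cfsg.Agent.Lib.Helper56.StOp.mat_xP s hs

end Cfsg.Agent.Lib.Helper26.StOp
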