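import Cfsg.Agent.Lib.Helper49.StOpDefs

/-!
# K-StOp-C3c (keystone 254818, S2548, architect helper49), part 0: `s B s ≠ B` with the matrices of
the four elements involved (R0 leaves) as hypotheses.
-/

set_option autoImplicit false
set_option linter.unusedSectionVars false
set_option linter.unusedVariables false

namespace Cfsg.Agent.Lib.Helper26.StOp

open Cfsg Matrix Cfsg.Agent.Lib.Helper49.StOp

variable {m : ℕ} {F : Type*} [Field F]

/-- conjugating by a permutation matrix -/
theorem permMatrix_mul_mul_apply (σ : Equiv.Perm (OI m)) (M : Matrix (OI m) (OI m) F)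
    (a b : OI m) : (σ.permMatrix F * M * σ.permMatrix F) a b = M (σ a) (σ.symm b) := by
  rw [Equiv.Perm.permMatrix, PEquiv.toMatrix_toPEquiv_mul, PEquiv.mul_toMatrix_toPEquiv]
  rfl

/-- `xSMat i j t` is upper triangular for `i < j` -/
theorem xSMat_upper (i j : Fin m) (hij : i < j) (t : F) (a b : OI m) (hab : pos m b < pos m a) :
    xSMat m F i j t a b = 0 := by
  have hne : a ≠ b := fun h => by rw [h] at hab; exact lt_irrefl _ hab
  unfold xSMat
  rw [Matrix.sub_apply, Matrix.add_apply, Matrix.one_apply_ne hne, Matrix.single_apply,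
    Matrix.single_apply, zero_add]
  have h1 : ¬ (eI i = a ∧ eI j = b) := by
    rintro ⟨rfl, rfl⟩
    simp only [pos] at hab
    exact absurd hab (not_lt.mpr (le_of_lt hij))
  have h2 : ¬ (fI j = a ∧ fI i = b) := by
    rintro ⟨rfl, rfl⟩
    simp only [pos] at hab
    have := i.2; have := j.2
    have : i.val < j.val := hij
    omega
  rw [if_neg h1, if_neg h2, sub_zero]

/-- `xPMat i j t` is upper triangular -/
theorem xPMat_upper (i j : Fin m) (t : F) (a b : OI m) (hab : pos m b < pos m a) :
    xPMat m F i j t a b = 0 := by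
  have hne : a ≠ b := fun h => by rw [h] at hab; exact lt_irrefl _ hab
  unfold xPMat
  rw [Matrix.sub_apply, Matrix.add_apply, Matrix.one_apply_ne hne, Matrix.single_apply,
    Matrix.single_apply, zero_add]
  have h1 : ¬ (eI i = a ∧ fI j = b) := by
    rintro ⟨rfl, rfl⟩
    simp only [pos] at hab
    have := i.2; have := j.2
    omega
  have h2 : ¬ (eI j = a ∧ fI i = b) := by
    rintro ⟨rfl, rfl⟩
    simp only [pos] at hab
    have := i.2; have := j.2
    omega
  rw [if_neg h1, if_neg h2, sub_zero]

/-- the entry `(e_j, e_i)` of `sShortMat i j * xSMat i j t * sShortMat i j` -/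
theorem sShort_xS_sShort_entry (i j : Fin m) (hij : i ≠ j) (t : F) :
    (sShortMat m F i j * xSMat m F i j t * sShortMat m F i j) (eI j) (eI i) = t := by
  unfold sShortMat
  rw [permMatrix_mul_mul_apply]
  have h1 : swapE m i j (eI j) = eI i := by
    simp [swapE, eI]
  have h2 : (swapE m i j).symm (eI i) = eI j := by
    simp [swapE, eI]
  rw [h1, h2]
  unfold xSMat
  rw [Matrix.sub_apply, Matrix.add_apply, Matrix.one_apply_ne (by simpa [eI] using hij),
    Matrix.single_apply_same, Matrix.single_apply, if_neg (by simp [eI, fI]), zero_add, sub_zero]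

/-- the entry `(f_j, e_i)` of `sCrossMat i j * xPMat i j t * sCrossMat i j` -/
theorem sCross_xP_sCross_entry (i j : Fin m) (hij : i ≠ j) (t : F) :
    (sCrossMat m F i j * xPMat m F i j t * sCrossMat m F i j) (fI j) (eI i) = t := by
  unfold sCrossMat
  rw [permMatrix_mul_mul_apply]
  have hji : j ≠ i := fun h => hij h.symm
  have h1 : crossE m i j (fI j) = eI i := by
    unfold crossE
    have e1 : Equiv.swap (eI j) (fI i) (fI j) = fI j :=
      Equiv.swap_apply_of_ne_of_ne (by simp [eI, fI]) (by simpa [fI] using hji)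
    rw [Equiv.Perm.mul_apply, e1, Equiv.swap_apply_right]
  have h2 : (crossE m i j).symm (eI i) = fI j := by
    rw [Equiv.symm_apply_eq, h1]
  rw [h1, h2]
  unfold xPMat
  rw [Matrix.sub_apply, Matrix.add_apply, Matrix.one_apply_ne (by simp [eI, fI]),
    Matrix.single_apply_same, Matrix.single_apply, if_neg (by simp [eI, fI, hji]), zero_add,
    sub_zero]

/-- LEAF C3c with the R0 leaves as hypotheses -/
theorem S_conj_ne_of
    (hsS : ∀ i j : Fin m, mat (sShort m F i j) = sShortMat m F i j)
    (hsC : ∀ i j : Fin m, mat (sCross m F i j) = sCrossMat m F i j)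
    (hxS : ∀ i j : Fin m, i ≠ j → ∀ t : F, mat (xS m F i j t) = xSMat m F i j t)
    (hxP : ∀ i j : Fin m, i ≠ j → ∀ t : F, mat (xP m F i j t) = xPMat m F i j t)
    (s : OG m F) (hs : s ∈ Sset m F) :
    (fun b : OG m F => s * b * s) '' (Bsub m F : Set (OG m F)) ≠ (Bsub m F : Set (OG m F)) := by
  intro heq
  rcases hs with ⟨i, hi, rfl⟩ | ⟨hm, rfl⟩
  · have hlt : i < nxt i hi := by
      rw [Fin.lt_def]; simp [nxt]
    have hne : i ≠ nxt i hi := ne_of_lt hlt
    have hxB : xS m F i (nxt i hi) 1 ∈ Bsub m F := by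
      rw [mem_Bsub_iff, hxS i _ hne]
      exact fun a b hab => xSMat_upper i _ hlt 1 a b hab
    have hmem : sShort m F i (nxt i hi) * xS m F i (nxt i hi) 1 * sShort m F i (nxt i hi) ∈
        (fun b : OG m F => sShort m F i (nxt i hi) * b * sShort m F i (nxt i hi)) ''
          (Bsub m F : Set (OG m F)) := ⟨_, hxB, rfl⟩
    rw [heq] at hmem
    have h0 := (mem_Bsub_iff _).1 hmem (eI (nxt i hi)) (eI i) (by simp [pos, nxt])
    rw [mat_mul, mat_mul, hsS, hxS i _ hne, sShort_xS_sShort_entry i _ hne] at h0
    exact one_ne_zero h0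
  · have hne : prevF hm ≠ lastF (by omega : 0 < m) := prevF_ne_lastF hm
    have hxB : xP m F (prevF hm) (lastF (by omega)) 1 ∈ Bsub m F := by
      rw [mem_Bsub_iff, hxP _ _ hne]
      exact fun a b hab => xPMat_upper _ _ 1 a b hab
    have hmem : sCross m F (prevF hm) (lastF (by omega)) * xP m F (prevF hm) (lastF (by omega)) 1 *
        sCross m F (prevF hm) (lastF (by omega)) ∈
        (fun b : OG m F => sCross m F (prevF hm) (lastF (by omega)) * b *
          sCross m F (prevF hm) (lastF (by omega))) ''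
          (Bsub m F : Set (OG m F)) := ⟨_, hxB, rfl⟩
    rw [heq] at hmem
    have h0 := (mem_Bsub_iff _).1 hmem (fI (lastF (by omega))) (eI (prevF hm)) (by
      simp only [pos, lastF, prevF]; omega)
    rw [mat_mul, mat_mul, hsC, hxP _ _ hne, sCross_xP_sCross_entry _ _ hne] at h0
    exact one_ne_zero h0

end Cfsg.Agent.Lib.Helper26.StOp
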