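import Cfsg.Agent.Lib.Helper49.StSUDefs

/-!
# K-StSU-M1 (keystone 254612, S2546, architect helper49): the elements of `N = ⟨S⟩ T` are monomial
(twin of `Helper63.StSpM1`).
-/

set_option autoImplicit false
set_option linter.unusedSectionVars false
set_option linter.unusedVariables false

namespace Cfsg.Agent.Lib.Helper26.StSU

open Cfsg Cfsg.Agent.Lib.Helper49.StSU

variable {n : ℕ} {F : Type*} [Field F] {q : ℕ}

theorem monWith_one : MonWith n F q (1 : GJ n F q) 1 := by
  refine ⟨fun a b => ?_, fun a => rfl⟩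
  show (1 : Matrix (Fin n) (Fin n) F) a b ≠ 0 ↔ a = b
  rw [Matrix.one_apply]
  split_ifs with h
  · exact ⟨fun _ => h, fun _ => one_ne_zero⟩
  · exact ⟨fun h0 => absurd rfl h0, fun h1 => absurd h1 h⟩

theorem monWith_mul {g g' : GJ n F q} {σ σ' : Equiv.Perm (Fin n)}
    (h : MonWith n F q g σ) (h' : MonWith n F q g' σ') : MonWith n F q (g * g') (σ * σ') := by
  refine ⟨fun a b => ?_, fun a => ?_⟩
  · show (mat g * mat g') a b ≠ 0 ↔ a = σ (σ' b)
    rw [Matrix.mul_apply]
    have e1 : ∑ c, mat g a c * mat g' c b = mat g a (σ' b) * mat g' (σ' b) b := by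
      refine Finset.sum_eq_single (σ' b) (fun c _ hc => ?_) (fun hb => absurd (Finset.mem_univ _) hb)
      have h0 : mat g' c b = 0 := by
        by_contra h0
        exact hc ((h'.1 c b).1 h0)
      rw [h0, mul_zero]
    rw [e1]
    have h1 : mat g' (σ' b) b ≠ 0 := (h'.1 _ _).2 rfl
    rw [← h.1 a (σ' b)]
    constructor
    · intro h2 h3
      exact h2 (by rw [h3, zero_mul])
    · intro h2
      exact mul_ne_zero h2 h1
  · show σ (σ' (Fin.rev a)) = Fin.rev (σ (σ' a))
    rw [h'.2, h.2]

theorem monWith_inv {g : GJ n F q} {σ : Equiv.Perm (Fin n)}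
    (h : MonWith n F q g σ) : MonWith n F q g⁻¹ σ⁻¹ := by
  have key : mat g⁻¹ * mat g = 1 := mat_inv_mul g
  have ent : ∀ a b, mat g⁻¹ a (σ b) * mat g (σ b) b = (1 : Matrix (Fin n) (Fin n) F) a b := by
    intro a b
    have hc := congrFun (congrFun key a) b
    rw [Matrix.mul_apply] at hc
    rw [← hc]
    symm
    refine Finset.sum_eq_single (σ b) (fun c _ hc' => ?_) (fun hb => absurd (Finset.mem_univ _) hb)
    have h0 : mat g c b = 0 := by
      by_contra h0
      exact hc' ((h.1 c b).1 h0)
    rw [h0, mul_zero]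
  refine ⟨fun a c => ?_, fun a => ?_⟩
  · obtain ⟨b, rfl⟩ := σ.surjective c
    have h1 : mat g (σ b) b ≠ 0 := (h.1 _ _).2 rfl
    have h2 := ent a b
    rw [Matrix.one_apply] at h2
    rw [Equiv.Perm.coe_inv, Equiv.symm_apply_apply]
    constructor
    · intro h3
      by_contra hab
      rw [if_neg hab] at h2
      rcases mul_eq_zero.1 h2 with h4 | h4
      · exact h3 h4
      · exact h1 h4
    · intro hab h3
      rw [if_pos hab, h3, zero_mul] at h2
      exact zero_ne_one h2
  · apply σ.injective
    rw [h.2]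
    simp only [Equiv.Perm.coe_inv, Equiv.apply_symm_apply]

/-- diagonal elements are monomial -/
theorem monWith_of_mem_T {t : GJ n F q} (ht : t ∈ Tsub n F q) : MonWith n F q t 1 := by
  rw [mem_Tsub_iff] at ht
  refine ⟨fun a b => ?_, fun a => rfl⟩
  show mat t a b ≠ 0 ↔ a = b
  constructor
  · intro h
    by_contra hab
    exact h (ht a b hab)
  · rintro rfl h0
    have key : mat t * mat t⁻¹ = 1 := mat_mul_inv t
    have hc := congrFun (congrFun key a) a
    rw [Matrix.mul_apply, Matrix.one_apply_eq] at hc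
    have : ∑ c, mat t a c * mat t⁻¹ c a = 0 := by
      refine Finset.sum_eq_zero fun c _ => ?_
      by_cases hca : a = c
      · subst hca
        rw [h0, zero_mul]
      · rw [ht a c hca, zero_mul]
    rw [this] at hc
    exact zero_ne_one hc

/-- a matrix supported on the graph of an involution of `{0, …, n-1}` commuting with `rev`
is monomial -/
theorem exists_monWith_of_nat (g : GJ n F q) (f : ℕ → ℕ) (hlt : ∀ v, v < n → f v < n)
    (hinv : ∀ v, v < n → f (f v) = v) (hrev : ∀ v, v < n → f (n - 1 - v) = n - 1 - f v)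
    (hmat : ∀ a b : Fin n, mat g a b ≠ 0 ↔ a.val = f b.val) :
    ∃ σ : Equiv.Perm (Fin n), MonWith n F q g σ := by
  let φ : Fin n → Fin n := fun b => ⟨f b.val, hlt b.val b.2⟩
  have hφ : Function.Involutive φ := fun b => Fin.ext (hinv b.val b.2)
  refine ⟨hφ.toPerm φ, fun a b => ?_, fun a => ?_⟩
  · rw [hmat a b]
    show a.val = f b.val ↔ a = φ b
    rw [Fin.ext_iff]
  · show φ (Fin.rev a) = Fin.rev (φ a)
    apply Fin.ext
    show f (Fin.rev a).val = (Fin.rev (φ a)).val
    rw [Fin.val_rev, Fin.val_rev]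
    show f (n - (a.val + 1)) = n - (f a.val + 1)
    have h1 := hrev a.val a.2
    have h2 : n - (a.val + 1) = n - 1 - a.val := by omega
    rw [h2, h1]; omega

theorem exists_monWith_sShort (ok : Ok n F q) (i : ℕ) (hi : i + 1 < n / 2) :
    ∃ σ : Equiv.Perm (Fin n), MonWith n F q (sShort n F q i) σ := by
  apply exists_monWith_of_nat _ (tau n i)
  · intro v hv
    unfold tau
    split_ifs <;> omega
  · intro v hv
    unfold tau
    split_ifs <;> omega
  · intro v hv
    unfold tau
    split_ifs <;> omega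
  · intro a b
    rw [ok.short i hi]
    unfold sShortMat
    split_ifs with h
    · exact ⟨fun _ => h, fun _ => one_ne_zero⟩
    · exact ⟨fun h0 => absurd rfl h0, fun h1 => absurd h1 h⟩

/-- the involution of the last reflection -/
def tauL (n : ℕ) (v : ℕ) : ℕ :=
  if n % 2 = 0 then (if v = n / 2 - 1 then n / 2 else if v = n / 2 then n / 2 - 1 else v)
  else (if v = n / 2 - 1 then n / 2 + 1 else if v = n / 2 + 1 then n / 2 - 1 else v)

theorem exists_monWith_sLast (ok : Ok n F q) (hn : 2 ≤ n) :
    ∃ σ : Equiv.Perm (Fin n), MonWith n F q (sLast n F q) σ := by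
  have ha : aPar F q ≠ 0 := ok.a_ne
  apply exists_monWith_of_nat _ (tauL n)
  · intro v hv
    unfold tauL
    split_ifs <;> omega
  · intro v hv
    unfold tauL
    split_ifs <;> omega
  · intro v hv
    unfold tauL
    split_ifs <;> omega
  · intro a b
    rw [ok.last hn]
    unfold sLastMat tauL
    by_cases he : n % 2 = 0
    · rw [if_pos he, if_pos he]
      unfold sEvenMat
      simp only [Fin.ext_iff]
      split_ifs with h1 h2 h3 h4 h5 h4 h5 h4 h5 h4 h5
      all_goals
        constructor
        · intro hh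
          first | omega | exact absurd rfl hh
        · intro hh
          first | exact ha | exact one_ne_zero | exact neg_ne_zero.mpr (inv_ne_zero ha) | omega
    · rw [if_neg he, if_neg he]
      unfold sOddMat
      simp only [Fin.ext_iff]
      split_ifs with h1 h2 h3 h4 h5 h4 h5 h4 h5 h4 h5
      all_goals
        constructor
        · intro hh
          first | omega | exact absurd rfl hh
        · intro hh
          first | exact one_ne_zero | exact neg_ne_zero.mpr one_ne_zero | omega

/-- the subgroup of monomial elements -/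
def monSub (n : ℕ) (F : Type*) [Field F] (q : ℕ) : Subgroup (GJ n F q) where
  carrier := {g | ∃ σ : Equiv.Perm (Fin n), MonWith n F q g σ}
  mul_mem' := by
    rintro a b ⟨σ, h⟩ ⟨σ', h'⟩
    exact ⟨σ * σ', monWith_mul h h'⟩
  one_mem' := ⟨1, monWith_one⟩
  inv_mem' := by
    rintro a ⟨σ, h⟩
    exact ⟨σ⁻¹, monWith_inv h⟩

/-- **LEAF M1 (254612).** -/
theorem exists_monWith (ok : Ok n F q) (g : GJ n F q) (hg : g ∈ Nsub n F q) :
    ∃ σ : Equiv.Perm (Fin n), MonWith n F q g σ := by
  have hle : Nsub n F q ≤ monSub n F q := by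
    unfold Nsub
    apply sup_le
    · rw [Subgroup.closure_le]
      rintro s (⟨i, hi, rfl⟩ | ⟨hn, rfl⟩)
      · exact exists_monWith_sShort ok i hi
      · exact exists_monWith_sLast ok hn
    · intro t ht
      exact ⟨1, monWith_of_mem_T ht⟩
  exact hle hg

end Cfsg.Agent.Lib.Helper26.StSU
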