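import Mathlib
import Cfsg.Prelude.Def_JordanBlocks
import Cfsg.Prelude.Def_LieClassical
import Cfsg.Agent.Lib.Helper73.UCDefs

/-!
# K-UC-C3 (keystone 264616, S2646 pack of helper73): block diagonal hermitian units
-/

set_option autoImplicit false

namespace Cfsg.Agent.Lib.Helper26.UC

open Matrix Cfsg.Agent.Lib.Helper73.UC

variable {K : Type*} [Field K]

/-- reindexing invariance of the count of invertible hermitian matrices -/
theorem card_herm_units_of_equiv (φ : K →+* K) {ι : Type*} [Fintype ι] [DecidableEq ι]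
    {a : ℕ} (e : ι ≃ Fin a) :
    Nat.card {M : Matrix ι ι K // hadj φ M = M ∧ IsUnit M.det} = hermUnits φ a := by
  unfold hermUnits
  refine Nat.card_congr ((Matrix.reindex e e).subtypeEquiv ?_)
  intro M
  have h1 : hadj φ (Matrix.reindex e e M) = Matrix.reindex e e (hadj φ M) := by
    ext i j
    rfl
  rw [h1, (Matrix.reindex e e).apply_eq_iff_eq, Matrix.det_reindex_self]

theorem card_BDH_units [Fintype K] {t : ℕ} (φ : K →+* K) (d : Fin t → ℕ) :
    Nat.card {T : Matrix (Fin t) (Fin t) K // T ∈ BDH d φ ∧ IsUnit T.det} =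
      ∏ i ∈ Finset.range (Finset.univ.sup d + 1), hermUnits φ (mult d i) := by
  classical
  set S := Finset.univ.sup d + 1 with hS
  have hdS : ∀ k, d k < S := fun k => Nat.lt_succ_of_le (Finset.le_sup (Finset.mem_univ k))
  set b : Fin t → Fin S := fun k => ⟨d k, hdS k⟩ with hb
  have hbd : ∀ l k, b l = b k ↔ d l = d k := fun l k => by
    rw [hb]; simp [Fin.ext_iff]
  have hcard : ∀ a : Fin S, Fintype.card {k : Fin t // b k = a} = mult d a := fun a => by
    unfold mult
    rw [Fintype.card_subtype]
    congr 1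
    ext k
    simp [hb, Fin.ext_iff]
  rw [Finset.prod_range]
  have h1 : ∀ a : Fin S, Nat.card {M : Matrix {k : Fin t // b k = a} {k : Fin t // b k = a} K //
      hadj φ M = M ∧ IsUnit M.det} = hermUnits φ (mult d a) :=
    fun a => card_herm_units_of_equiv φ (Fintype.equivFinOfCardEq (hcard a))
  simp_rw [← h1]
  rw [← Nat.card_pi]
  -- block triangularity and the determinant
  have hBT : ∀ T : Matrix (Fin t) (Fin t) K, (∀ l k, d l ≠ d k → T l k = 0) →
      T.det = ∏ a : Fin S, (T.toSquareBlock b a).det := by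
    intro T hT
    apply Matrix.BlockTriangular.det_fintype
    intro i j hij
    apply hT
    intro h
    rw [← hbd] at h
    rw [h] at hij
    exact lt_irrefl _ hij
  have hunit : ∀ T : Matrix (Fin t) (Fin t) K, (∀ l k, d l ≠ d k → T l k = 0) →
      (IsUnit T.det ↔ ∀ a : Fin S, IsUnit (T.toSquareBlock b a).det) := by
    intro T hT
    rw [hBT T hT, IsUnit.prod_iff]
    simp
  -- assembling a block diagonal matrix from its blocks
  let asm : (∀ a : Fin S, {M : Matrix {k : Fin t // b k = a} {k : Fin t // b k = a} K //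
      hadj φ M = M ∧ IsUnit M.det}) → Matrix (Fin t) (Fin t) K := fun M =>
    Matrix.of fun l k =>
      if h : b l = b k then
        (M (b l) : Matrix {k : Fin t // b k = b l} {k : Fin t // b k = b l} K) ⟨l, rfl⟩ ⟨k, h.symm⟩
      else 0
  have key : ∀ M (a : Fin S) (l k : Fin t) (hl : b l = a) (hk : b k = a),
      asm M l k =
        (M a : Matrix {k : Fin t // b k = a} {k : Fin t // b k = a} K) ⟨l, hl⟩ ⟨k, hk⟩ := by
    intro M a l k hl hk
    subst hl
    simp only [asm, Matrix.of_apply]
    rw [dif_pos hk.symm]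
  have hzero : ∀ M (l k : Fin t), d l ≠ d k → asm M l k = 0 := by
    intro M l k hlk
    have h : ¬ b l = b k := fun h => hlk ((hbd l k).mp h)
    simp [asm, h]
  have hblock : ∀ M (a : Fin S), (asm M).toSquareBlock b a =
      (M a : Matrix {k : Fin t // b k = a} {k : Fin t // b k = a} K) := by
    intro M a
    ext i j
    rw [Matrix.toSquareBlock_def, Matrix.of_apply, key M a i.1 j.1 i.2 j.2]
  have hherm : ∀ T : Matrix (Fin t) (Fin t) K, hadj φ T = T →
      ∀ a : Fin S, hadj φ (T.toSquareBlock b a) = T.toSquareBlock b a := by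
    intro T hT a
    ext i j
    have h3 := congrFun (congrFun hT i.1) j.1
    simpa [hadj, Matrix.toSquareBlock_def] using h3
  let fwd : {T : Matrix (Fin t) (Fin t) K // T ∈ BDH d φ ∧ IsUnit T.det} →
      (∀ a : Fin S, {M : Matrix {k : Fin t // b k = a} {k : Fin t // b k = a} K //
        hadj φ M = M ∧ IsUnit M.det}) := fun T a =>
    ⟨T.1.toSquareBlock b a, hherm T.1 T.2.1.1 a, (hunit T.1 T.2.1.2).mp T.2.2 a⟩
  have hasm_herm : ∀ M, hadj φ (asm M) = asm M := by
    intro M
    ext l k
    by_cases h : b l = b k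
    · have h5 := (M (b l)).2.1
      have h6 := congrFun (congrFun h5 ⟨l, rfl⟩) ⟨k, h.symm⟩
      rw [key M (b l) l k rfl h.symm]
      rw [← h6]
      simp only [hadj, Matrix.transpose_apply, Matrix.map_apply]
      rw [key M (b l) k l h.symm rfl]
    · have h' : ¬ b k = b l := fun h'' => h h''.symm
      simp [hadj, asm, h, h']
  have hasm_unit : ∀ M, IsUnit (asm M).det := by
    intro M
    rw [hunit (asm M) (hzero M)]
    intro a
    rw [hblock M a]
    exact (M a).2.2
  let bwd : (∀ a : Fin S, {M : Matrix {k : Fin t // b k = a} {k : Fin t // b k = a} K //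
        hadj φ M = M ∧ IsUnit M.det}) →
      {T : Matrix (Fin t) (Fin t) K // T ∈ BDH d φ ∧ IsUnit T.det} := fun M =>
    ⟨asm M, ⟨hasm_herm M, hzero M⟩, hasm_unit M⟩
  have hleft : ∀ T, bwd (fwd T) = T := by
    intro T
    apply Subtype.ext
    ext l k
    show asm (fwd T) l k = T.1 l k
    by_cases h : b l = b k
    · rw [key (fwd T) (b l) l k rfl h.symm]
      rfl
    · rw [hzero (fwd T) l k (fun h' => h ((hbd l k).mpr h'))]
      exact (T.2.1.2 l k (fun h' => h ((hbd l k).mpr h'))).symm
  have hright : ∀ M, fwd (bwd M) = M := by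
    intro M
    funext a
    apply Subtype.ext
    exact hblock M a
  exact Nat.card_congr ⟨fwd, bwd, hleft, hright⟩

end Cfsg.Agent.Lib.Helper26.UC
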