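import Mathlib

/-!
# K-UNd-XAR (keystone 595410, S5954 pack of helper73): arithmetic for `r ∣ q + 1`, `r` odd
-/

set_option autoImplicit false
set_option linter.unusedVariables false

namespace Cfsg.Agent.Lib.Helper26.UNd

universe u
variable {F : Type u} [Field F] {q : ℕ}

/-- a generator of `Fˣ` with its order -/
theorem exists_gen_units [Fintype F] (hF : Fintype.card F = q ^ 2) :
    ∃ ω : Fˣ, orderOf ω = q ^ 2 - 1 ∧ ∀ x : Fˣ, ∃ j : ℕ, ω ^ j = x := by
  classical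
  obtain ⟨ω, hω⟩ := IsCyclic.exists_generator (α := Fˣ)
  refine ⟨ω, ?_, ?_⟩
  · rw [orderOf_eq_card_of_forall_mem_zpowers hω, Nat.card_eq_fintype_card, Fintype.card_units, hF]
  · intro x
    exact (Submonoid.mem_powers_iff _ _).mp (mem_powers_iff_mem_zpowers.mpr (hω x))

theorem two_le_of_card [Fintype F] (hF : Fintype.card F = q ^ 2) : 2 ≤ q := by
  by_contra hlt
  have h1 := Fintype.one_lt_card (α := F)
  have h2 : q = 0 ∨ q = 1 := by omega
  rcases h2 with rfl | rfl <;> omega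

theorem pred_mul_succ (hq : 1 ≤ q) : (q - 1) * (q + 1) = q ^ 2 - 1 := by
  obtain ⟨k, rfl⟩ : ∃ k, q = k + 1 := ⟨q - 1, by omega⟩
  have : (k + 1) ^ 2 = k * (k + 1 + 1) + 1 := by ring
  rw [this]
  simp

theorem not_dvd_pred (r : ℕ) (hrp : r.Prime) (hr2 : r ≠ 2) (hr : r ∣ q + 1) (hq : 1 ≤ q) :
    ¬ r ∣ q - 1 := by
  intro hdvd
  have h1 : r ∣ (q + 1) - (q - 1) := Nat.dvd_sub hr hdvd
  have h2 : (q + 1) - (q - 1) = 2 := by omega
  rw [h2] at h1
  exact hr2 ((Nat.prime_dvd_prime_iff_eq hrp Nat.prime_two).mp h1)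

theorem exists_nonpower [Fintype F] (hF : Fintype.card F = q ^ 2) (r : ℕ) [Fact r.Prime]
    (hr2 : r ≠ 2) (hr : r ∣ q + 1) (n : ℕ) (hv : padicValNat r (q + 1) < padicValNat r n) :
    ∃ z : F, z ^ (q + 1) = 1 ∧ (∀ d : F, d ^ r ≠ z) ∧ z ^ (n / r) = 1 := by
  classical
  have hrp : r.Prime := Fact.out
  obtain ⟨ω, hord, hgen⟩ := exists_gen_units hF
  have hq2 : 2 ≤ q := two_le_of_card hF
  have hq1 : 1 ≤ q := by omega
  have hqq := pred_mul_succ hq1
  set a := padicValNat r (q + 1) with ha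
  set s := (q + 1) / r ^ a with hs
  have hsa : r ^ a * s = q + 1 := Nat.mul_div_cancel' pow_padicValNat_dvd
  have hrs : ¬ r ∣ s := by
    intro hdvd
    have h1 : r ^ (a + 1) ∣ q + 1 := by
      rw [pow_succ, ← hsa]; exact Nat.mul_dvd_mul_left _ hdvd
    have h2 := (padicValNat_dvd_iff_le (by omega)).mp h1
    omega
  have hrq1 : ¬ r ∣ q - 1 := not_dvd_pred r hrp hr2 hr hq1
  refine ⟨((ω ^ ((q - 1) * s) : Fˣ) : F), ?_, ?_, ?_⟩
  · rw [← Units.val_pow_eq_pow_val, ← pow_mul]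
    have h1 : (q - 1) * s * (q + 1) = (q ^ 2 - 1) * s := by rw [← hqq]; ring
    rw [h1, pow_mul, ← hord, pow_orderOf_eq_one, one_pow, Units.val_one]
  · intro d hd
    have hd0 : d ≠ 0 := by
      rintro rfl
      rw [zero_pow hrp.ne_zero] at hd
      exact (Units.ne_zero _) hd.symm
    obtain ⟨j, hj⟩ := hgen (Units.mk0 d hd0)
    have h1 : ω ^ (j * r) = ω ^ ((q - 1) * s) := by
      apply Units.ext
      rw [pow_mul, hj, Units.val_pow_eq_pow_val, Units.val_mk0, hd]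
    rw [pow_eq_pow_iff_modEq, hord] at h1
    have h2 : r ∣ q ^ 2 - 1 := by rw [← hqq]; exact Dvd.dvd.mul_left hr _
    have h3 : j * r ≡ (q - 1) * s [MOD r] := h1.of_dvd h2
    have h4 : r ∣ (q - 1) * s := by
      have h5 : (q - 1) * s ≡ 0 [MOD r] :=
        h3.symm.trans ((Nat.modEq_zero_iff_dvd).mpr (Dvd.intro_left j rfl))
      exact (Nat.modEq_zero_iff_dvd).mp h5
    rcases hrp.dvd_mul.mp h4 with h5 | h5
    · exact hrq1 h5
    · exact hrs h5
  · have hn0 : n ≠ 0 := by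
      rintro rfl
      simp at hv
    have h1 : r ^ (a + 1) ∣ n := (padicValNat_dvd_iff_le hn0).mpr hv
    obtain ⟨t, ht⟩ := h1
    have h2 : n / r = r ^ a * t := by
      rw [ht, pow_succ, mul_comm (r ^ a) r, mul_assoc]
      exact Nat.mul_div_cancel_left _ hrp.pos
    rw [h2, ← Units.val_pow_eq_pow_val, ← pow_mul]
    have h3 : (q - 1) * s * (r ^ a * t) = (q ^ 2 - 1) * t := by rw [← hqq, ← hsa]; ring
    rw [h3, pow_mul, ← hord, pow_orderOf_eq_one, one_pow, Units.val_one]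

theorem power_of_val_le [Fintype F] (hF : Fintype.card F = q ^ 2) (r : ℕ) [Fact r.Prime]
    (hr : r ∣ q + 1) (n : ℕ) (hn : 0 < n) (hrn : r ∣ n)
    (hv : padicValNat r n ≤ padicValNat r (q + 1)) (z : F) (hz : z ^ (q + 1) = 1)
    (hzn : z ^ (n / r) = 1) : ∃ l : F, l ^ r = z ∧ l ^ (q + 1) = 1 := by
  classical
  have hrp : r.Prime := Fact.out
  obtain ⟨ω, hord, hgen⟩ := exists_gen_units hF
  have hq2 : 2 ≤ q := two_le_of_card hF
  have hq1 : 1 ≤ q := by omega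
  have hqq := pred_mul_succ hq1
  have hz0 : z ≠ 0 := by
    rintro rfl
    rw [zero_pow (by omega)] at hz
    exact zero_ne_one hz
  obtain ⟨j, hj⟩ := hgen (Units.mk0 z hz0)
  -- `(q - 1) ∣ j`
  have h1 : ω ^ (j * (q + 1)) = 1 := by
    apply Units.ext
    rw [pow_mul, hj, Units.val_pow_eq_pow_val, Units.val_mk0, hz, Units.val_one]
  have h2 : (q - 1) * (q + 1) ∣ j * (q + 1) := by
    rw [hqq, ← hord]; exact orderOf_dvd_of_pow_eq_one h1
  have h3 : q - 1 ∣ j := Nat.dvd_of_mul_dvd_mul_right (by omega) h2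
  obtain ⟨j', rfl⟩ := h3
  -- `(q + 1) ∣ j' * (n / r)`
  have h4 : ω ^ ((q - 1) * j' * (n / r)) = 1 := by
    apply Units.ext
    rw [pow_mul, hj, Units.val_pow_eq_pow_val, Units.val_mk0, hzn, Units.val_one]
  have h5 : (q - 1) * (q + 1) ∣ (q - 1) * (j' * (n / r)) := by
    rw [hqq, ← hord, ← mul_assoc]; exact orderOf_dvd_of_pow_eq_one h4
  have h6 : q + 1 ∣ j' * (n / r) := Nat.dvd_of_mul_dvd_mul_left (by omega) h5
  -- `r ∣ j'`
  have h7 : r ∣ j' := by
    rcases Nat.eq_zero_or_pos j' with h0 | h0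
    · rw [h0]; exact dvd_zero _
    · have hn' : 0 < n / r := Nat.div_pos (Nat.le_of_dvd hn hrn) hrp.pos
      have h8 : r ^ padicValNat r (q + 1) ∣ j' * (n / r) := pow_padicValNat_dvd.trans h6
      have h9 := (padicValNat_dvd_iff_le (Nat.mul_ne_zero h0.ne' hn'.ne')).mp h8
      rw [padicValNat.mul h0.ne' hn'.ne', padicValNat.div hrn] at h9
      have h10 : 1 ≤ padicValNat r n := one_le_padicValNat_of_dvd hn.ne' hrn
      exact dvd_of_one_le_padicValNat (by omega)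
  obtain ⟨j'', rfl⟩ := h7
  refine ⟨((ω ^ ((q - 1) * j'') : Fˣ) : F), ?_, ?_⟩
  · rw [← Units.val_pow_eq_pow_val, ← pow_mul]
    have h8 : (q - 1) * j'' * r = (q - 1) * (r * j'') := by ring
    rw [h8, hj, Units.val_mk0]
  · rw [← Units.val_pow_eq_pow_val, ← pow_mul]
    have h8 : (q - 1) * j'' * (q + 1) = (q ^ 2 - 1) * j'' := by rw [← hqq]; ring
    rw [h8, pow_mul, ← hord, pow_orderOf_eq_one, one_pow, Units.val_one]

end Cfsg.Agent.Lib.Helper26.UNd
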