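import Mathlib
import Cfsg.Agent.Lib.Helper07.SL2QuatMain

/-!
# Abelian Sylow 2-subgroups of groups isomorphic to `PSL₂(K)`, `K` of odd characteristic

If `G ≃* PSL₂(K)` (`K` a finite field of odd characteristic) has an abelian Sylow 2-subgroup `T`,
then `T` has exponent 2.  (The Sylow 2-subgroups of `SL₂(K)` are generalised quaternion; all squares
of a generalised quaternion group lie in the cyclic group generated by one commutator.)
-/

set_option autoImplicit false

namespace Cfsg.Agent.Lib.Helper26.ZassEven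

open QuaternionGroup in
/-- in a generalised quaternion group `Q_{4n}` with `n` even every square is a power of the
commutator `[a 1, xa 0] = a 2` -/
theorem quat_sq_mem {n : ℕ} [NeZero n] (hn : Even n) (q : QuaternionGroup n) :
    ∃ m : ℕ, q * q = (a 1 * xa 0 * (a 1)⁻¹ * (xa 0)⁻¹ : QuaternionGroup n) ^ m := by
  have h2n : ((n : ZMod (2 * n)) + n) = 0 := by
    have : ((2 * n : ℕ) : ZMod (2 * n)) = 0 := ZMod.natCast_self _
    push_cast at this
    linear_combination this
  have hc : (a 1 * xa 0 * (a 1)⁻¹ * (xa 0)⁻¹ : QuaternionGroup n) = a 2 := by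
    have h1 : (a 1 : QuaternionGroup n)⁻¹ = a (-1) := by
      rw [inv_eq_iff_mul_eq_one, a_mul_a, one_def]; congr 1; ring
    have h2 : (xa 0 : QuaternionGroup n)⁻¹ = xa (n : ZMod (2 * n)) := by
      rw [inv_eq_iff_mul_eq_one, xa_mul_xa, one_def]; congr 1
      linear_combination h2n
    rw [h1, h2, a_mul_xa, xa_mul_a, xa_mul_xa]
    congr 1
    linear_combination h2n
  rw [hc]
  have hpow : ∀ m : ℕ, (a 2 : QuaternionGroup n) ^ m = a (2 * (m : ZMod (2 * n))) := by
    intro m
    induction m with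
    | zero => rw [pow_zero, one_def]; congr 1; push_cast; ring
    | succ m ih => rw [pow_succ, ih, a_mul_a]; congr 1; push_cast; ring
  rcases q with i | i
  · refine ⟨i.val, ?_⟩
    rw [hpow, a_mul_a, ZMod.natCast_zmod_val]
    congr 1; ring
  · obtain ⟨r, hr⟩ := hn
    refine ⟨r, ?_⟩
    rw [hpow, xa_mul_xa]
    congr 1
    have hr' : (n : ZMod (2 * n)) = (r : ZMod (2 * n)) + r := by
      have := congrArg (Nat.cast : ℕ → ZMod (2 * n)) hr
      push_cast at this
      exact this
    linear_combination hr'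

variable {G : Type*} [Group G] [Finite G]

/-- an abelian Sylow 2-subgroup of a group isomorphic to `PSL₂(K)`, `K` of odd characteristic, has
exponent 2 -/
theorem sq_eq_one_of_psl {K : Type} [Field K] [Fintype K] (hchar : ringChar K ≠ 2)
    (T : Sylow 2 G) (hTab : ∀ x ∈ T, ∀ y ∈ T, x * y = y * x)
    (e : G ≃* Matrix.ProjectiveSpecialLinearGroup (Fin 2) K) : ∀ u ∈ T, u * u = 1 := by
  classical
  have : Fact (Nat.Prime 2) := ⟨Nat.prime_two⟩
  have hodd : Odd (Fintype.card K) := Nat.odd_iff.mpr (FiniteField.odd_card_of_char_ne_two hchar)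
  -- the image of `T` in `PSL₂(K)`
  let T' : Sylow 2 (Matrix.ProjectiveSpecialLinearGroup (Fin 2) K) :=
    T.mapSurjective (f := e.toMonoidHom) e.surjective
  have hT' : ((T' : Subgroup (Matrix.ProjectiveSpecialLinearGroup (Fin 2) K))) =
      (T : Subgroup G).map e.toMonoidHom := rfl
  -- lift to a Sylow subgroup of `SL₂(K)`
  let π : Matrix.SpecialLinearGroup (Fin 2) K →* Matrix.ProjectiveSpecialLinearGroup (Fin 2) K :=
    QuotientGroup.mk' (Subgroup.center (Matrix.SpecialLinearGroup (Fin 2) K))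
  have hπ : Function.Surjective π := QuotientGroup.mk'_surjective _
  obtain ⟨P, hP⟩ := Sylow.mapSurjective_surjective hπ 2 T'
  have hP' : ((P : Subgroup (Matrix.SpecialLinearGroup (Fin 2) K))).map π =
      (T : Subgroup G).map e.toMonoidHom := by
    rw [← hT', ← hP]; rfl
  -- commutators of `P` are central
  have hcomm : ∀ x ∈ P, ∀ y ∈ P, x * y * x⁻¹ * y⁻¹ ∈
      Subgroup.center (Matrix.SpecialLinearGroup (Fin 2) K) := by
    intro x hx y hy
    have hx' : π x ∈ (T : Subgroup G).map e.toMonoidHom := by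
      rw [← hP']; exact ⟨x, hx, rfl⟩
    have hy' : π y ∈ (T : Subgroup G).map e.toMonoidHom := by
      rw [← hP']; exact ⟨y, hy, rfl⟩
    obtain ⟨s, hs, hsx⟩ := hx'
    obtain ⟨t, ht, hty⟩ := hy'
    have h1 : π x * π y = π y * π x := by
      rw [← hsx, ← hty, ← map_mul, ← map_mul, hTab s hs t ht]
    have h2 : π (x * y * x⁻¹ * y⁻¹) = 1 := by
      rw [map_mul, map_mul, map_mul, map_inv, map_inv, h1]; group
    rw [← QuotientGroup.ker_mk' (Subgroup.center (Matrix.SpecialLinearGroup (Fin 2) K))]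
    exact h2
  -- quaternion structure
  obtain ⟨k, hk, ⟨φ⟩⟩ := Cfsg.Agent.Lib.Helper07.sylow_two_SL_two_quaternion hodd P
  have hne : NeZero (2 ^ k) := ⟨by positivity⟩
  have hev : Even (2 ^ k) := by
    obtain ⟨j, rfl⟩ : ∃ j, k = j + 1 := ⟨k - 1, by omega⟩
    exact ⟨2 ^ j, by ring⟩
  have hsq : ∀ g ∈ P, g * g ∈ Subgroup.center (Matrix.SpecialLinearGroup (Fin 2) K) := by
    intro g hg
    set α : P := φ.symm (QuaternionGroup.a 1) with hα
    set β : P := φ.symm (QuaternionGroup.xa 0) with hβ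
    obtain ⟨m, hm⟩ := quat_sq_mem hev (φ ⟨g, hg⟩)
    have h3 : (⟨g, hg⟩ : P) * ⟨g, hg⟩ = (α * β * α⁻¹ * β⁻¹) ^ m := by
      apply φ.injective
      rw [map_mul, hm, map_pow, map_mul, map_mul, map_mul, map_inv, map_inv, hα, hβ,
        MulEquiv.apply_symm_apply, MulEquiv.apply_symm_apply]
    have h4 : g * g = ((α : Matrix.SpecialLinearGroup (Fin 2) K) * β * (α : _)⁻¹ * (β : _)⁻¹) ^ m := by
      have := congrArg (Subtype.val) h3
      simpa using this
    rw [h4]
    exact Subgroup.pow_mem _ (hcomm α α.2 β β.2) m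
  intro u hu
  have hu' : e u ∈ (P : Subgroup (Matrix.SpecialLinearGroup (Fin 2) K)).map π := by
    rw [hP']; exact ⟨u, hu, rfl⟩
  obtain ⟨g, hg, hgu⟩ := hu'
  apply e.injective
  rw [map_mul, map_one, ← hgu, ← map_mul]
  have := hsq g hg
  rw [← QuotientGroup.ker_mk' (Subgroup.center (Matrix.SpecialLinearGroup (Fin 2) K))] at this
  exact this

end Cfsg.Agent.Lib.Helper26.ZassEven
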