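import Mathlib
import Cfsg.Agent.S0740
import Cfsg.Agent.Lib.Helper26.ZassEvenA

/-!
# The structure equation `v u₀ v = u₀ v u₀` in a Zassenhaus group with an abelian 2-group kernel

Glue lemma for S1167: the conclusion of S0731 (sharply 3-transitive or `PSL₂(K)`, `K` odd) is taken
as a hypothesis.
-/

set_option autoImplicit false

namespace Cfsg.Agent.Lib.Helper26.ZassEven

open MulAction

variable {G Ω : Type*} [Group G] [Finite G] [MulAction G Ω] [Finite Ω]

/-- the embedding `Fin 3 ↪ α` given by three distinct points -/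
def emb3 {α : Type*} (a b c : α) (hab : a ≠ b) (hac : a ≠ c) (hbc : b ≠ c) : Fin 3 ↪ α :=
  ⟨![a, b, c], by
    intro i j hij
    fin_cases i <;> fin_cases j <;> simp_all⟩

/-- in a Zassenhaus group of odd degree every involution has exactly one fixed point -/
theorem invol_fix (hZ : Cfsg.IsZassenhausGroup G Ω) (hodd : Odd (Nat.card Ω)) (s : G)
    (hs1 : s ≠ 1) (hs2 : s * s = 1) :
    ∃ c : Ω, s • c = c ∧ ∀ d, s • d = d → d = c := by
  classical
  let _ := Fintype.ofFinite Ω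
  have hfaith : FaithfulSMul G Ω := hZ.1
  obtain ⟨d, hd⟩ : ∃ d : Ω, s • d ≠ d := by
    by_contra hcon
    push Not at hcon
    exact hs1 (hfaith.eq_of_smul_eq_smul (by intro x; rw [hcon x, one_smul]))
  have hord : orderOf s = 2 := orderOf_eq_prime (by rw [pow_two]; exact hs2) hs1
  have h := (Cfsg.Agent.S0740.result hZ (a := d) (b := s • d) (Ne.symm hd)).2.1 s hord rfl
    (by rw [← mul_smul, hs2, one_smul])
  have h1 := h.1 (by rwa [← Nat.card_eq_fintype_card])
  rw [Nat.card_eq_one_iff_unique] at h1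
  obtain ⟨hss, ⟨c⟩⟩ := h1
  exact ⟨c.1, c.2, fun d hd => congrArg Subtype.val (hss.elim ⟨d, hd⟩ c)⟩

omit [Finite G] in
/-- a nontrivial `2`-element has a power which is an involution -/
theorem exists_invol_pow {w : G} (hw1 : w ≠ 1) (hw : ∃ k : ℕ, w ^ 2 ^ k = 1) :
    ∃ m : ℕ, w ^ m ≠ 1 ∧ w ^ m * w ^ m = 1 := by
  obtain ⟨k, hk⟩ := hw
  obtain ⟨j, -, hj⟩ := (Nat.dvd_prime_pow Nat.prime_two).1 (orderOf_dvd_of_pow_eq_one hk)
  have hj0 : j ≠ 0 := by
    rintro rfl
    rw [pow_zero, orderOf_eq_one_iff] at hj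
    exact hw1 hj
  obtain ⟨i, rfl⟩ := Nat.exists_eq_succ_of_ne_zero hj0
  refine ⟨2 ^ i, ?_, ?_⟩
  · intro h
    have := orderOf_dvd_of_pow_eq_one h
    rw [hj] at this
    have h2 := Nat.le_of_dvd (by positivity) this
    rw [pow_succ] at h2
    have : 0 < 2 ^ i := by positivity
    omega
  · rw [← pow_add, ← two_mul, mul_comm, ← pow_succ, ← hj, pow_orderOf_eq_one]

theorem main (hZ : Cfsg.IsZassenhausGroup G Ω) {a : Ω}
    (U : Subgroup G) (hUle : U ≤ MulAction.stabilizer G a)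
    (hUn : ∀ h ∈ MulAction.stabilizer G a, ∀ u ∈ U, h * u * h⁻¹ ∈ U)
    (hreg : ∀ c d : Ω, c ≠ a → d ≠ a → ∃! u : U, (u : G) • c = d)
    (hU2 : IsPGroup 2 U) (hUab : ∀ u ∈ U, ∀ u' ∈ U, u * u' = u' * u)
    (h0731 : (MulAction.IsMultiplyPretransitive G Ω 3 ∧
        ∀ t : Fin 3 ↪ Ω, MulAction.stabilizer G t = ⊥) ∨
      ∃ (K : Type) (_ : Field K) (_ : Fintype K), ringChar K ≠ 2 ∧
        Nonempty (G ≃* Matrix.ProjectiveSpecialLinearGroup (Fin 2) K))
    (v : G) (hv1 : v ≠ 1) (hv2 : v * v = 1) (hva : v • a ≠ a) :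
    ∃! u₀ : G, u₀ ∈ U ∧ u₀ ≠ 1 ∧ v * u₀ * v = u₀ * v * u₀ := by
  classical
  have hp2 : Fact (Nat.Prime 2) := ⟨Nat.prime_two⟩
  have hfaith : FaithfulSMul G Ω := hZ.1
  have h3 := hZ.2.2.1
  have hUa : ∀ u ∈ U, u • a = a := fun u hu => hUle hu
  have hne_a : ∀ u ∈ U, ∀ c : Ω, c ≠ a → u • c ≠ a := by
    intro u hu c hc h'
    apply hc
    have : c = u⁻¹ • a := by rw [← h', inv_smul_smul]
    rw [this]
    exact hUa _ (U.inv_mem hu)
  have huniq : ∀ u ∈ U, ∀ u' ∈ U, ∀ c : Ω, c ≠ a → u • c = u' • c → u = u' := by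
    intro u hu u' hu' c hc h
    obtain ⟨w, -, hw⟩ := hreg c (u' • c) hc (hne_a u' hu' c hc)
    have e1 := hw ⟨u, hu⟩ h
    have e2 := hw ⟨u', hu'⟩ rfl
    exact congrArg Subtype.val (e1.trans e2.symm)
  have hsemi : ∀ u ∈ U, ∀ c : Ω, c ≠ a → u • c = c → u = 1 := by
    intro u hu c hc huc
    exact huniq u hu 1 U.one_mem c hc (by rw [huc, one_smul])
  -- the point `b`
  obtain ⟨b, hb⟩ : ∃ b : Ω, b = v • a := ⟨_, rfl⟩
  have hba : b ≠ a := by rw [hb]; exact hva
  have hvb : v • b = a := by rw [hb, ← mul_smul, hv2, one_smul]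
  -- cardinalities
  have hcardU : Nat.card {c : Ω // c ≠ a} = Nat.card U := by
    symm
    refine Nat.card_congr (Equiv.ofBijective
      (fun u : U => (⟨(u : G) • b, hne_a u u.2 b hba⟩ : {c : Ω // c ≠ a})) ⟨?_, ?_⟩)
    · intro u u' h
      have : (u : G) • b = (u' : G) • b := congrArg Subtype.val h
      exact Subtype.ext (huniq u u.2 u' u'.2 b hba this)
    · rintro ⟨d, hd⟩
      obtain ⟨w, hw, -⟩ := hreg b d hba hd
      exact ⟨w, Subtype.ext hw⟩
  have hcardΩ : Nat.card Ω = Nat.card U + 1 := by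
    rw [← hcardU, ← Nat.card_congr (Equiv.optionSubtypeNe a), Finite.card_option]
  -- `U` is nontrivial
  obtain ⟨g0, hg0, p, q, hpq, hgp, hgq⟩ := hZ.2.2.2.1
  obtain ⟨r, hr⟩ : ∃ r : Ω, g0 • r ≠ r := by
    by_contra hcon
    push Not at hcon
    exact hg0 (hfaith.eq_of_smul_eq_smul (by intro x; rw [hcon x, one_smul]))
  have hrp : r ≠ p := by rintro rfl; exact hr hgp
  have hrq : r ≠ q := by rintro rfl; exact hr hgq
  obtain ⟨c1, c2, hc1, hc2, hc12⟩ : ∃ c1 c2 : Ω, c1 ≠ a ∧ c2 ≠ a ∧ c1 ≠ c2 := by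
    by_cases hpa : p = a
    · exact ⟨q, r, by rw [← hpa]; exact hpq.symm, by rw [← hpa]; exact hrp, hrq.symm⟩
    · by_cases hqa : q = a
      · exact ⟨p, r, hpa, by rw [← hqa]; exact hrq, hrp.symm⟩
      · exact ⟨p, q, hpa, hqa, hpq⟩
  obtain ⟨w0, hw0, -⟩ := hreg c1 c2 hc1 hc2
  have hw0ne : w0 ≠ 1 := by
    intro h
    rw [h, Subgroup.coe_one, one_smul] at hw0
    exact hc12 hw0
  obtain ⟨n, hn⟩ := IsPGroup.iff_card.mp hU2
  have hn0 : n ≠ 0 := by
    rintro rfl
    rw [pow_zero] at hn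
    have : Subsingleton U := (Nat.card_eq_one_iff_unique.mp hn).1
    exact hw0ne (Subsingleton.elim w0 1)
  have hoddΩ : Odd (Nat.card Ω) := by
    rw [hcardΩ, hn]
    obtain ⟨m, rfl⟩ := Nat.exists_eq_succ_of_ne_zero hn0
    exact ⟨2 ^ m, by rw [Nat.succ_eq_add_one, pow_succ]; ring⟩
  -- the fixed point of `v`
  obtain ⟨c, hvc, hcuniq⟩ := invol_fix hZ hoddΩ v hv1 hv2
  have hca : c ≠ a := by rintro rfl; exact hva hvc
  have hcb : c ≠ b := by
    intro h
    rw [h] at hvc
    exact hba (hvc.symm.trans hvb)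
  obtain ⟨u0', hu0c, -⟩ := hreg b c hba hca
  obtain ⟨u0, hu0⟩ : ∃ u0 : G, u0 = (u0' : G) := ⟨_, rfl⟩
  have hu0U : u0 ∈ U := by rw [hu0]; exact u0'.2
  have hu0b : u0 • b = c := by rw [hu0]; exact hu0c
  have hu0ne : u0 ≠ 1 := by
    intro h
    rw [h, one_smul] at hu0b
    exact hcb hu0b.symm
  -- `u0` is an involution
  have hu0sq : u0 * u0 = 1 := by
    rcases h0731 with ⟨h3t, -⟩ | ⟨K, _, _, hchar, ⟨e⟩⟩
    · -- 3-transitive case
      have h2dvd : 2 ∣ Nat.card U := by rw [hn]; exact dvd_pow_self 2 hn0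
      obtain ⟨t, ht⟩ := exists_prime_orderOf_dvd_card' 2 h2dvd
      have ht1 : (t : G) ≠ 1 := by
        intro h
        have : t = 1 := Subtype.ext h
        rw [this, orderOf_one] at ht
        omega
      have ht2 : (t : G) * t = 1 := by
        have := pow_orderOf_eq_one t
        rw [ht, pow_two] at this
        exact congrArg Subtype.val this
      have htb : (t : G) • b ≠ b := fun h => ht1 (hsemi t t.2 b hba h)
      have htba : (t : G) • b ≠ a := hne_a t t.2 b hba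
      obtain ⟨g, hga, hgb, hgc⟩ : ∃ g : G, g • a = a ∧ g • b = b ∧ g • ((t : G) • b) = c := by
        obtain ⟨g, hg⟩ := (isMultiplyPretransitive_iff.1 h3t)
          (emb3 a b ((t : G) • b) hba.symm htba.symm htb.symm) (emb3 a b c hba.symm hca.symm hcb.symm)
        have h0 := congrArg (fun x : Fin 3 ↪ Ω => x 0) hg
        have h1 := congrArg (fun x : Fin 3 ↪ Ω => x 1) hg
        have h2 := congrArg (fun x : Fin 3 ↪ Ω => x 2) hg
        simp only [Function.Embedding.smul_apply] at h0 h1 h2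
        exact ⟨g, h0, h1, h2⟩
      have hgU : g * t * g⁻¹ ∈ U := hUn g hga t t.2
      have hgb' : g⁻¹ • b = b := by rw [inv_smul_eq_iff, hgb]
      have hgt : g * t * g⁻¹ = u0 := by
        apply huniq _ hgU _ hu0U b hba
        rw [hu0b, mul_smul, mul_smul, hgb', hgc]
      rw [← hgt]
      calc g * t * g⁻¹ * (g * t * g⁻¹) = g * ((t : G) * t) * g⁻¹ := by group
        _ = 1 := by rw [ht2]; group
    · -- `PSL₂(K)` case: `U` is a Sylow 2-subgroup
      obtain ⟨T, hUT⟩ := IsPGroup.exists_le_sylow hU2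
      -- `T` fixes a point, which must be `a`
      have hTfix : ∀ t ∈ T, t • a = a := by
        have hnd : ¬ 2 ∣ Nat.card Ω := by
          rw [← Nat.not_even_iff_odd] at hoddΩ
          intro h
          exact hoddΩ (even_iff_two_dvd.mpr h)
        obtain ⟨x, hx⟩ := IsPGroup.nonempty_fixed_point_of_prime_not_dvd_card (α := Ω) T.2 hnd
        rw [MulAction.mem_fixedPoints] at hx
        have hxa : x = a := by
          by_contra hxa
          have := hx ⟨(w0 : G), hUT w0.2⟩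
          exact hw0ne (Subtype.ext (hsemi w0 w0.2 x hxa this))
        intro t ht
        have := hx ⟨t, ht⟩
        rw [hxa] at this
        exact this
      have hTU : ∀ t ∈ T, t ∈ U := by
        intro t ht
        have htb : t • b ≠ a := by
          intro h
          apply hba
          have : b = t⁻¹ • a := by rw [← h, inv_smul_smul]
          rw [this]
          exact hTfix _ (T.inv_mem ht)
        obtain ⟨u, hu, -⟩ := hreg b (t • b) hba htb
        -- `w = u⁻¹ t` fixes `a` and `b`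
        have hwT : (u : G)⁻¹ * t ∈ T := T.mul_mem (T.inv_mem (hUT u.2)) ht
        have hwa : ((u : G)⁻¹ * t) • a = a := by
          rw [mul_smul, hTfix t ht, inv_smul_eq_iff, hUa u u.2]
        have hwb : ((u : G)⁻¹ * t) • b = b := by
          rw [mul_smul, inv_smul_eq_iff, hu]
        have hw1 : (u : G)⁻¹ * t = 1 := by
          by_contra hw1
          have hk : ∃ k : ℕ, ((u : G)⁻¹ * t) ^ 2 ^ k = 1 := by
            obtain ⟨k, hk⟩ := T.2 ⟨(u : G)⁻¹ * t, hwT⟩
            exact ⟨k, congrArg Subtype.val hk⟩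
          obtain ⟨m, hm1, hm2⟩ := exists_invol_pow hw1 hk
          obtain ⟨x, -, hxu⟩ := invol_fix hZ hoddΩ _ hm1 hm2
          have hma : ((u : G)⁻¹ * t) ^ m • a = a :=
            (MulAction.stabilizer G a).pow_mem (MulAction.mem_stabilizer_iff.mpr hwa) m
          have hmb : ((u : G)⁻¹ * t) ^ m • b = b :=
            (MulAction.stabilizer G b).pow_mem (MulAction.mem_stabilizer_iff.mpr hwb) m
          exact hba ((hxu b hmb).trans (hxu a hma).symm)
        have : t = u := by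
          rw [inv_mul_eq_one] at hw1
          exact hw1.symm
        rw [this]
        exact u.2
      have hTab : ∀ x ∈ T, ∀ y ∈ T, x * y = y * x :=
        fun x hx y hy => hUab x (hTU x hx) y (hTU y hy)
      exact sq_eq_one_of_psl hchar T hTab e u0 (hUT hu0U)
  have hu0c' : u0 • c = b := by
    rw [← hu0b, ← mul_smul, hu0sq, one_smul]
  -- existence and uniqueness
  refine ⟨u0, ⟨hu0U, hu0ne, ?_⟩, ?_⟩
  · have hxa : (v * u0) • a = b := by rw [mul_smul, hUa u0 hu0U, hb]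
    have hxb : (v * u0) • b = c := by rw [mul_smul, hu0b, hvc]
    have hxc : (v * u0) • c = a := by rw [mul_smul, hu0c', hvb]
    have hx3 : (v * u0) * (v * u0) * (v * u0) = 1 := by
      apply h3 _ a b c hba.symm hcb.symm hca.symm
      · rw [mul_smul, mul_smul, hxa, hxb, hxc]
      · rw [mul_smul, mul_smul, hxb, hxc, hxa]
      · rw [mul_smul, mul_smul, hxc, hxa, hxb]
    have hvinv : v⁻¹ = v := inv_eq_of_mul_eq_one_right hv2
    have huinv : u0⁻¹ = u0 := inv_eq_of_mul_eq_one_right hu0sq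
    calc v * u0 * v = v * u0 * v * (u0 * v * u0) * (u0 * v * u0)⁻¹ := by group
      _ = (v * u0 * (v * u0) * (v * u0)) * (u0 * v * u0)⁻¹ := by group
      _ = (u0 * v * u0)⁻¹ := by rw [hx3, one_mul]
      _ = u0⁻¹ * v⁻¹ * u0⁻¹ := by group
      _ = u0 * v * u0 := by rw [hvinv, huinv]
  · rintro u1 ⟨hu1U, hu1ne, hu1⟩
    have h1 : (v * u1 * v) • a = v • (u1 • b) := by
      rw [mul_smul, mul_smul, ← hb]
    have h2 : (u1 * v * u1) • a = u1 • b := by
      rw [mul_smul, mul_smul, hUa u1 hu1U, ← hb]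
    rw [hu1, h2] at h1
    have h3' := hcuniq _ h1.symm
    exact huniq u1 hu1U u0 hu0U b hba (h3'.trans hu0b.symm)

end Cfsg.Agent.Lib.Helper26.ZassEven
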